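import Cfsg.Agent.Lib.BenderQ.CountEnough

/-!
The counting theorem inside a subgroup of a point stabiliser: if two involutions with the same centre
do not commute, then some element of prime order of the subgroup fixes three points and has no four
group in its centraliser.
-/

set_option autoImplicit false
set_option linter.unusedSectionVars false

namespace CfsgLib.BenderQ.Residual

open CfsgLib.BenderTrans CfsgLib.Involutions MulAction

universe u

variable {G : Type u} [Group G] [Finite G] {Ω : Type u} [MulAction G Ω] [Finite Ω]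

/-- **The counting theorem inside a subgroup of a point stabiliser.** -/
theorem exists_noFour (S : Step G Ω)
    (hodd : ∀ X : Type u, ∀ _ : Group X, ∀ _ : Finite X, Odd (Nat.card X) → Group.IsSolvable X)
    {c y : Ω} (hy : y ≠ c)
    (hnc : ¬ ∀ s ∈ invAt G c, ∀ t ∈ invAt G c, Commute s t) {T' : Subgroup G}
    (hle : T' ≤ stabilizer G c)
    (htwo : ∀ g : G, g • c = c → (∃ k, orderOf g = 2 ^ k) → g ∈ T')
    (htr : ∀ w, w ≠ c → ∃ g ∈ T', g • y = w)
    (hX : ∀ s ∈ invAt G c, ∀ t ∈ invAt G c,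
      ∃ d ∈ T' ⊓ BenderTrans.two G c y, d * s * d⁻¹ = t) :
    ∃ x ∈ T' ⊓ BenderTrans.two G c y, (orderOf x).Prime ∧ 2 < {w : Ω | x • w = w}.ncard ∧
      ¬ FourIn (Subgroup.centralizer ({x} : Set G)) := by
  classical
  by_contra hno
  push Not at hno
  apply hnc
  set T'' : Subgroup (stabilizer G c) := T'.subgroupOf (stabilizer G c)
  let y' : {w : Ω // w ≠ c} := ⟨y, hy⟩
  have hmem : ∀ g : T'', g ∈ stabilizer T'' y' ↔
      ((g : stabilizer G c) : G) ∈ T' ⊓ BenderTrans.two G c y := by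
    intro g
    rw [mem_stabilizer_iff, Subgroup.mem_inf, mem_two_iff, Subtype.ext_iff, Subgroup.smul_def,
      smul_other_coe]
    exact ⟨fun e => ⟨Subgroup.mem_subgroupOf.1 g.2, (g : stabilizer G c).2, e⟩, fun e => e.2.2⟩
  have hcard : Nat.card (stabilizer T'' y') ∣ Nat.card (BenderTrans.two G c y) := by
    let f : stabilizer T'' y' →* BenderTrans.two G c y :=
      { toFun := fun g => ⟨((g.1 : stabilizer G c) : G), ((hmem g.1).1 g.2).2⟩
        map_one' := rfl
        map_mul' := fun _ _ => rfl }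
    refine Subgroup.card_dvd_of_injective f fun a b e => ?_
    exact Subtype.ext (Subtype.ext (Subtype.ext (congrArg (fun v : BenderTrans.two G c y => (v : G)) e)))
  have hodd2 : Odd (Nat.card (stabilizer T'' y')) :=
    (S.base.odd_two hy.symm).of_dvd_nat hcard
  have htr' : ∀ w : {w : Ω // w ≠ c}, ∃ g : T'', g • y' = w := by
    intro w
    obtain ⟨g, hg, hgw⟩ := htr w w.2
    exact ⟨⟨⟨g, hle hg⟩, Subgroup.mem_subgroupOf.2 hg⟩, Subtype.ext hgw⟩
  obtain ⟨s₀, hs₀⟩ := S.base.exists_invAt c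
  let x₀ : invAt G c := ⟨s₀, hs₀⟩
  have hX' : ∀ x : invAt G c, ∃ d ∈ stabilizer T'' y', d • x₀ = x := by
    intro x
    obtain ⟨d, hd, hdx⟩ := hX s₀ hs₀ x x.2
    refine ⟨⟨⟨d, hle hd.1⟩, Subgroup.mem_subgroupOf.2 hd.1⟩, (hmem _).2 hd, Subtype.ext ?_⟩
    exact hdx
  have hH : ∀ b ∈ stabilizer T'' y', b ≠ 1 →
      (fixedBy {w : Ω // w ≠ c} b).ncard ≤ (Count.coprimeCent y' b).ncard := by
    intro b hb hb1
    set b₀ : G := ((b : stabilizer G c) : G) with hb₀
    have hbm := (hmem b).1 hb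
    have hb₀1 : b₀ ≠ 1 := fun e => hb1 (Subtype.ext (Subtype.ext e))
    have e1 : (fixedBy {w : Ω // w ≠ c} b).ncard = {w : Ω | w ≠ c ∧ b₀ • w = w}.ncard := by
      refine Set.ncard_congr (fun w _ => (w : Ω)) (fun w hw => ⟨w.2, congrArg Subtype.val hw⟩)
        (fun a a' _ _ e => Subtype.ext e) fun w hw => ⟨⟨w, hw.1⟩, Subtype.ext hw.2, rfl⟩
    by_cases h3 : 2 < {w : Ω | b₀ • w = w}.ncard
    · have hF : ∀ e : ℕ, (orderOf (b₀ ^ e)).Prime → 2 < {w : Ω | (b₀ ^ e) • w = w}.ncard →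
          FourIn (Subgroup.centralizer ({b₀ ^ e} : Set G)) := fun e he he3 =>
        hno _ (Subgroup.pow_mem _ hbm e) he he3
      choose h hhc hhb hh2 hhz using fun (w : {w : Ω | w ≠ c ∧ b₀ • w = w}) =>
        S.exists_cent_two_of_powers hodd hy hF hb₀1 hbm.2 h3 w.2.1 w.2.2
      let h' : {w : Ω | w ≠ c ∧ b₀ • w = w} → T'' := fun w =>
        ⟨⟨h w, hhc w⟩, Subgroup.mem_subgroupOf.2 (htwo _ (hhc w) (hh2 w))⟩
      have hinj : Function.Injective h' := by
        intro w w' e
        have e' : h w = h w' := congrArg (fun g : T'' => ((g : stabilizer G c) : G)) e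
        exact Subtype.ext ((hhz w).symm.trans ((congrArg (· • y) e').trans (hhz w')))
      rw [e1, ← Nat.card_coe_set_eq]
      refine (Nat.card_range_of_injective hinj).ge.trans ?_
      rw [Nat.card_coe_set_eq]
      refine Set.ncard_le_ncard ?_ (Set.toFinite _)
      rintro _ ⟨w, rfl⟩
      refine ⟨Subtype.ext (Subtype.ext (hhb w)), ?_⟩
      obtain ⟨k, hk⟩ := hh2 w
      rw [← Subgroup.orderOf_coe, ← Subgroup.orderOf_coe]
      rw [show (((h' w : T'') : stabilizer G c) : G) = h w from rfl, hk]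
      exact (Nat.coprime_two_left.2 hodd2).pow_left k
    · have h1 : {w : Ω | w ≠ c ∧ b₀ • w = w} = {w : Ω | b₀ • w = w} \ {c} := by
        ext w
        simp [and_comm]
      rw [e1, h1, Set.ncard_sdiff_singleton_of_mem
        (show c ∈ {w : Ω | b₀ • w = w} from (mem_two_iff.1 hbm.2).1)]
      have h2 : 1 ≤ (Count.coprimeCent y' b).ncard :=
        (Set.ncard_pos (Set.toFinite _)).2
          ⟨1, Commute.one_right b, by rw [orderOf_one]; exact Nat.coprime_one_left _⟩
      omega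
  obtain ⟨Z, -, hZfix, hZmem, -⟩ := Count.exists_trivial_set y' htr' x₀ hX' hH
  intro s hs t ht
  have hsT : s ∈ T' := htwo s hs.2 ⟨1, by rw [pow_one]; exact hs.1⟩
  have hZs : (⟨⟨s, hs.2⟩, Subgroup.mem_subgroupOf.2 hsT⟩ : T'') ∈ Z := by
    refine hZmem _ ?_
    rw [← Subgroup.orderOf_coe, ← Subgroup.orderOf_coe]
    rw [show orderOf s = 2 from hs.1, Nat.coprime_two_left]
    exact hodd2
  have h1 : s * t * s⁻¹ = t := congrArg Subtype.val (hZfix _ hZs ⟨t, ht⟩)
  exact mul_inv_eq_iff_eq_mul.1 h1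

end CfsgLib.BenderQ.Residual
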