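import Cfsg.Agent.Lib.BenderQ.Kernel
import Cfsg.Agent.Lib.Characters.PermChar
import Cfsg.Prelude.Def_Characters

/-!
Named statements between the pieces of the proof that involutions with the same centre commute
(component case of Bender's theorem).
-/

set_option autoImplicit false

namespace CfsgLib.BenderQ.Residual

open Cfsg CfsgLib.BenderTrans MulAction

universe u v

/-- The elements of `N` inverted by `r`. -/
def invSet {G : Type u} [Group G] (N : Subgroup G) (r : G) : Set G :=
  {j | j ∈ N ∧ r * j * r⁻¹ = j⁻¹}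

/-- For every element of prime order of `N` fixed by `r`, the inverted elements commuting with it
lie in one cyclic subgroup. -/
def CyclicCentral {G : Type u} [Group G] (N : Subgroup G) (r : G) : Prop :=
  ∀ s ∈ N, (orderOf s).Prime → Commute r s →
    ∃ A : Subgroup G, IsCyclic A ∧ ∀ j ∈ invSet N r, Commute s j → j ∈ A

/-- The conclusions on a section centralising an element of prime order with a four group in its
centraliser: a regular 2-group and cyclic inverted part. -/
structure SectFacts (G : Type u) [Group G] (Ω : Type v) [MulAction G Ω] : Prop where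
  lift : ∀ (c : Ω) (s : G), s • c = c → (orderOf s).Prime →
    FourIn (Subgroup.centralizer ({s} : Set G)) → c ∈ centres Ω (Subgroup.centralizer ({s} : Set G)) →
    ∃ Q : Subgroup G, IsPGroup 2 Q ∧ Q ≤ stabilizer G c ⊓ Subgroup.centralizer ({s} : Set G) ∧
      stabilizer G c ⊓ Subgroup.centralizer ({s} : Set G) ≤ Subgroup.normalizer (Q : Set G) ∧
      (∀ x ∈ centres Ω (Subgroup.centralizer ({s} : Set G)),
        ∀ y ∈ centres Ω (Subgroup.centralizer ({s} : Set G)), x ≠ c → y ≠ c → ∃ g ∈ Q, g • x = y) ∧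
      (∀ g ∈ Q, ∀ x ∈ centres Ω (Subgroup.centralizer ({s} : Set G)), x ≠ c → g • x = x → g = 1)
  cyclic : ∀ (c y : Ω), y ≠ c → ∀ r ∈ swaps G c y, ∀ s ∈ two G c y, (orderOf s).Prime → Commute r s →
    FourIn (Subgroup.centralizer ({s} : Set G)) →
    ∃ A : Subgroup G, IsCyclic A ∧ ∀ j ∈ invSet (two G c y) r, Commute s j → j ∈ A

/-- A transitive action of `T` with a nilpotent subgroup `L ⊔ N'` transitive, `L` a central
`l`-part whose nontrivial elements have small centralisers. -/
structure Packet (T : Type u) [Group T] [Fintype T] (X : Type v) [MulAction T X] [Fintype X]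
    (l : ℕ) (L N' : Subgroup T) : Prop where
  prime : l.Prime
  odd_l : l ≠ 2
  pgroup : IsPGroup l L
  ne_bot : L ≠ ⊥
  coprime : ¬ l ∣ Nat.card N'
  comm : ∀ y ∈ L, ∀ n ∈ N', Commute y n
  comm_L : ∀ y ∈ L, ∀ y' ∈ L, Commute y y'
  trans : ∀ a b : X, ∃ g ∈ L ⊔ N', g • a = b
  mult : ∀ [Fintype ↥(L ⊔ N')] (θ : IrrCharacter ↥(L ⊔ N')),
    classInner (fun g : ↥(L ⊔ N') => (fixedBy X (g : T)).ncard) (θ : ↥(L ⊔ N') → ℂ) = 0 ∨
      classInner (fun g : ↥(L ⊔ N') => (fixedBy X (g : T)).ncard) (θ : ↥(L ⊔ N') → ℂ) = 1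
  cent : ∀ y ∈ L, y ≠ 1 → Subgroup.centralizer ({y} : Set T) ≤ Subgroup.normalizer (N' : Set T)
  free : ∀ y ∈ L, y ≠ 1 → ∀ n ∈ N', ∀ x : X, (y * n) • x ≠ x
  normal_trans : ∀ K : Subgroup T, K.Normal → N' ≤ K → ∀ a b : X, ∃ g ∈ K, g • a = b

/-- The conclusion of the packet argument: an invariant equivalence with at least three classes, such
that a symmetric invariant relation joining a point to another class joins it to every other class. -/
def BlockSpread (T : Type u) [Group T] (X : Type v) [MulAction T X] : Prop :=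
  ∃ S : Setoid X, (∀ (g : T) a b, S a b → S (g • a) (g • b)) ∧
    (∃ a b d : X, ¬ S a b ∧ ¬ S a d ∧ ¬ S b d) ∧
    ∀ R : X → X → Prop, (∀ a b, R a b → R b a) → (∀ (g : T) a b, R a b → R (g • a) (g • b)) →
      ∀ a b d : X, ¬ S a b → ¬ S a d → R a b → ∃ d', S d d' ∧ R a d'

end CfsgLib.BenderQ.Residual
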