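import Cfsg.Agent.Lib.BenderQ.BlockEnd
import Cfsg.Agent.Lib.BenderQ.Residual.Defs

/-!
End of the component case: the conclusion of the packet argument is contradictory for the
conjugation action of a point stabiliser on its involutions.
-/

set_option autoImplicit false
set_option linter.style.haveILetI false
set_option linter.unusedSectionVars false

namespace CfsgLib.BenderQ.Residual

open CfsgLib.BenderTrans CfsgLib.Involutions CfsgLib.OddOrder MulAction

universe u

variable {G : Type u} [Group G] [Finite G] {Ω : Type u} [MulAction G Ω] [Finite Ω] {c : Ω}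

/-- The number of involutions at a point is odd. -/
theorem odd_card_invAt (h : OneFix G Ω) (c : Ω) : Odd (Nat.card (invAt G c)) := by
  classical
  obtain ⟨z, hz⟩ := h.nontriv c
  obtain ⟨t, ht⟩ := h.exists_invAt c
  set D : Subgroup (stabilizer G c) := (BenderTrans.two G c z).subgroupOf (stabilizer G c) with hD
  have horb : orbit D (⟨t, ht⟩ : invAt G c) = Set.univ := by
    refine Set.eq_univ_of_forall fun x => ?_
    obtain ⟨d, hd, hdx⟩ := h.exists_conj_invAt hz.symm ht x.2
    exact ⟨⟨⟨d, (mem_two_iff.1 hd).1⟩, hd⟩, Subtype.ext hdx⟩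
  have h1 : Nat.card (invAt G c) ∣ Nat.card D := by
    have h2 := Nat.card_congr
      (MulAction.orbitEquivQuotientStabilizer D (⟨t, ht⟩ : invAt G c))
    rw [horb, Nat.card_univ] at h2
    rw [h2]
    exact Subgroup.card_quotient_dvd_card _
  have h3 : Nat.card D = Nat.card (BenderTrans.two G c z) :=
    Nat.card_congr (Subgroup.subgroupOfEquivOfLe (fun g hg => (mem_two_iff.1 hg).1)).toEquiv
  exact (h.odd_two hz.symm).of_dvd_nat (h3 ▸ h1)

/-- The endgame in the form of the packet argument. -/
theorem false_of_blockSpread (S : Step G Ω)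
    (hsolv : ∀ X : Type u, ∀ _ : Group X, ∀ _ : Finite X, Odd (Nat.card X) → Group.IsSolvable X)
    (hB : BlockSpread (stabilizer G c) (invAt G c))
    (htrans : ∀ K : Subgroup (stabilizer G c), K.Normal → K ≠ ⊥ →
      ∀ a b : invAt G c, ∃ g ∈ K, g • a = b) : False := by
  classical
  obtain ⟨R, hR, ⟨a, b, d, hab, -, -⟩, hspread⟩ := hB
  letI : MulAction (stabilizer G c) (Quotient R) :=
    { smul := fun g => Quotient.map (g • ·) fun x y hxy => hR g x y hxy
      one_smul := fun q => Quotient.inductionOn q fun x =>
        congrArg (Quotient.mk R) (one_smul _ x)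
      mul_smul := fun g g' q => Quotient.inductionOn q fun x =>
        congrArg (Quotient.mk R) (mul_smul g g' x) }
  have hsurj : Function.Surjective (Quotient.mk R) := Quotient.mk_surjective
  have heq : ∀ (g : stabilizer G c) (w : invAt G c),
      Quotient.mk R (g • w) = g • Quotient.mk R w := fun _ _ => rfl
  refine Step.false_of_blocks hsurj heq S hsolv ⟨_, _, fun e => hab (Quotient.exact e)⟩ ?_ ?_ ?_
  · intro w
    by_contra hcon
    push Not at hcon
    let K : Subgroup (stabilizer G c) := (MulAction.toPermHom (stabilizer G c) (Quotient R)).ker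
    have hwK : stabInv w ∈ K := MonoidHom.mem_ker.2 (Equiv.ext fun q => hcon q)
    have hne : K ≠ ⊥ := fun e => by
      rw [e, Subgroup.mem_bot] at hwK
      have := orderOf_stabInv w
      rw [hwK, orderOf_one] at this
      omega
    obtain ⟨g, hg, hga⟩ := htrans K inferInstance hne a b
    refine hab (Quotient.exact ?_)
    have h1 : g • Quotient.mk R a = Quotient.mk R a :=
      congrArg (fun e : Equiv.Perm (Quotient R) => e (Quotient.mk R a)) (MonoidHom.mem_ker.1 hg)
    rw [← h1, ← heq, hga]
  · intro q
    have hfib : ∀ q' : Quotient R, Nat.card {x : invAt G c // Quotient.mk R x = q'} =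
        Nat.card {x : invAt G c // Quotient.mk R x = q} := by
      intro q'
      obtain ⟨x, rfl⟩ := hsurj q
      obtain ⟨y, rfl⟩ := hsurj q'
      obtain ⟨z, hz⟩ := S.base.nontriv c
      obtain ⟨g, hg, hgy⟩ := S.base.exists_conj_invAt hz.symm x.2 y.2
      set g' : stabilizer G c := ⟨g, (mem_two_iff.1 hg).1⟩
      have hxy : g' • x = y := Subtype.ext hgy
      refine (Nat.card_congr ((MulAction.toPerm g' : Equiv.Perm (invAt G c)).subtypeEquiv
        fun w => ?_)).symm
      show Quotient.mk R w = Quotient.mk R x ↔ Quotient.mk R (g' • w) = Quotient.mk R y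
      rw [← hxy, heq, heq, smul_left_cancel_iff]
    have hsum : Nat.card (invAt G c) =
        Nat.card (Quotient R) * Nat.card {x : invAt G c // Quotient.mk R x = q} := by
      haveI := Fintype.ofFinite (Quotient R)
      rw [← Nat.card_congr (Equiv.sigmaFiberEquiv (Quotient.mk R)), Nat.card_sigma,
        Finset.sum_congr rfl fun q' _ => hfib q', Finset.sum_const, Finset.card_univ,
        smul_eq_mul, Nat.card_eq_fintype_card (α := Quotient R)]
    exact Nat.Odd.of_mul_right (hsum ▸ odd_card_invAt S.base c)
  · intro u v w huv huw hcom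
    obtain ⟨x, hwx, hux⟩ := hspread (fun x y => Commute (x : G) y) (fun x y e => e.symm)
      (fun g x y e => by
        show Commute ((g • x : invAt G c) : G) (g • y : invAt G c)
        rw [smul_invAt_coe, smul_invAt_coe]
        exact e.map (MulAut.conj (g : G)))
      u v w (fun e => huv (Quotient.sound e)) (fun e => huw (Quotient.sound e)) hcom.symm
    exact ⟨x, (Quotient.sound hwx).symm, hux.symm⟩

end CfsgLib.BenderQ.Residual
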