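import Mathlib

/-!
A symmetric idempotent matrix `E0 + E1`, with `E0` constant on fibres and `E1` supported in fibres,
whose entrywise square acts on its image as a scalar: the part `E0` has trace at least half the number
of fibres.
-/

set_option autoImplicit false

namespace CfsgLib.BenderQ.Residual

open Finset

variable {X : Type*} [Fintype X]

theorem sum_cube_nonneg (E : X → X → ℝ) (hsym : ∀ a b, E a b = E b a)
    (hidem : ∀ a b, ∑ x, E a x * E x b = E a b) : 0 ≤ ∑ a, ∑ x, E a x ^ 3 := by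
  have hcube : ∀ a x, E a x ^ 3 =
      ∑ i, ∑ j, ∑ k, (E a i * E a j * E a k) * (E x i * E x j * E x k) := by
    intro a x
    conv_lhs => rw [← hidem a x]
    rw [pow_three, Finset.sum_mul_sum, Finset.mul_sum]
    refine Finset.sum_congr rfl fun i _ => ?_
    rw [Finset.mul_sum]
    refine Finset.sum_congr rfl fun j _ => ?_
    rw [Finset.sum_mul]
    refine Finset.sum_congr rfl fun k _ => ?_
    rw [hsym i x, hsym j x, hsym k x]
    ring
  calc (0 : ℝ) ≤ ∑ i, ∑ j, ∑ k, (∑ a, E a i * E a j * E a k) ^ 2 := by positivity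
    _ = ∑ a, ∑ x, E a x ^ 3 := by
      simp only [hcube, sq, Finset.sum_mul_sum]
      symm
      rw [Finset.sum_comm]
      refine (Finset.sum_congr rfl fun x _ => Finset.sum_comm).trans ?_
      rw [Finset.sum_comm]
      refine Finset.sum_congr rfl fun i _ => ?_
      refine (Finset.sum_congr rfl fun x _ => Finset.sum_comm).trans ?_
      rw [Finset.sum_comm]
      refine Finset.sum_congr rfl fun j _ => ?_
      refine (Finset.sum_congr rfl fun x _ => Finset.sum_comm).trans ?_
      rw [Finset.sum_comm]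
      refine Finset.sum_congr rfl fun k _ => ?_
      rw [Finset.sum_comm]

theorem le_diag (E : X → X → ℝ) (hsym : ∀ a b, E a b = E b a)
    (hidem : ∀ a b, ∑ x, E a x * E x b = E a b) (s : ℝ) (hs : ∀ a, E a a = s) (a b : X) :
    E a b ≤ s := by
  have h1 : 2 * E a b ≤ ∑ x, (E a x * E x a + E b x * E x b) := by
    rw [← hidem a b, Finset.mul_sum]
    refine Finset.sum_le_sum fun x _ => ?_
    rw [hsym x a, hsym b x]
    nlinarith [sq_nonneg (E a x - E x b)]
  rw [Finset.sum_add_distrib, hidem, hidem, hs, hs] at h1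
  linarith

/-- The trace bound. -/
theorem one_le_two_mul {ι : Type*} [DecidableEq ι] [Nonempty X] (fib : X → ι) (N : ℕ)
    (hN : ∀ a, (univ.filter fun b => fib b = fib a).card = N)
    (E0 E1 : X → X → ℝ) (sym0 : ∀ a b, E0 a b = E0 b a) (sym1 : ∀ a b, E1 a b = E1 b a)
    (idem0 : ∀ a b, ∑ x, E0 a x * E0 x b = E0 a b) (idem1 : ∀ a b, ∑ x, E1 a x * E1 x b = E1 a b)
    (supp : ∀ a b, fib a ≠ fib b → E1 a b = 0)
    (const : ∀ a b b', fib b = fib b' → E0 a b = E0 a b')
    (row : ∀ a, ∑ b, E1 a b = 0) (t s c : ℝ) (diag0 : ∀ a, E0 a a = t) (diag1 : ∀ a, E1 a a = s)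
    (ht : 0 < t) (hs : 0 < s)
    (scal0 : ∀ a b, ∑ x, (E0 a x + E1 a x) ^ 2 * E0 x b = c * E0 a b)
    (scal1 : ∀ a b, ∑ x, (E0 a x + E1 a x) ^ 2 * E1 x b = c * E1 a b) :
    1 ≤ 2 * (N : ℝ) * t := by
  classical
  obtain ⟨a, ha⟩ : ∃ a, 0 ≤ ∑ x, E0 a x ^ 3 := by
    by_contra hcon
    push Not at hcon
    exact absurd (sum_cube_nonneg E0 sym0 idem0)
      (not_le.2 (Finset.sum_neg (fun a _ => hcon a) univ_nonempty))
  have hNpos : 0 < N := by
    rw [← hN a]
    exact Finset.card_pos.2 ⟨a, by simp⟩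
  -- on the support of `E1` the part `E0` is constant
  have hmul : ∀ x, E0 a x * E1 a x = t * E1 a x := by
    intro x
    by_cases h : fib a = fib x
    · rw [← const a a x h, diag0]
    · rw [supp a x h, mul_zero, mul_zero]
  have hsq : ∑ x, E1 a x ^ 2 = s := by
    rw [← diag1 a, ← idem1 a a]
    exact Finset.sum_congr rfl fun x _ => by rw [sq, sym1 x a]
  have hA : c * s = 2 * t * s + ∑ x, E1 a x ^ 3 := by
    rw [← diag1 a, ← scal1 a a, diag1]
    calc ∑ x, (E0 a x + E1 a x) ^ 2 * E1 x a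
        = ∑ x, (t ^ 2 * E1 a x + 2 * t * E1 a x ^ 2 + E1 a x ^ 3) := by
          refine Finset.sum_congr rfl fun x _ => ?_
          rw [sym1 x a]
          linear_combination (E0 a x + t) * hmul x + 2 * E1 a x * hmul x
      _ = _ := by
          rw [Finset.sum_add_distrib, Finset.sum_add_distrib, ← Finset.mul_sum, ← Finset.mul_sum,
            row, hsq, mul_zero, zero_add]
  have hB : c * t = ∑ x, E0 a x ^ 3 + t * s := by
    rw [← diag0 a, ← scal0 a a, diag0]
    calc ∑ x, (E0 a x + E1 a x) ^ 2 * E0 x a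
        = ∑ x, (E0 a x ^ 3 + (2 * t ^ 2 * E1 a x + t * E1 a x ^ 2)) := by
          refine Finset.sum_congr rfl fun x _ => ?_
          rw [sym0 x a]
          linear_combination (2 * E0 a x + 2 * t + E1 a x) * hmul x
      _ = _ := by
          rw [Finset.sum_add_distrib, Finset.sum_add_distrib, ← Finset.mul_sum, ← Finset.mul_sum,
            row, hsq, mul_zero, zero_add]
  have hC : ∑ x, E1 a x ^ 3 ≤ s ^ 2 - s / N := by
    have h0 : 0 ≤ ∑ x ∈ univ.filter (fun b => fib b = fib a),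
        (E1 a x + 1 / (N : ℝ)) ^ 2 * (s - E1 a x) :=
      Finset.sum_nonneg fun x _ => mul_nonneg (sq_nonneg _)
        (sub_nonneg.2 (le_diag E1 sym1 idem1 s diag1 a x))
    have hall : ∀ f : ℝ → ℝ, f 0 = 0 →
        ∑ x ∈ univ.filter (fun b => fib b = fib a), f (E1 a x) = ∑ x, f (E1 a x) := fun f hf =>
      Finset.sum_filter_of_ne fun x _ hx => by
        by_contra h
        exact hx (by rw [supp a x (Ne.symm h), hf])
    have h1 := hall (fun z => z ^ 2) (by norm_num)
    have h2 := hall (fun z => z ^ 3) (by norm_num)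
    have h3 := hall (fun z => z) rfl
    have hexp : ∀ x, (E1 a x + 1 / (N : ℝ)) ^ 2 * (s - E1 a x) =
        (s - 2 / N) * E1 a x ^ 2 - E1 a x ^ 3 + (2 * s / N - 1 / (N : ℝ) ^ 2) * E1 a x
          + s / (N : ℝ) ^ 2 := fun x => by ring
    rw [Finset.sum_congr rfl fun x _ => hexp x, Finset.sum_add_distrib, Finset.sum_add_distrib,
      Finset.sum_sub_distrib, ← Finset.mul_sum, ← Finset.mul_sum, h1, h2, h3, row, hsq,
      Finset.sum_const, hN, nsmul_eq_mul] at h0
    have hN0 : (N : ℝ) ≠ 0 := Nat.cast_ne_zero.2 hNpos.ne'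
    have e : (s - 2 / N) * s - ∑ x, E1 a x ^ 3 + (2 * s / N - 1 / (N : ℝ) ^ 2) * 0 +
        N * (s / (N : ℝ) ^ 2) = s ^ 2 - s / N - ∑ x, E1 a x ^ 3 := by
      field_simp
      ring
    linarith
  have hcs : s ≤ c := le_of_mul_le_mul_right (by linarith) ht
  have hkey : s * (1 / (N : ℝ)) ≤ s * (2 * t) := by
    have : s / (N : ℝ) = s * (1 / (N : ℝ)) := by ring
    nlinarith [mul_le_mul_of_nonneg_left hcs hs.le]
  have h5 := le_of_mul_le_mul_left hkey hs
  rw [div_le_iff₀ (Nat.cast_pos.2 hNpos)] at h5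
  linarith

end CfsgLib.BenderQ.Residual
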