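import Cfsg.Agent.Lib.BenderQ.Residual.Defs
import Cfsg.Agent.Lib.Blocks.PrincipalColumn
import Cfsg.Agent.Lib.Blocks.Knorr

/-!
The principal `l`-block of a transitive group with a packet `L`, `N'`: its characters are constant on
the cosets `y N'` for nontrivial `y` in `L`, and its part of the permutation character vanishes there.
-/

set_option autoImplicit false
set_option linter.unusedSectionVars false
set_option linter.style.haveILetI false

noncomputable section

namespace CfsgLib.BenderQ.Residual

open Cfsg CfsgLib.Characters CfsgLib.Blocks MulAction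

universe u v

variable {T : Type u} [Group T] [Fintype T] {X : Type v} [MulAction T X] [Fintype X]
variable {l : ℕ} {L N' : Subgroup T}

omit [Fintype T] [Fintype X] in
/-- The permutation character is a class function. -/
theorem isClassFunction_fixedBy :
    IsClassFunction T (fun g : T => ((fixedBy X g).ncard : ℂ)) := by
  intro g h
  show ((fixedBy X (h * g * h⁻¹)).ncard : ℂ) = ((fixedBy X g).ncard : ℂ)
  rw [← smul_fixedBy, ← Set.image_smul, Set.ncard_image_of_injective _ (MulAction.injective h)]

/-- The principal block seen from a packet. -/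
theorem Packet.exists_principalSet (P : Packet T X l L N') :
    ∃ B : Finset (IrrCharacter T), principalIrr T ∈ B ∧
      ∀ y ∈ L, y ≠ 1 → ∀ n ∈ N',
        (∀ χ ∈ B, (χ : T → ℂ) (y * n) = (χ : T → ℂ) y) ∧
        ∑ χ ∈ B, classInner (fun g : T => ((fixedBy X g).ncard : ℂ)) (χ : T → ℂ) *
          (χ : T → ℂ) (y * n) = 0 := by
  classical
  haveI : Fact l.Prime := ⟨P.prime⟩
  obtain ⟨M, hM⟩ := exists_isPModular (p := l)
  refine ⟨Finset.univ.filter (· ∈ principalBlock M T),
    Finset.mem_filter.2 ⟨Finset.mem_univ _, principalIrr_mem hM⟩, ?_⟩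
  intro y hy hy1 n hn
  set C := Subgroup.centralizer ({y} : Set T) with hC
  have hle : N' ≤ C := fun m hm =>
    Subgroup.mem_centralizer_singleton_iff.2 (P.comm y hy m hm).eq.symm
  haveI : (N'.subgroupOf C).Normal :=
    (Subgroup.normal_subgroupOf_iff_le_normalizer hle).2 (P.cent y hy hy1)
  obtain ⟨k, hk⟩ := P.pgroup ⟨y, hy⟩
  have hyk : ∃ k : ℕ, orderOf y = l ^ k := by
    obtain ⟨i, -, hi⟩ := (Nat.dvd_prime_pow P.prime).1
      (orderOf_dvd_of_pow_eq_one (by simpa using congrArg Subtype.val hk : y ^ l ^ k = 1))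
    exact ⟨i, hi⟩
  have hcop : ¬ l ∣ Nat.card (N'.subgroupOf C) := by
    rw [Nat.card_congr (Subgroup.subgroupOfEquivOfLe hle).toEquiv]
    exact P.coprime
  have hconst : ∀ χ ∈ principalBlock M T, (χ : T → ℂ) (y * n) = (χ : T → ℂ) y := fun χ hχ =>
    principal_apply_mul hM hyk hcop (v := ⟨n, hle hn⟩) hn hχ
  refine ⟨fun χ hχ => hconst χ (Finset.mem_filter.1 hχ).2, ?_⟩
  rw [Finset.sum_congr rfl fun χ hχ => by rw [hconst χ (Finset.mem_filter.1 hχ).2]]
  refine sum_principal_eq_zero_of_section hM hyk _ fun w hw hwl => ?_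
  have h0 : ((fixedBy X (y * w)).ncard : ℂ) = 0 := by
    have he : fixedBy X (y * w) = ∅ := by
      refine Set.eq_empty_iff_forall_notMem.2 fun x hx => ?_
      obtain ⟨i, hi⟩ := hyk
      have hco : (orderOf w).Coprime (orderOf y) := by
        rw [hi]
        exact ((P.prime.coprime_iff_not_dvd.2 hwl).pow_left i).symm
      obtain ⟨j, hj⟩ := exists_pow_eq_self_of_coprime (x := y) hco
      have hfix : (y * w) ^ orderOf w • x = x := (stabilizer T x).pow_mem (mem_stabilizer_iff.2 hx) _
      rw [hw.symm.mul_pow, pow_orderOf_eq_one, mul_one] at hfix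
      have hfix' : (y ^ orderOf w) ^ j • x = x := (stabilizer T x).pow_mem (mem_stabilizer_iff.2 hfix) j
      rw [hj] at hfix'
      exact P.free y hy hy1 1 (one_mem _) x (by rwa [mul_one])
    simp [he]
  rw [← h0]
  have h1 := congrFun (classFunction_eq_sum (isClassFunction_fixedBy (T := T) (X := X))) (y * w)
  simp only [Finset.sum_apply, Pi.smul_apply, smul_eq_mul] at h1
  exact h1.symm

end CfsgLib.BenderQ.Residual
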