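import Cfsg.Agent.Lib.HeckeCenter.Constituents
import Cfsg.Agent.Lib.PermSmall.PermCentraliser
import Cfsg.Agent.Lib.Characters.BrauerPerm

/-!
The projections of a permutation module belonging to irreducible characters, as matrices, and the
scalar action on them of an invariant matrix when a subgroup is multiplicity free.
-/

set_option autoImplicit false

noncomputable section

namespace CfsgLib.BenderQ.Residual

open Cfsg CfsgLib.Characters MulAction Matrix
open scoped ComplexConjugate
open scoped Classical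

universe u v

variable {G : Type u} [Group G] {X : Type v} [MulAction G X] [Fintype X]

/-- The permutation matrix of an element. -/
def permM (g : G) : Matrix X X ℂ := Matrix.of fun a b => if g • b = a then 1 else 0

omit [Fintype X] in
theorem permM_apply (g : G) (a b : X) : (permM g : Matrix X X ℂ) a b = if g • b = a then 1 else 0 :=
  rfl

theorem permM_one : (permM (1 : G) : Matrix X X ℂ) = 1 := by
  ext a b
  simp [permM_apply, Matrix.one_apply, eq_comm]

theorem permM_mul_apply (g : G) (M : Matrix X X ℂ) (a b : X) :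
    ((permM g : Matrix X X ℂ) * M) a b = M (g⁻¹ • a) b := by
  simp [Matrix.mul_apply, permM_apply, ← eq_inv_smul_iff]

theorem mul_permM_apply (g : G) (M : Matrix X X ℂ) (a b : X) :
    (M * (permM g : Matrix X X ℂ)) a b = M a (g • b) := by
  simp [Matrix.mul_apply, permM_apply]

theorem permM_mul (g h : G) : (permM g : Matrix X X ℂ) * permM h = permM (g * h) := by
  ext a b
  rw [mul_permM_apply, permM_apply, permM_apply, mul_smul]

omit [Fintype X] in
theorem permM_conjTranspose (g : G) : (permM g : Matrix X X ℂ)ᴴ = permM g⁻¹ := by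
  ext a b
  simp only [Matrix.conjTranspose_apply, permM_apply]
  split_ifs with h1 h2 h2
  · simp
  · exact absurd (by rw [← h1, inv_smul_smul]) h2
  · exact absurd (by rw [← h2, smul_inv_smul]) h1
  · simp

theorem trace_mul_permM (g : G) (M : Matrix X X ℂ) :
    (M * (permM g : Matrix X X ℂ)).trace = ∑ a, M a (g • a) := by
  simp [Matrix.trace, mul_permM_apply]

theorem trace_permM (g : G) : (permM g : Matrix X X ℂ).trace = ((fixedBy X g).ncard : ℂ) := by
  simp only [Matrix.trace, Matrix.diag_apply, permM_apply]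
  rw [Finset.sum_boole, Set.ncard_eq_toFinset_card']
  congr 2
  ext a
  simp

/-- A matrix invariant under the action. -/
def Inv (G : Type u) [Group G] [MulAction G X] (M : Matrix X X ℂ) : Prop :=
  ∀ (g : G) (a b : X), M (g • a) (g • b) = M a b

theorem Inv.commute {M : Matrix X X ℂ} (h : Inv G M) (g : G) : permM g * M = M * permM g := by
  ext a b
  rw [permM_mul_apply, mul_permM_apply]
  conv_rhs => rw [← h g⁻¹, inv_smul_smul]

theorem inv_of_commute {M : Matrix X X ℂ} (h : ∀ g : G, permM g * M = M * permM g) : Inv G M := by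
  intro g a b
  have := congrFun (congrFun (h g) (g • a)) b
  rw [permM_mul_apply, mul_permM_apply, inv_smul_smul] at this
  exact this.symm

omit [Fintype X] in
theorem Inv.sub {M M' : Matrix X X ℂ} (h : Inv G M) (h' : Inv G M') : Inv G (M - M') := fun g a b => by
  simp [h g a b, h' g a b]

omit [Fintype X] in
theorem Inv.smul {M : Matrix X X ℂ} (h : Inv G M) (c : ℂ) : Inv G (c • M) := fun g a b => by
  simp [h g a b]

theorem Inv.mul {M M' : Matrix X X ℂ} (h : Inv G M) (h' : Inv G M') : Inv G (M * M') :=
  inv_of_commute fun g => by rw [← mul_assoc, h.commute, mul_assoc, h'.commute, mul_assoc]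

omit [Fintype X] in
theorem Inv.sum {ι : Type*} (s : Finset ι) {M : ι → Matrix X X ℂ} (h : ∀ i ∈ s, Inv G (M i)) :
    Inv G (∑ i ∈ s, M i) := fun g a b => by
  simp only [Matrix.sum_apply]
  exact Finset.sum_congr rfl fun i hi => h i hi g a b

omit [Fintype X] in
theorem Inv.subgroup {M : Matrix X X ℂ} (h : Inv G M) (N : Subgroup G) : Inv N M :=
  fun g a b => h g a b

/-- An invariant matrix orthogonal to all elements vanishes. -/
def Sep (G : Type u) [Group G] [MulAction G X] : Prop :=
  ∀ M : Matrix X X ℂ, Inv G M → (∀ g : G, (M * permM g).trace = 0) → M = 0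

theorem sep_of_subgroup {N : Subgroup G} (h : Sep (X := X) N) : Sep (X := X) G := by
  intro M hM ht
  refine h M (hM.subgroup N) fun g => ?_
  rw [← ht g, trace_mul_permM, trace_mul_permM]
  rfl

variable [Fintype G]

/-- A multiplicity-free action separates. -/
theorem sep_of_multFree
    (h : ∀ θ : IrrCharacter G, classInner (fun g : G => ((fixedBy X g).ncard : ℂ)) (θ : G → ℂ) = 0 ∨
      classInner (fun g : G => ((fixedBy X g).ncard : ℂ)) (θ : G → ℂ) = 1) : Sep (X := X) G := by
  intro M hM ht
  have hmf : PermSmall.Centraliser.MultFree (permRep ℂ G X).character := by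
    intro θ hθ
    rw [PermSmall.PermCentraliser.character_eq]
    have h' := h ⟨θ, hθ⟩
    simp only [← Nat.card_coe_set_eq] at h'
    exact h'
  have hent : ∀ x y, PermSmall.PermCentraliser.ent (Matrix.toLin' M) x y = M x y := fun x y => by
    simp [PermSmall.PermCentraliser.ent, Matrix.toLin'_apply, Matrix.mulVec_single]
  have hcomm : PermSmall.Centraliser.Comm (permRep ℂ G X) (Matrix.toLin' M) :=
    (PermSmall.PermCentraliser.comm_iff _).2 fun g x y => by rw [hent, hent, hM g x y]
  obtain ⟨c, -, hc⟩ := PermSmall.Centraliser.exists_classFn _ hmf hcomm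
  set φ := PermSmall.Centraliser.classFn c
  have hM' : ∀ x y, M x y = ∑ g : G, if g • y = x then φ g else 0 := fun x y => by
    rw [← hent x y, hc, PermSmall.PermCentraliser.ent_funEnd]
  have h0 : ∑ x, ∑ y, conj (M x y) * M x y = 0 := by
    calc ∑ x, ∑ y, conj (M x y) * M x y
        = ∑ x, ∑ y, ∑ g : G, (if g • y = x then φ g * conj (M x y) else 0) := by
          refine Finset.sum_congr rfl fun x _ => Finset.sum_congr rfl fun y _ => ?_
          conv_lhs => arg 2; rw [hM' x y]
          rw [Finset.mul_sum]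
          refine Finset.sum_congr rfl fun g _ => ?_
          split_ifs <;> simp [mul_comm]
      _ = ∑ g : G, φ g * ∑ y, conj (M (g • y) y) := by
          rw [Finset.sum_comm]
          refine (Finset.sum_congr rfl fun y _ => Finset.sum_comm).trans ?_
          rw [Finset.sum_comm]
          refine Finset.sum_congr rfl fun g _ => ?_
          rw [Finset.mul_sum]
          refine Finset.sum_congr rfl fun y _ => ?_
          rw [Finset.sum_ite_eq, if_pos (Finset.mem_univ _)]
      _ = 0 := by
          refine Finset.sum_eq_zero fun g _ => ?_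
          rw [← map_sum]
          have : ∑ y, M (g • y) y = (M * permM g⁻¹).trace := by
            rw [trace_mul_permM]
            refine Fintype.sum_equiv (MulAction.toPerm g) _ _ fun y => ?_
            simp
          rw [this, ht, map_zero, mul_zero]
  ext x y
  have h1 : ∑ x, ∑ y, Complex.normSq (M x y) = 0 := by
    have := congrArg Complex.re h0
    simpa [Complex.re_sum, Complex.normSq_apply] using this
  have h2 := (Finset.sum_eq_zero_iff_of_nonneg fun x _ => Finset.sum_nonneg fun y _ =>
    Complex.normSq_nonneg _).1 h1 x (Finset.mem_univ _)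
  exact Complex.normSq_eq_zero.1 ((Finset.sum_eq_zero_iff_of_nonneg fun y _ =>
    Complex.normSq_nonneg _).1 h2 y (Finset.mem_univ _))

/-- The projection to the part belonging to an irreducible character. -/
def proj (χ : IrrCharacter G) : Matrix X X ℂ :=
  ((χ : G → ℂ) 1 / (Nat.card G : ℂ)) • ∑ g : G, conj ((χ : G → ℂ) g) • permM g

theorem proj_apply (χ : IrrCharacter G) (a b : X) :
    proj χ a b = (χ : G → ℂ) 1 / (Nat.card G : ℂ) *
      ∑ g : G, (if g • b = a then conj ((χ : G → ℂ) g) else 0) := by
  simp [proj, Matrix.sum_apply, permM_apply]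

omit [Fintype G] in
theorem conj_irr_one [Finite G] (χ : IrrCharacter G) : conj ((χ : G → ℂ) 1) = (χ : G → ℂ) 1 := by
  obtain ⟨n, hn⟩ := exists_degree (irr_isCharacter χ)
  rw [hn, map_natCast]

theorem proj_inv (χ : IrrCharacter G) : Inv G (proj χ : Matrix X X ℂ) := by
  intro k a b
  rw [proj_apply, proj_apply]
  congr 1
  refine Fintype.sum_equiv (MulAut.conj k⁻¹).toEquiv _ _ fun g => ?_
  simp only [MulEquiv.toEquiv_eq_coe, MulEquiv.coe_toEquiv, MulAut.conj_apply, inv_inv]
  rw [mul_smul, mul_smul, inv_smul_eq_iff,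
    show (χ : G → ℂ) (k⁻¹ * g * k) = (χ : G → ℂ) g by
      simpa using irr_isClassFunction χ g k⁻¹]

theorem proj_conjTranspose (χ : IrrCharacter G) : (proj χ : Matrix X X ℂ)ᴴ = proj χ := by
  rw [proj, Matrix.conjTranspose_smul, Matrix.conjTranspose_sum]
  simp only [Matrix.conjTranspose_smul, permM_conjTranspose]
  congr 1
  · simp [conj_irr_one]
  · refine Fintype.sum_equiv (Equiv.inv G) _ _ fun g => ?_
    simp [irr_apply_inv]

theorem sum_proj : ∑ χ : IrrCharacter G, (proj χ : Matrix X X ℂ) = 1 := by
  have h : ∀ g : G, ∑ χ : IrrCharacter G, (χ : G → ℂ) 1 * conj ((χ : G → ℂ) g) =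
      if g = 1 then (Nat.card G : ℂ) else 0 := fun g => by
    have := congrArg conj (sum_degree_mul_irr g)
    rw [map_sum, apply_ite conj, map_natCast, map_zero] at this
    rw [← this]
    exact Finset.sum_congr rfl fun χ _ => by rw [map_mul, conj_irr_one]
  simp only [proj, Finset.smul_sum, smul_smul]
  rw [Finset.sum_comm]
  simp only [← Finset.sum_smul, div_mul_eq_mul_div, ← Finset.sum_div, h]
  rw [Finset.sum_eq_single 1 (fun g _ hg => by rw [if_neg hg, zero_div, zero_smul])
    (fun hh => absurd (Finset.mem_univ _) hh), if_pos rfl, div_self, one_smul, permM_one]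
  exact Nat.cast_ne_zero.2 Nat.card_pos.ne'

/-- The shifted inner product of a class function with an irreducible character. -/
theorem shift_sum {f : G → ℂ} (hf : IsClassFunction G f) (χ : IrrCharacter G) (k : G) :
    (χ : G → ℂ) 1 / (Nat.card G : ℂ) * ∑ g : G, conj ((χ : G → ℂ) g) * f (g * k) =
      classInner f (χ : G → ℂ) * (χ : G → ℂ) k := by
  conv_lhs => rw [classFunction_eq_sum hf]
  simp only [Finset.sum_apply, Pi.smul_apply, smul_eq_mul, Finset.mul_sum]
  rw [Finset.sum_comm]
  have h : ∀ ψ : IrrCharacter G, ∑ g : G, (χ : G → ℂ) 1 / (Nat.card G : ℂ) *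
      (conj ((χ : G → ℂ) g) * (classInner f (ψ : G → ℂ) * (ψ : G → ℂ) (g * k))) =
      classInner f (ψ : G → ℂ) * ((χ : G → ℂ) 1 / (Nat.card G : ℂ)) *
        (if ψ = χ then (Nat.card G : ℂ) * (ψ : G → ℂ) k / (ψ : G → ℂ) 1 else 0) := fun ψ => by
    rw [← CfsgLib.HeckeCenter.sum_mul_shift ψ χ k, Finset.mul_sum]
    exact Finset.sum_congr rfl fun g _ => by ring
  simp only [h, mul_ite, mul_zero, Finset.sum_ite_eq', Finset.mem_univ, if_true]
  have := irr_one_ne_zero χ
  have := Nat.cast_ne_zero (R := ℂ).2 (Nat.card_pos (α := G)).ne'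
  field_simp

theorem mul_proj (A : Matrix X X ℂ) (χ : IrrCharacter G) :
    A * proj χ = ((χ : G → ℂ) 1 / (Nat.card G : ℂ)) •
      ∑ g : G, conj ((χ : G → ℂ) g) • (A * permM g) := by
  simp [proj, Matrix.mul_sum]

theorem proj_mul_proj (χ ψ : IrrCharacter G) :
    (proj χ : Matrix X X ℂ) * proj ψ = if χ = ψ then proj χ else 0 := by
  have hk : ∀ k : G, ∑ h : G, conj ((χ : G → ℂ) (k * h⁻¹)) * conj ((ψ : G → ℂ) h) =
      conj (if ψ = χ then (Nat.card G : ℂ) * (ψ : G → ℂ) k / (ψ : G → ℂ) 1 else 0) := fun k => by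
    rw [← CfsgLib.HeckeCenter.sum_mul_shift ψ χ k, map_sum]
    refine Fintype.sum_equiv ((Equiv.mulRight k⁻¹)) _ _ fun h => ?_
    rw [map_mul, Complex.conj_conj, Equiv.coe_mulRight, inv_mul_cancel_right, mul_comm]
    congr 1
    simp only [Equiv.coe_mulRight]
    rw [← irr_apply_inv, _root_.mul_inv_rev, inv_inv]
  have hexp : (proj χ : Matrix X X ℂ) * proj ψ = ∑ k : G,
      (((χ : G → ℂ) 1 / (Nat.card G : ℂ)) * ((ψ : G → ℂ) 1 / (Nat.card G : ℂ)) *
        ∑ h : G, conj ((χ : G → ℂ) (k * h⁻¹)) * conj ((ψ : G → ℂ) h)) • permM k := by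
    rw [mul_proj, Finset.smul_sum]
    simp only [proj, Matrix.sum_mul, smul_mul_assoc, permM_mul, Finset.smul_sum, smul_smul,
      Finset.mul_sum, Finset.sum_smul]
    conv_rhs => rw [Finset.sum_comm]
    refine Finset.sum_congr rfl fun h _ => Fintype.sum_equiv (Equiv.mulRight h) _ _ fun g => ?_
    simp only [Equiv.coe_mulRight, mul_inv_cancel_right]
    congr 1
    ring
  rw [hexp]
  simp only [hk]
  by_cases he : χ = ψ
  · subst he
    simp only [if_true, if_pos rfl, proj, Finset.smul_sum, smul_smul]
    refine Finset.sum_congr rfl fun k _ => ?_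
    congr 1
    rw [map_div₀, map_mul, map_natCast, conj_irr_one]
    have := irr_one_ne_zero χ
    have := Nat.cast_ne_zero (R := ℂ).2 (Nat.card_pos (α := G)).ne'
    field_simp
  · rw [if_neg he]
    simp [if_neg (Ne.symm he)]

theorem trace_permM_class {A : Matrix X X ℂ} (hA : Inv G A) :
    IsClassFunction G fun g => (A * permM g).trace := by
  intro g h
  dsimp only
  rw [← permM_mul, ← permM_mul, ← mul_assoc, ← mul_assoc, ← hA.commute h, Matrix.trace_mul_comm,
    ← mul_assoc, ← mul_assoc, permM_mul, inv_mul_cancel, permM_one, one_mul]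

/-- The trace of an invariant matrix on a part is a multiple of the character. -/
theorem trace_mul_proj {A : Matrix X X ℂ} (hA : Inv G A) (χ : IrrCharacter G) (k : G) :
    (A * proj χ * permM k).trace =
      classInner (fun g => (A * permM g).trace) (χ : G → ℂ) * (χ : G → ℂ) k := by
  rw [← shift_sum (trace_permM_class hA) χ k, mul_proj]
  simp [Matrix.sum_mul, Matrix.trace_sum, mul_assoc, permM_mul, Finset.mul_sum]

omit [Fintype G] in
theorem inv_one : Inv G (1 : Matrix X X ℂ) := fun g a b => by simp [Matrix.one_apply]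

theorem trace_proj (χ : IrrCharacter G) (k : G) :
    ((proj χ : Matrix X X ℂ) * permM k).trace =
      classInner (fun g => ((fixedBy X g).ncard : ℂ)) (χ : G → ℂ) * (χ : G → ℂ) k := by
  simpa [trace_permM] using trace_mul_proj (X := X) inv_one χ k

/-- An invariant matrix acts on each part as a scalar. -/
theorem exists_scalar (hs : Sep (X := X) G) {A : Matrix X X ℂ} (hA : Inv G A) (χ : IrrCharacter G) :
    ∃ c : ℂ, A * proj χ = c • proj χ := by
  set m := classInner (fun g => ((fixedBy X g).ncard : ℂ)) (χ : G → ℂ) with hm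
  by_cases h0 : m = 0
  · have : (proj χ : Matrix X X ℂ) = 0 := hs _ (proj_inv χ) fun g => by
      rw [trace_proj, ← hm, h0, zero_mul]
    exact ⟨0, by rw [this, mul_zero, smul_zero]⟩
  · refine ⟨classInner (fun g => (A * permM g).trace) (χ : G → ℂ) / m, sub_eq_zero.1 ?_⟩
    refine hs _ ((hA.mul (proj_inv χ)).sub ((proj_inv χ).smul _)) fun g => ?_
    rw [sub_mul, Matrix.trace_sub, trace_mul_proj hA, smul_mul_assoc, Matrix.trace_smul, trace_proj,
      ← hm, smul_eq_mul, ← mul_assoc, div_mul_cancel₀ _ h0, sub_self]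

theorem proj_commute {A : Matrix X X ℂ} (hA : Inv G A) (χ : IrrCharacter G) :
    proj χ * A = A * proj χ := by
  simp [proj, Matrix.sum_mul, Matrix.mul_sum, hA.commute]

/-- The complex conjugate character. -/
def conjChar (χ : IrrCharacter G) : IrrCharacter G :=
  ⟨fun g => conj ((χ : G → ℂ) g), CfsgLib.BrauerPerm.isIrrCharacter_conj χ.2⟩

theorem conjChar_conjChar (χ : IrrCharacter G) : conjChar (conjChar χ) = χ :=
  Subtype.ext (funext fun g => Complex.conj_conj _)

theorem proj_conjChar (χ : IrrCharacter G) (a b : X) :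
    proj (conjChar χ) a b = conj (proj χ a b) := by
  simp only [proj_apply, conjChar, map_mul, map_div₀, map_natCast, map_sum, apply_ite conj,
    map_zero, Complex.conj_conj]

theorem sum_proj_mul_proj (s : Finset (IrrCharacter G)) (χ : IrrCharacter G) :
    (∑ ψ ∈ s, (proj ψ : Matrix X X ℂ)) * proj χ = if χ ∈ s then proj χ else 0 := by
  rw [Matrix.sum_mul]
  simp only [proj_mul_proj]
  rw [Finset.sum_ite_eq']

theorem sum_proj_idem (s : Finset (IrrCharacter G)) :
    (∑ ψ ∈ s, (proj ψ : Matrix X X ℂ)) * (∑ ψ ∈ s, proj ψ) = ∑ ψ ∈ s, proj ψ := by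
  rw [Matrix.mul_sum]
  exact Finset.sum_congr rfl fun χ hχ => by rw [sum_proj_mul_proj, if_pos hχ]

theorem sum_proj_conjTranspose (s : Finset (IrrCharacter G)) :
    (∑ ψ ∈ s, (proj ψ : Matrix X X ℂ))ᴴ = ∑ ψ ∈ s, proj ψ := by
  rw [Matrix.conjTranspose_sum]
  exact Finset.sum_congr rfl fun χ _ => proj_conjTranspose χ

theorem proj_principal_apply [Nonempty X] (htr : ∀ a b : X, ∃ g : G, g • a = b) (a b : X) :
    proj (principalIrr G) a b = (Fintype.card X : ℂ)⁻¹ := by
  set P : Matrix X X ℂ := proj (principalIrr G)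
  have hP : ∀ x y, P x y = (1 : ℂ) / (Nat.card G : ℂ) *
      ∑ g : G, (if g • y = x then 1 else 0) := fun x y => by
    simp [P, proj_apply]
  have hconst : ∀ x y z, P x y = P x z := by
    intro x y z
    obtain ⟨k, rfl⟩ := htr y z
    rw [hP, hP]
    congr 1
    refine Fintype.sum_equiv (Equiv.mulRight k⁻¹) _ _ fun g => ?_
    simp [mul_smul]
  have hrow : ∑ y, P a y = 1 := by
    simp only [hP, ← Finset.mul_sum]
    rw [Finset.sum_comm]
    simp only [← eq_inv_smul_iff, Finset.sum_ite_eq', Finset.mem_univ, if_true, Finset.sum_const,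
      Finset.card_univ, nsmul_one, Nat.card_eq_fintype_card]
    rw [one_div, inv_mul_cancel₀ (Nat.cast_ne_zero.2 Fintype.card_ne_zero)]
  rw [Finset.sum_congr rfl fun y _ => hconst a y b, Finset.sum_const, Finset.card_univ,
    nsmul_eq_mul] at hrow
  exact eq_inv_of_mul_eq_one_right hrow

end CfsgLib.BenderQ.Residual
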