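import Cfsg.Agent.Lib.BenderQ.Residual.Defs
import Cfsg.Agent.Lib.BenderQ.Residual.Principal
import Cfsg.Agent.Lib.BenderQ.Residual.Proj
import Cfsg.Agent.Lib.BenderQ.Residual.Hadamard

/-!
The packet argument: the constituents of the permutation character in the block of the principal character
give an invariant equivalence relation along which symmetric invariant relations spread.
-/

set_option autoImplicit false
set_option linter.unusedSectionVars false

noncomputable section

namespace CfsgLib.BenderQ.Residual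

open Cfsg CfsgLib.Characters MulAction Matrix
open scoped ComplexConjugate
open scoped Classical

universe u v

variable {T : Type u} [Group T] {X : Type v} [MulAction T X] {l : ℕ} {L N' : Subgroup T}

/-- The fibre of a point. -/
def fibre (N' : Subgroup T) (a : X) : Quotient (orbitRel N' X) := Quotient.mk _ a

theorem fibre_eq {a b : X} : fibre N' a = fibre N' b ↔ ∃ n ∈ N', n • b = a := by
  rw [fibre, fibre, Quotient.eq, orbitRel_apply, mem_orbit_iff]
  exact ⟨fun ⟨⟨n, hn⟩, h⟩ => ⟨n, hn, h⟩, fun ⟨n, hn, h⟩ => ⟨⟨n, hn⟩, h⟩⟩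

theorem fibre_smul {n : T} (hn : n ∈ N') (a : X) : fibre N' (n • a) = fibre N' a :=
  fibre_eq.2 ⟨n, hn, rfl⟩

variable [Fintype T] [Fintype X]

/-- The average over the small factor. -/
def avgM (N' : Subgroup T) : Matrix X X ℂ := (Nat.card N' : ℂ)⁻¹ • ∑ n : N', permM (n : T)

theorem permM_mul_avgM {n : T} (hn : n ∈ N') : permM n * (avgM N' : Matrix X X ℂ) = avgM N' := by
  rw [avgM, Matrix.mul_smul, Matrix.mul_sum]
  congr 1
  exact Fintype.sum_equiv (Equiv.mulLeft (⟨n, hn⟩ : N')) _ _ fun m => by simp [permM_mul]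

theorem avgM_mul_permM {n : T} (hn : n ∈ N') : (avgM N' : Matrix X X ℂ) * permM n = avgM N' := by
  rw [avgM, Matrix.smul_mul, Matrix.sum_mul]
  congr 1
  exact Fintype.sum_equiv (Equiv.mulRight (⟨n, hn⟩ : N')) _ _ fun m => by simp [permM_mul]

theorem avgM_idem : (avgM N' : Matrix X X ℂ) * avgM N' = avgM N' := by
  conv_lhs => arg 1; rw [avgM]
  rw [Matrix.smul_mul, Matrix.sum_mul, Finset.sum_congr rfl fun (n : N') _ => permM_mul_avgM n.2,
    Finset.sum_const, Finset.card_univ, ← Nat.cast_smul_eq_nsmul ℂ, smul_smul, Nat.card_eq_fintype_card,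
    inv_mul_cancel₀ (Nat.cast_ne_zero.2 Fintype.card_ne_zero), one_smul]

theorem avgM_commute {M : Matrix X X ℂ} (hM : Inv T M) : avgM N' * M = M * avgM N' := by
  simp [avgM, Matrix.sum_mul, Matrix.mul_sum, hM.commute]

theorem avgM_conjTranspose : (avgM N' : Matrix X X ℂ)ᴴ = avgM N' := by
  rw [avgM, Matrix.conjTranspose_smul, Matrix.conjTranspose_sum]
  congr 1
  · simp
  · exact Fintype.sum_equiv (Equiv.inv N') _ _ fun n => by simp [permM_conjTranspose]

theorem avgM_conj (a b : X) : conj ((avgM N' : Matrix X X ℂ) a b) = avgM N' a b := by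
  simp [avgM, Matrix.sum_apply, permM_apply]

theorem avgM_supp {a b : X} (h : fibre N' a ≠ fibre N' b) : (avgM N' : Matrix X X ℂ) a b = 0 := by
  simp only [avgM, Matrix.smul_apply, Matrix.sum_apply, permM_apply]
  rw [Finset.sum_eq_zero fun n _ => if_neg fun e => h (fibre_eq.2 ⟨_, n.2, e⟩), smul_zero]

theorem avgM_row (a : X) : ∑ b, (avgM N' : Matrix X X ℂ) a b = 1 := by
  simp only [avgM, Matrix.smul_apply, Matrix.sum_apply, permM_apply, smul_eq_mul, ← Finset.mul_sum]
  rw [Finset.sum_comm]
  simp only [← eq_inv_smul_iff, Finset.sum_ite_eq', Finset.mem_univ, if_true, Finset.sum_const,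
    Finset.card_univ, nsmul_one, Nat.card_eq_fintype_card]
  exact inv_mul_cancel₀ (Nat.cast_ne_zero.2 Fintype.card_ne_zero)

theorem avgM_col (b : X) : ∑ a, (avgM N' : Matrix X X ℂ) a b = 1 := by
  rw [← avgM_row (N' := N') b]
  refine Finset.sum_congr rfl fun a _ => ?_
  conv_lhs => rw [← avgM_conjTranspose (N' := N'), Matrix.conjTranspose_apply]
  exact avgM_conj b a

theorem avgM_const_right (a : X) {b b' : X} (h : fibre N' b = fibre N' b') :
    (avgM N' : Matrix X X ℂ) a b = avgM N' a b' := by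
  obtain ⟨n, hn, rfl⟩ := fibre_eq.1 h
  exact (mul_permM_apply n (avgM N') a b').symm.trans (congrFun (congrFun (avgM_mul_permM hn) a) b')

theorem avgM_const_left (b : X) {a a' : X} (h : fibre N' a = fibre N' a') :
    (avgM N' : Matrix X X ℂ) a b = avgM N' a' b := by
  obtain ⟨n, hn, rfl⟩ := fibre_eq.1 h
  rw [← avgM_conj (n • a') b, ← avgM_conj a' b]
  have h1 := avgM_const_right (N' := N') b (fibre_smul hn a')
  rw [← avgM_conjTranspose (N' := N'), Matrix.conjTranspose_apply, Matrix.conjTranspose_apply,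
    ← starRingEnd_apply, ← starRingEnd_apply, h1]

/-- The diagonal of an idempotent Hermitian matrix. -/
theorem diag_re {M : Matrix X X ℂ} (hh : Mᴴ = M) (hi : M * M = M) (a : X) :
    (M a a).re = ∑ x, Complex.normSq (M a x) := by
  conv_lhs => rw [← hi, Matrix.mul_apply, Complex.re_sum]
  refine Finset.sum_congr rfl fun x _ => ?_
  conv_lhs => arg 1; arg 2; rw [← hh, Matrix.conjTranspose_apply]
  rw [← starRingEnd_apply, Complex.mul_conj, Complex.ofReal_re]

namespace Packet

variable (P : Packet T X l L N')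
include P

theorem exists_mul {g : T} (hg : g ∈ L ⊔ N') : ∃ y ∈ L, ∃ n ∈ N', g = y * n := by
  have hle : L ≤ Subgroup.normalizer (N' : Set T) := fun y hy => by
    rw [Subgroup.mem_normalizer_iff]
    intro n
    constructor
    · intro hn
      rwa [(P.comm y hy n hn).eq, mul_inv_cancel_right]
    · intro hn
      have h := P.comm y⁻¹ (L.inv_mem hy) _ hn
      have e : n = y * n * y⁻¹ := by
        calc n = y⁻¹ * (y * n * y⁻¹) * y⁻¹⁻¹ := by group
          _ = y * n * y⁻¹ := by rw [h.eq, inv_inv, inv_mul_cancel_right]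
      rw [e]
      exact hn
  have h : g ∈ ((L ⊔ N' : Subgroup T) : Set T) := hg
  rw [Subgroup.coe_mul_of_left_le_normalizer_right L N' hle] at h
  obtain ⟨y, hy, n, hn, rfl⟩ := h
  exact ⟨y, hy, n, hn, rfl⟩

theorem avgM_inv : Inv ↥(L ⊔ N') (avgM N' : Matrix X X ℂ) := by
  refine inv_of_commute fun g => ?_
  obtain ⟨y, hy, n, hn, e⟩ := P.exists_mul g.2
  have hyA : permM y * (avgM N' : Matrix X X ℂ) = avgM N' * permM y := by
    simp only [avgM, Matrix.mul_smul, Matrix.smul_mul, Matrix.mul_sum, Matrix.sum_mul, permM_mul]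
    congr 1
    exact Finset.sum_congr rfl fun m _ => by rw [(P.comm y hy m m.2).eq]
  show permM (g : T) * avgM N' = avgM N' * permM (g : T)
  rw [e, ← permM_mul, mul_assoc, permM_mul_avgM hn, hyA, permM_mul, (P.comm y hy n hn).eq,
    ← permM_mul, ← mul_assoc, avgM_mul_permM hn]

theorem fibre_ne {y n : T} (hy : y ∈ L) (hy1 : y ≠ 1) (hn : n ∈ N') (a : X) :
    fibre N' ((y * n) • a) ≠ fibre N' a := fun h => by
  obtain ⟨m, hm, hma⟩ := fibre_eq.1 h
  refine P.free y hy hy1 (m⁻¹ * n) (N'.mul_mem (N'.inv_mem hm) hn) a ?_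
  rw [← mul_assoc, (P.comm y hy _ (N'.inv_mem hm)).eq, mul_assoc, mul_smul, ← hma, inv_smul_smul]

theorem fibre_congr {g : T} (hg : g ∈ L ⊔ N') (a b : X) :
    fibre N' (g • a) = fibre N' (g • b) ↔ fibre N' a = fibre N' b := by
  obtain ⟨y, hy, n, hn, rfl⟩ := P.exists_mul hg
  rw [fibre_eq, fibre_eq]
  constructor
  · rintro ⟨m, hm, h⟩
    refine ⟨n⁻¹ * m * n, N'.mul_mem (N'.mul_mem (N'.inv_mem hn) hm) hn, ?_⟩
    rw [mul_smul y n a, mul_smul y n b, ← mul_smul m, ← (P.comm y hy m hm).eq, mul_smul] at h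
    have h' := smul_left_cancel y h
    rw [mul_smul, mul_smul, h', inv_smul_smul]
  · rintro ⟨m, hm, h⟩
    refine ⟨n * m * n⁻¹, N'.mul_mem (N'.mul_mem hn hm) (N'.inv_mem hn), ?_⟩
    rw [← mul_smul, ← mul_assoc, ← (P.comm y hy _ (N'.mul_mem (N'.mul_mem hn hm) (N'.inv_mem hn))).eq,
      mul_assoc, inv_mul_cancel_right, ← mul_assoc, mul_smul, h]

theorem fibre_card (a b : X) :
    (Finset.univ.filter fun x => fibre N' x = fibre N' a).card =
      (Finset.univ.filter fun x => fibre N' x = fibre N' b).card := by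
  obtain ⟨g, hg, rfl⟩ := P.trans a b
  refine Finset.card_equiv (MulAction.toPerm g) fun x => ?_
  simp [P.fibre_congr hg]

theorem avgM_diag (a b : X) :
    ((Finset.univ.filter fun x => fibre N' x = fibre N' a).card : ℂ) * (avgM N' : Matrix X X ℂ) b b = 1 := by
  rw [P.fibre_card a b]
  calc _ = ∑ x ∈ Finset.univ.filter (fun x => fibre N' x = fibre N' b), (avgM N' : Matrix X X ℂ) b x := by
        rw [Finset.sum_congr rfl fun x hx => avgM_const_right b (Finset.mem_filter.1 hx).2,
          Finset.sum_const, nsmul_eq_mul]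
    _ = 1 := by
        rw [Finset.sum_filter_of_ne fun x _ hx => ?_, avgM_row]
        by_contra h
        exact hx (avgM_supp (Ne.symm h))

theorem supp_of_trace (hs : Sep (X := X) ↥(L ⊔ N')) {M : Matrix X X ℂ} (hM : Inv ↥(L ⊔ N') M)
    (ht : ∀ y ∈ L, y ≠ 1 → ∀ n ∈ N', (M * permM (y * n)).trace = 0) {a b : X}
    (hab : fibre N' a ≠ fibre N' b) : M a b = 0 := by
  set M' : Matrix X X ℂ := Matrix.of fun x y => if fibre N' x = fibre N' y then M x y else 0 with hM'
  have hM'i : Inv ↥(L ⊔ N') M' := fun g x y => by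
    show (if fibre N' ((g : T) • x) = fibre N' ((g : T) • y) then M (g • x) (g • y) else 0) = _
    simp only [P.fibre_congr g.2, hM g x y, hM', Matrix.of_apply]
  have h := congrFun (congrFun (hs _ (hM.sub hM'i) fun g => ?_) a) b
  · simpa [hM', hab] using h
  rw [trace_mul_permM]
  obtain ⟨y, hy, n, hn, e⟩ := P.exists_mul g.2
  by_cases hy1 : y = 1
  · refine Finset.sum_eq_zero fun x _ => ?_
    have : fibre N' x = fibre N' (g • x) := by
      show fibre N' x = fibre N' ((g : T) • x)
      rw [e, hy1, one_mul, fibre_smul hn]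
    simp [hM', this]
  · have h2 : ∀ x, (M - M') x (g • x) = M x ((y * n) • x) := fun x => by
      show (M - M') x ((g : T) • x) = _
      simp [hM', e, Ne.symm (P.fibre_ne hy hy1 hn x)]
    simp only [h2]
    rw [← trace_mul_permM]
    exact ht y hy hy1 n hn

end Packet

/-- A character with its conjugate. -/
def pairOf (χ : IrrCharacter T) : Finset (IrrCharacter T) := {χ, conjChar χ}

/-- The real projection of a pair of conjugate characters. -/
def pairM (χ : IrrCharacter T) : Matrix X X ℂ := ∑ ψ ∈ pairOf χ, proj ψ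

theorem conjChar_mem_pairOf {χ ψ : IrrCharacter T} (h : ψ ∈ pairOf χ) : conjChar ψ ∈ pairOf χ := by
  simp only [pairOf, Finset.mem_insert, Finset.mem_singleton] at h ⊢
  rcases h with rfl | rfl
  · exact Or.inr rfl
  · exact Or.inl (conjChar_conjChar χ)

theorem pairM_conj (χ : IrrCharacter T) (a b : X) :
    conj ((pairM χ : Matrix X X ℂ) a b) = pairM χ a b := by
  simp only [pairM, Matrix.sum_apply, map_sum, ← proj_conjChar]
  refine Finset.sum_nbij' conjChar conjChar (fun ψ h => conjChar_mem_pairOf h)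
    (fun ψ h => conjChar_mem_pairOf h) (fun ψ _ => conjChar_conjChar ψ)
    (fun ψ _ => conjChar_conjChar ψ) fun ψ _ => rfl

theorem pairM_symm (χ : IrrCharacter T) (a b : X) :
    (pairM χ : Matrix X X ℂ) a b = pairM χ b a := by
  conv_lhs => rw [pairM, ← sum_proj_conjTranspose, Matrix.conjTranspose_apply]
  exact pairM_conj χ b a

theorem pairM_inv (χ : IrrCharacter T) : Inv T (pairM χ : Matrix X X ℂ) :=
  Inv.sum _ fun ψ _ => proj_inv ψ

theorem conjChar_principal : conjChar (principalIrr T) = principalIrr T :=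
  Subtype.ext (funext fun _ => map_one _)

theorem principal_notMem_pairOf {χ : IrrCharacter T} (h : χ ≠ principalIrr T) :
    principalIrr T ∉ pairOf χ := fun hm => by
  simp only [pairOf, Finset.mem_insert, Finset.mem_singleton] at hm
  rcases hm with e | e
  · exact h e.symm
  · exact h (by rw [← conjChar_conjChar χ, ← e, conjChar_principal])

/-- A real symmetric invariant matrix is a real scalar on a pair. -/
theorem pair_scalar (hs : Sep (X := X) T) {A : Matrix X X ℂ} (hA : Inv T A) (hsym : ∀ a b, A a b = A b a)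
    (hreal : ∀ a b, conj (A a b) = A a b) (χ : IrrCharacter T) :
    ∃ c : ℝ, A * pairM χ = (c : ℂ) • pairM χ := by
  obtain ⟨c, hc⟩ := exists_scalar hs hA χ
  by_cases h0 : (proj χ : Matrix X X ℂ) = 0
  · refine ⟨0, ?_⟩
    have : (pairM χ : Matrix X X ℂ) = 0 := by
      refine Finset.sum_eq_zero fun ψ hψ => ?_
      simp only [pairOf, Finset.mem_insert, Finset.mem_singleton] at hψ
      rcases hψ with rfl | rfl
      · exact h0
      · ext a b
        rw [proj_conjChar, h0]
        simp
    rw [this, mul_zero, smul_zero]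
  have hAh : Aᴴ = A := by
    ext a b
    rw [Matrix.conjTranspose_apply, ← starRingEnd_apply, hreal, hsym]
  have hcc : conj c = c := by
    have h2 := congrArg Matrix.conjTranspose hc
    rw [Matrix.conjTranspose_mul, Matrix.conjTranspose_smul, proj_conjTranspose, hAh, proj_commute hA,
      hc] at h2
    exact (smul_left_injective ℂ h0 h2).symm
  obtain ⟨r, rfl⟩ := Complex.conj_eq_iff_real.1 hcc
  have hbar : A * proj (conjChar χ) = (r : ℂ) • proj (conjChar χ) := by
    ext a b
    have h1 := congrArg conj (congrFun (congrFun hc a) b)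
    simpa [Matrix.mul_apply, map_sum, hreal, ← proj_conjChar] using h1
  refine ⟨r, ?_⟩
  rw [pairM, Matrix.mul_sum, Finset.smul_sum]
  refine Finset.sum_congr rfl fun ψ hψ => ?_
  simp only [pairOf, Finset.mem_insert, Finset.mem_singleton] at hψ
  rcases hψ with rfl | rfl
  · exact hc
  · exact hbar

theorem proj_avgM_nonneg (N' : Subgroup T) (ψ : IrrCharacter T) (a : X) :
    0 ≤ (((proj ψ : Matrix X X ℂ) * (avgM N' : Matrix X X ℂ) : Matrix X X ℂ) a a).re := by
  have hh : ((proj ψ : Matrix X X ℂ) * avgM N')ᴴ = proj ψ * avgM N' := by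
    rw [Matrix.conjTranspose_mul, avgM_conjTranspose, proj_conjTranspose, avgM_commute (proj_inv ψ)]
  have hi : (proj ψ : Matrix X X ℂ) * avgM N' * (proj ψ * avgM N') = proj ψ * avgM N' := by
    rw [mul_assoc, ← mul_assoc (avgM N') (proj ψ), avgM_commute (proj_inv ψ), mul_assoc, avgM_idem,
      ← mul_assoc, proj_mul_proj, if_pos rfl]
  rw [diag_re hh hi]
  exact Finset.sum_nonneg fun x _ => Complex.normSq_nonneg _

variable (P : Packet T X l L N')
include P

/-- The trace bound for one pair. -/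
theorem pair_bound (hs : Sep (X := X) T) [Nonempty X]
    {χ : IrrCharacter T} (hχ : χ ≠ principalIrr T) (h0 : (proj χ : Matrix X X ℂ) * avgM N' ≠ 0)
    (hsupp : ∀ x y, fibre N' x ≠ fibre N' y →
      (pairM χ - pairM χ * avgM N' : Matrix X X ℂ) x y = 0) (a : X) :
    1 ≤ 2 * ((Finset.univ.filter fun x => fibre N' x = fibre N' a).card : ℝ) *
      (((pairM χ : Matrix X X ℂ) * (avgM N' : Matrix X X ℂ) : Matrix X X ℂ) a a).re := by
  have htrT : ∀ x y : X, ∃ g : T, g • x = y := fun x y => by
    obtain ⟨g, -, h⟩ := P.trans x y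
    exact ⟨g, h⟩
  set E : Matrix X X ℂ := pairM χ with hEdef
  set F : Matrix X X ℂ := E * avgM N' with hFdef
  set D : Matrix X X ℂ := E - F with hDdef
  have hEE : E * E = E := sum_proj_idem _
  have hcomm : avgM N' * E = E * avgM N' := avgM_commute (pairM_inv χ)
  have hFF : F * F = F := by
    rw [hFdef, mul_assoc, ← mul_assoc (avgM N') E, hcomm, mul_assoc E, avgM_idem, ← mul_assoc, hEE]
  have hFE : F * E = F := by rw [hFdef, mul_assoc, hcomm, ← mul_assoc, hEE]
  have hEF : E * F = F := by rw [hFdef, ← mul_assoc, hEE]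
  have hDD : D * D = D := by
    rw [hDdef, sub_mul, mul_sub, mul_sub, hEE, hEF, hFE, hFF]
    abel
  have hFconj : ∀ x y, conj (F x y) = F x y := fun x y => by
    simp only [hFdef, hEdef, Matrix.mul_apply, map_sum, map_mul, pairM_conj, avgM_conj]
  have hDconj : ∀ x y, conj (D x y) = D x y := fun x y => by
    simp only [hDdef, Matrix.sub_apply, map_sub, hFconj]
    rw [hEdef, pairM_conj]
  have hEh : Eᴴ = E := sum_proj_conjTranspose _
  have hFh : Fᴴ = F := by rw [hFdef, Matrix.conjTranspose_mul, avgM_conjTranspose, hEh, hcomm]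
  have hDh : Dᴴ = D := by rw [hDdef, Matrix.conjTranspose_sub, hEh, hFh]
  have hsymOf : ∀ M : Matrix X X ℂ, Mᴴ = M → (∀ x y, conj (M x y) = M x y) → ∀ x y, M x y = M y x :=
    fun M hh hc x y => by conv_lhs => rw [← hh, Matrix.conjTranspose_apply, ← starRingEnd_apply, hc]
  set f : X → X → ℝ := fun x y => (F x y).re with hfdef
  set d : X → X → ℝ := fun x y => (D x y).re with hddef
  have hf : ∀ x y, (f x y : ℂ) = F x y := fun x y => Complex.conj_eq_iff_re.1 (hFconj x y)
  have hd : ∀ x y, (d x y : ℂ) = D x y := fun x y => Complex.conj_eq_iff_re.1 (hDconj x y)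
  have hFi : Inv ↥(L ⊔ N') F := ((pairM_inv χ).subgroup _).mul P.avgM_inv
  have hDi : Inv ↥(L ⊔ N') D := ((pairM_inv χ).subgroup _).sub hFi
  have hdiag : ∀ M : Matrix X X ℂ, Inv ↥(L ⊔ N') M → ∀ x, M x x = M a a := fun M hM x => by
    obtain ⟨g, hg, rfl⟩ := P.trans a x
    exact hM ⟨g, hg⟩ a a
  have hpos : ∀ M : Matrix X X ℂ, Inv ↥(L ⊔ N') M → Mᴴ = M → M * M = M → M ≠ 0 → 0 < (M a a).re := by
    intro M hM hh hi hne
    by_contra hcon
    refine hne (Matrix.ext fun x y => ?_)
    have h1 : (M x x).re ≤ 0 := by rw [hdiag M hM x]; exact not_lt.1 hcon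
    rw [diag_re hh hi] at h1
    exact Complex.normSq_eq_zero.1 ((Finset.sum_eq_zero_iff_of_nonneg fun z _ =>
      Complex.normSq_nonneg _).1 (le_antisymm h1 (Finset.sum_nonneg fun z _ => Complex.normSq_nonneg _))
        y (Finset.mem_univ y))
  have hEprin : E * proj (principalIrr T) = 0 := by
    rw [hEdef, pairM, sum_proj_mul_proj, if_neg (principal_notMem_pairOf hχ)]
  have hErow : ∀ x, ∑ y, E x y = 0 := fun x => by
    have h := congrFun (congrFun hEprin x) x
    simp only [Matrix.mul_apply, proj_principal_apply htrT, ← Finset.sum_mul, Matrix.zero_apply,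
      mul_eq_zero, inv_eq_zero, Nat.cast_eq_zero, Fintype.card_ne_zero, or_false] at h
    exact h
  have hF0 : F ≠ 0 := fun h => h0 (by
    have h2 : proj χ * F = proj χ * avgM N' := by
      rw [hFdef, hEdef, ← mul_assoc, proj_commute (pairM_inv χ), pairM, sum_proj_mul_proj,
        if_pos (by simp [pairOf])]
    rw [← h2, h, mul_zero])
  have hD0 : D ≠ 0 := fun h => by
    have hE : E = E * avgM N' := sub_eq_zero.1 h
    let K : Subgroup T :=
      { carrier := {g | permM g * E = E}
        one_mem' := by show permM 1 * E = E; rw [permM_one, one_mul]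
        mul_mem' := fun {g k} hg hk => by
          show permM (g * k) * E = E
          rw [← permM_mul, mul_assoc, hk, hg]
        inv_mem' := fun {g} hg => by
          show permM g⁻¹ * E = E
          conv_lhs => rw [← show permM g * E = E from hg]
          rw [← mul_assoc, permM_mul, inv_mul_cancel, permM_one, one_mul] }
    have hK : K.Normal := ⟨fun g hg k => by
      show permM (k * g * k⁻¹) * E = E
      rw [← permM_mul, ← permM_mul, mul_assoc, (pairM_inv χ).commute k⁻¹, ← mul_assoc, mul_assoc (permM k),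
        show permM g * E = E from hg, (pairM_inv χ).commute k, mul_assoc, permM_mul, mul_inv_cancel,
        permM_one, mul_one]⟩
    have hN : N' ≤ K := fun n hn => by
      show permM n * E = E
      rw [hE, ← hcomm, ← mul_assoc, permM_mul_avgM hn]
    have hcol : ∀ x x' y, E x y = E x' y := fun x x' y => by
      obtain ⟨g, hg, rfl⟩ := P.normal_trans K hK hN x x'
      have h2 := congrFun (congrFun (show permM g * E = E from hg) (g • x)) y
      rwa [permM_mul_apply, inv_smul_smul] at h2
    apply hF0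
    have : E = 0 := Matrix.ext fun x y => by
      have h2 := hErow y
      rw [Finset.sum_congr rfl fun z _ =>
        (show E y z = E x y by rw [hEdef, pairM_symm, ← hEdef]; exact (hcol z y y).trans (hcol y x y)),
        Finset.sum_const, nsmul_eq_mul, mul_eq_zero] at h2
      exact h2.resolve_left (Nat.cast_ne_zero.2 (by simp))
    rw [hFdef, this, zero_mul]
  -- the scalar
  let A : Matrix X X ℂ := Matrix.of fun x y => E x y ^ 2
  have hAi : Inv T A := fun g x y => by simp [A, hEdef, pairM_inv χ g x y]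
  obtain ⟨c, hc⟩ := pair_scalar hs hAi (fun x y => by simp [A, hEdef, pairM_symm χ x y])
    (fun x y => by simp [A, hEdef, pairM_conj]) χ
  have hAF : A * F = (c : ℂ) • F := by rw [hFdef, ← mul_assoc, hc, smul_mul_assoc]
  have hAD : A * D = (c : ℂ) • D := by rw [hDdef, mul_sub, hc, hAF, smul_sub]
  have hfd : ∀ x y, ((f x y : ℂ) + (d x y : ℂ)) = E x y := fun x y => by
    rw [hf, hd, hDdef, Matrix.sub_apply, add_sub_cancel]
  refine one_le_two_mul (fibre N') _ (fun x => P.fibre_card x a) f d ?_ ?_ ?_ ?_ ?_ ?_ ?_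
    (f a a) (d a a) c ?_ ?_ ?_ ?_ ?_ ?_
  · exact fun x y => by simp only [hfdef, hsymOf F hFh hFconj x y]
  · exact fun x y => by simp only [hddef, hsymOf D hDh hDconj x y]
  · intro x y
    refine Complex.ofReal_injective ?_
    push_cast
    simp only [hf, ← Matrix.mul_apply, hFF]
  · intro x y
    refine Complex.ofReal_injective ?_
    push_cast
    simp only [hd, ← Matrix.mul_apply, hDD]
  · intro x y hxy
    show (D x y).re = 0
    rw [hsupp x y hxy, Complex.zero_re]
  · intro x y y' hy
    simp only [hfdef, hFdef, Matrix.mul_apply, avgM_const_right _ hy]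
  · intro x
    refine Complex.ofReal_injective ?_
    push_cast
    simp only [hd, hDdef, Matrix.sub_apply, Finset.sum_sub_distrib, hErow, hFdef, Matrix.mul_apply]
    rw [Finset.sum_comm]
    simp only [← Finset.mul_sum, avgM_row, mul_one, hErow, sub_zero]
  · exact fun x => by simp only [hfdef, hdiag F hFi x]
  · exact fun x => by simp only [hddef, hdiag D hDi x]
  · exact hpos F hFi hFh hFF hF0
  · exact hpos D hDi hDh hDD hD0
  · intro x y
    refine Complex.ofReal_injective ?_
    push_cast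
    simp only [hfd]
    simp only [hf]
    exact congrFun (congrFun hAF x) y
  · intro x y
    refine Complex.ofReal_injective ?_
    push_cast
    simp only [hfd]
    simp only [hd]
    exact congrFun (congrFun hAD x) y

/-- The packet argument, given the principal block. -/
theorem blockSpread_of_principal [Nonempty X] (B : Finset (IrrCharacter T)) (hB : principalIrr T ∈ B)
    (hBy : ∀ χ ∈ B, ∀ y ∈ L, y ≠ 1 → ∀ n ∈ N', (χ : T → ℂ) (y * n) = (χ : T → ℂ) y)
    (hB0 : ∀ y ∈ L, y ≠ 1 → ∀ n ∈ N', ∑ χ ∈ B,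
      classInner (fun g : T => ((fixedBy X g).ncard : ℂ)) (χ : T → ℂ) * (χ : T → ℂ) (y * n) = 0) :
    BlockSpread T X := by
  obtain ⟨a₀⟩ := ‹Nonempty X›
  have hsN : Sep (X := X) ↥(L ⊔ N') := sep_of_multFree fun θ => P.mult θ
  have hsT : Sep (X := X) T := sep_of_subgroup hsN
  have htrT : ∀ x y : X, ∃ g : T, g • x = y := fun x y => by
    obtain ⟨g, -, h⟩ := P.trans x y
    exact ⟨g, h⟩
  set A0 : Matrix X X ℂ := avgM N' with hA0
  set p := principalIrr T with hp
  set Pp : Matrix X X ℂ := proj p with hPp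
  have hPpa : ∀ x y, Pp x y = (Fintype.card X : ℂ)⁻¹ := proj_principal_apply htrT
  have hcard : (Fintype.card X : ℂ) ≠ 0 := Nat.cast_ne_zero.2 Fintype.card_ne_zero
  -- the part of the block
  set M : Matrix X X ℂ := ∑ ψ ∈ B, proj ψ with hM
  have hMi : Inv T M := Inv.sum _ fun ψ _ => proj_inv ψ
  have hMsupp : ∀ x y, fibre N' x ≠ fibre N' y → M x y = 0 := fun x y hxy =>
    P.supp_of_trace hsN (hMi.subgroup _) (fun z hz hz1 n hn => by
      rw [hM, Matrix.sum_mul, Matrix.trace_sum]
      simp only [trace_proj]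
      exact hB0 z hz hz1 n hn) hxy
  have hMrow : ∀ x, ∑ y, M x y = 1 := fun x => by
    have h : M * Pp = Pp := by rw [hM, hPp, sum_proj_mul_proj, if_pos hB]
    have h2 := congrFun (congrFun h x) x
    simp only [Matrix.mul_apply, hPpa, ← Finset.sum_mul] at h2
    exact mul_right_cancel₀ (inv_ne_zero hcard) (h2.trans (one_mul _).symm)
  have hMA : M * A0 = A0 := by
    ext x y
    rw [Matrix.mul_apply, ← mul_one (A0 x y), ← hMrow x, Finset.mul_sum]
    refine Finset.sum_congr rfl fun z _ => ?_
    by_cases hz : fibre N' x = fibre N' z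
    · rw [hA0, avgM_const_left y hz.symm, mul_comm]
    · rw [hMsupp x z hz, zero_mul, mul_zero]
  have hout : ∀ ψ : IrrCharacter T, ψ ∉ B → (proj ψ : Matrix X X ℂ) * A0 = 0 := fun ψ hψ => by
    rw [← hMA, ← mul_assoc, proj_commute hMi, hM, sum_proj_mul_proj, if_neg hψ, zero_mul]
  have hconjA : ∀ (ψ : IrrCharacter T) x y, ((proj (conjChar ψ) : Matrix X X ℂ) * A0) x y =
      conj (((proj ψ : Matrix X X ℂ) * A0) x y) := fun ψ x y => by
    simp only [Matrix.mul_apply, map_sum, map_mul, ← proj_conjChar, hA0, avgM_conj]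
  have hconj0 : ∀ ψ : IrrCharacter T, (proj ψ : Matrix X X ℂ) * A0 ≠ 0 →
      (proj (conjChar ψ) : Matrix X X ℂ) * A0 ≠ 0 := fun ψ h e => h (Matrix.ext fun x y => by
    have := congrArg conj ((congrFun (congrFun e x) y))
    rw [hconjA, Complex.conj_conj, Matrix.zero_apply, map_zero] at this
    exact this)
  have hsupp : ∀ ψ ∈ B, ∀ x y, fibre N' x ≠ fibre N' y →
      ((proj ψ : Matrix X X ℂ) - proj ψ * A0 : Matrix X X ℂ) x y = 0 := fun ψ hψ x y hxy =>
    P.supp_of_trace hsN
      (((proj_inv ψ).subgroup _).sub (((proj_inv ψ).subgroup _).mul P.avgM_inv))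
      (fun z hz hz1 n hn => by
        rw [sub_mul, Matrix.trace_sub, trace_proj, hBy ψ hψ z hz hz1 n hn, sub_eq_zero, avgM,
          Matrix.mul_smul, Matrix.smul_mul, Matrix.trace_smul, Matrix.mul_sum, Matrix.sum_mul,
          Matrix.trace_sum]
        simp only [mul_assoc, permM_mul, trace_proj]
        rw [Finset.sum_congr rfl (g := fun _ =>
          classInner (fun g : T => ((fixedBy X g).ncard : ℂ)) (ψ : T → ℂ) * (ψ : T → ℂ) z) fun m _ => by
            rw [← mul_assoc (m : T), ← (P.comm z hz m m.2).eq, mul_assoc,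
              hBy ψ hψ z hz hz1 _ (N'.mul_mem m.2 hn)],
          Finset.sum_const, Finset.card_univ, nsmul_eq_mul, smul_eq_mul, Nat.card_eq_fintype_card,
          inv_mul_cancel_left₀ (Nat.cast_ne_zero.2 Fintype.card_ne_zero)]) hxy
  have hpairsupp : ∀ ψ : IrrCharacter T, (proj ψ : Matrix X X ℂ) * A0 ≠ 0 → ∀ x y,
      fibre N' x ≠ fibre N' y → (pairM ψ - pairM ψ * avgM N' : Matrix X X ℂ) x y = 0 := by
    intro ψ hψ x y hxy
    have hmem : ∀ φ ∈ pairOf ψ, φ ∈ B := fun φ hφ => by
      by_contra hc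
      simp only [pairOf, Finset.mem_insert, Finset.mem_singleton] at hφ
      rcases hφ with rfl | rfl
      · exact hψ (hout _ hc)
      · exact hconj0 ψ hψ (hout _ hc)
    rw [pairM, Matrix.sum_mul, ← Finset.sum_sub_distrib, Matrix.sum_apply]
    exact Finset.sum_eq_zero fun φ hφ => hsupp φ (hmem φ hφ) x y hxy
  -- three fibres
  obtain ⟨⟨y, hy⟩, hy1'⟩ := L.ne_bot_iff_exists_ne_one.1 P.ne_bot
  have hy1 : y ≠ 1 := fun e => hy1' (Subtype.ext e)
  have hy2 : y * y ≠ 1 := fun e => by
    obtain ⟨k, hk⟩ := P.pgroup ⟨y, hy⟩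
    have hk' : y ^ l ^ k = 1 := congrArg Subtype.val hk
    obtain ⟨j, hj⟩ := (P.prime.odd_of_ne_two P.odd_l).pow (n := k)
    rw [hj, pow_succ, pow_mul, pow_two, e, one_pow, one_mul] at hk'
    exact hy1 hk'
  have hne1 : ∀ x, fibre N' (y • x) ≠ fibre N' x := fun x => by
    simpa using P.fibre_ne hy hy1 N'.one_mem x
  have hne2 : ∀ x, fibre N' ((y * y) • x) ≠ fibre N' x := fun x => by
    simpa using P.fibre_ne (L.mul_mem hy hy) hy2 N'.one_mem x
  have hPA : Pp * A0 = Pp := by
    ext x z
    simp only [Matrix.mul_apply, hPpa, hA0, ← Finset.mul_sum, avgM_col, mul_one]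
  -- one pair carries everything
  obtain ⟨χ, hχp, hχ0⟩ : ∃ χ, χ ≠ p ∧ (proj χ : Matrix X X ℂ) * A0 ≠ 0 := by
    by_contra hcon
    push Not at hcon
    have h1 : A0 = Pp := by
      rw [← one_mul A0, ← sum_proj (G := T) (X := X), Matrix.sum_mul, Finset.sum_eq_single p (fun ψ _ h => hcon ψ h)
        (fun h => absurd (Finset.mem_univ _) h), ← hPp, hPA]
    have := congrFun (congrFun h1 (y • a₀)) a₀
    rw [hA0, avgM_supp (hne1 a₀), hPpa] at this
    exact inv_ne_zero hcard this.symm
  have hmemp : p ∉ pairOf χ := principal_notMem_pairOf hχp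
  have honly : ∀ φ : IrrCharacter T, φ ∉ insert p (pairOf χ) → (proj φ : Matrix X X ℂ) * A0 = 0 := by
    intro φ hφ
    by_contra hφ0
    rw [Finset.mem_insert, not_or] at hφ
    set n := (Finset.univ.filter fun x => fibre N' x = fibre N' a₀).card with hn
    have b1 := pair_bound P hsT hχp hχ0 (hpairsupp χ hχ0) a₀
    have b2 := pair_bound P hsT hφ.1 hφ0 (hpairsupp φ hφ0) a₀
    have hd : Disjoint (pairOf χ) (pairOf φ) := by
      rw [Finset.disjoint_left]
      intro ψ h1 h2
      refine hφ.2 ?_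
      simp only [pairOf, Finset.mem_insert, Finset.mem_singleton] at h2
      rcases h2 with rfl | rfl
      · exact h1
      · simpa [conjChar_conjChar] using conjChar_mem_pairOf h1
    have hnot : p ∉ pairOf χ ∪ pairOf φ := by
      rw [Finset.mem_union, not_or]
      exact ⟨hmemp, principal_notMem_pairOf hφ.1⟩
    have hsum : ∑ ψ ∈ insert p (pairOf χ ∪ pairOf φ), (((proj ψ : Matrix X X ℂ) * A0) a₀ a₀).re ≤
        (A0 a₀ a₀).re := by
      conv_rhs => rw [← one_mul A0, ← sum_proj (G := T) (X := X), Matrix.sum_mul, Matrix.sum_apply, Complex.re_sum]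
      exact Finset.sum_le_univ_sum_of_nonneg fun ψ => proj_avgM_nonneg N' ψ a₀
    rw [Finset.sum_insert hnot, Finset.sum_union hd] at hsum
    have e1 : ∀ ω : IrrCharacter T, ∑ ψ ∈ pairOf ω, (((proj ψ : Matrix X X ℂ) * A0) a₀ a₀).re =
        (((pairM ω : Matrix X X ℂ) * A0) a₀ a₀).re := fun ω => by
      rw [pairM, Matrix.sum_mul, Matrix.sum_apply, Complex.re_sum]
    have hA : (n : ℝ) * (A0 a₀ a₀).re = 1 := by
      simpa using congrArg Complex.re (P.avgM_diag a₀ a₀)
    rw [e1, e1, ← hPp, hPA, hPpa] at hsum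
    have hpos : (0 : ℝ) < ((Fintype.card X : ℂ)⁻¹).re := by
      rw [← Complex.ofReal_natCast, ← Complex.ofReal_inv, Complex.ofReal_re]
      exact inv_pos.2 (Nat.cast_pos.2 Fintype.card_pos)
    rw [← hA0] at b1 b2
    have hn0 : (0 : ℝ) < n := Nat.cast_pos.2 (Finset.card_pos.2 ⟨a₀, by simp⟩)
    have := mul_le_mul_of_nonneg_left hsum hn0.le
    have := mul_pos hn0 hpos
    nlinarith
  set E : Matrix X X ℂ := pairM χ with hE
  set U : Matrix X X ℂ := Pp + E with hU
  have hUA : U * A0 = A0 := by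
    conv_rhs => rw [← one_mul A0, ← sum_proj (G := T) (X := X), Matrix.sum_mul,
      ← Finset.sum_subset (Finset.subset_univ (insert p (pairOf χ))) (fun φ _ h => honly φ h),
      Finset.sum_insert hmemp]
    rw [hU, hE, pairM, add_mul, Matrix.sum_mul]
  have hUsupp : ∀ x z, fibre N' x ≠ fibre N' z → U x z = 0 := fun x z hxz => by
    have h1 := hpairsupp χ hχ0 x z hxz
    have h2 : U - U * A0 = E - E * A0 := by rw [hU, add_mul, hPA]; abel
    have h3 := congrFun (congrFun h2 x) z
    rw [← hE, ← hA0] at h1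
    rw [hUA, Matrix.sub_apply, hA0, avgM_supp hxz, sub_zero, ← hA0, h1] at h3
    exact h3
  have hUi : Inv T U := fun g x z => by
    simp only [hU, Matrix.add_apply, hPp, hE, proj_inv p g x z, pairM_inv χ g x z]
  have hErow : ∀ x, ∑ z, E x z = 0 := fun x => by
    have h : E * Pp = 0 := by rw [hE, pairM, hPp, sum_proj_mul_proj, if_neg hmemp]
    have h2 := congrFun (congrFun h x) x
    simp only [Matrix.mul_apply, hPpa, ← Finset.sum_mul, Matrix.zero_apply, mul_eq_zero,
      inv_eq_zero, hcard, or_false] at h2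
    exact h2
  have hUrow : ∀ x, ∑ z, U x z = 1 := fun x => by
    simp only [hU, Matrix.add_apply, Finset.sum_add_distrib, hErow, hPpa, Finset.sum_const,
      Finset.card_univ, nsmul_eq_mul, mul_inv_cancel₀ hcard, add_zero]
  let S : Setoid X := Relation.EqvGen.setoid fun x z => U x z ≠ 0
  have hSf : ∀ {x z}, S x z → fibre N' x = fibre N' z := fun {x z} h => by
    change Relation.EqvGen _ x z at h
    induction h with
    | rel u w huw => exact of_not_not fun hne => huw (hUsupp u w hne)
    | refl u => rfl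
    | symm u w _ ih => exact ih.symm
    | trans u v w _ _ ih ih' => exact ih.trans ih'
  refine ⟨S, ?_, ⟨a₀, y • a₀, (y * y) • a₀, fun h => hne1 a₀ (hSf h).symm,
    fun h => hne2 a₀ (hSf h).symm,
    fun h => hne1 (y • a₀) (by rw [← mul_smul]; exact (hSf h).symm)⟩, ?_⟩
  · intro g x z h
    change Relation.EqvGen _ x z at h
    show Relation.EqvGen _ (g • x) (g • z)
    induction h with
    | rel u w huw => exact Relation.EqvGen.rel _ _ (by rwa [hUi g u w])
    | refl u => exact Relation.EqvGen.refl _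
    | symm u w _ ih => exact Relation.EqvGen.symm _ _ ih
    | trans u v w _ _ ih ih' => exact Relation.EqvGen.trans _ _ _ ih ih'
  intro R hRsym hRinv a b d hab had hRab
  let A : Matrix X X ℂ := Matrix.of fun x z => if R x z then 1 else 0
  have hAi : Inv T A := fun g x z => by
    simp only [A, Matrix.of_apply]
    exact if_congr ⟨fun h => by simpa using hRinv g⁻¹ _ _ h, hRinv g x z⟩ rfl rfl
  obtain ⟨c, hc⟩ := pair_scalar hsT hAi
    (fun x z => by simp only [A, Matrix.of_apply]; exact if_congr ⟨hRsym x z, hRsym z x⟩ rfl rfl)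
    (fun x z => by simp only [A, Matrix.of_apply]; split_ifs <;> simp) χ
  rw [← hE] at hc
  set deg : ℂ := ∑ x, A a x with hdeg
  have hkey : ∀ z, ¬ S a z → ∑ x, A a x * (if S z x then 1 else 0) =
      (deg - c) * ((∑ x : X, if S z x then (1 : ℂ) else 0) * (Fintype.card X : ℂ)⁻¹) := by
    intro z haz
    set f : X → ℂ := fun x => if S z x then 1 else 0 with hf
    set F : ℂ := (∑ x : X, if S z x then (1 : ℂ) else 0) * (Fintype.card X : ℂ)⁻¹
    have hUf : U *ᵥ f = f := by
      funext w
      rw [Matrix.mulVec, dotProduct, ← mul_one (f w), ← hUrow w, Finset.mul_sum]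
      refine Finset.sum_congr rfl fun x _ => ?_
      by_cases h0 : U w x = 0
      · rw [h0, zero_mul, mul_zero]
      · have hwx : S w x := Relation.EqvGen.rel _ _ h0
        have : f x = f w := if_congr ⟨fun h => S.trans h (S.symm hwx), fun h => S.trans h hwx⟩ rfl rfl
        rw [this, mul_comm]
    have hPf : Pp *ᵥ f = fun _ => F := funext fun w => by
      simp only [Matrix.mulVec, dotProduct, hPpa, ← Finset.mul_sum, F, hf]
      rw [mul_comm]
    have hEf : E *ᵥ f = f - Pp *ᵥ f := by
      rw [eq_sub_iff_add_eq, add_comm, ← Matrix.add_mulVec, ← hU, hUf]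
    have h := congrFun (congrArg (A *ᵥ ·) hUf) a
    simp only [hU, Matrix.add_mulVec, Matrix.mulVec_add, Matrix.mulVec_mulVec, hc, Pi.add_apply] at h
    rw [← Matrix.mulVec_mulVec, hPf, Matrix.smul_mulVec, hEf, hPf] at h
    simp only [Matrix.mulVec, dotProduct, ← Finset.sum_mul, Pi.smul_apply, Pi.sub_apply, hf, smul_eq_mul,
      if_neg (fun h : S z a => haz (S.symm h)), ← hdeg] at h
    linear_combination -h
  have hF : ∀ z, (∑ x : X, if S z x then (1 : ℂ) else 0) ≠ 0 := fun z => by
    rw [Finset.sum_boole]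
    exact Nat.cast_ne_zero.2 (Finset.card_ne_zero.2 ⟨z, by simp [S.refl z]⟩)
  have hcount : ∀ z, ∑ x, A a x * (if S z x then 1 else 0) =
      ((Finset.univ.filter fun x => R a x ∧ S z x).card : ℂ) := fun z => by
    rw [← Finset.sum_boole]
    refine Finset.sum_congr rfl fun x _ => ?_
    by_cases h1 : R a x <;> by_cases h2 : S z x <;> simp [A, h1, h2]
  have hb : deg - c ≠ 0 := fun h0 => by
    have h := hkey b hab
    rw [hcount, h0, zero_mul, Nat.cast_eq_zero, Finset.card_eq_zero, Finset.filter_eq_empty_iff] at h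
    exact h (Finset.mem_univ b) ⟨hRab, S.refl b⟩
  have h := hkey d had
  rw [hcount] at h
  have hne : (Finset.univ.filter fun x => R a x ∧ S d x).card ≠ 0 := fun h0 => by
    rw [h0, Nat.cast_zero] at h
    exact mul_ne_zero hb (mul_ne_zero (hF d) (inv_ne_zero hcard)) h.symm
  obtain ⟨d', hd'⟩ := Finset.card_ne_zero.1 hne
  exact ⟨d', (Finset.mem_filter.1 hd').2.2, (Finset.mem_filter.1 hd').2.1⟩

/-- The packet argument. -/
theorem blockSpread [Nonempty X] : BlockSpread T X := by
  obtain ⟨B, hB, h⟩ := P.exists_principalSet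
  exact blockSpread_of_principal P B hB (fun χ hχ y hy hy1 n hn => (h y hy hy1 n hn).1 χ hχ)
    fun y hy hy1 n hn => (h y hy hy1 n hn).2

end CfsgLib.BenderQ.Residual
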