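import Cfsg.Agent.Lib.BenderQ.SymSpace
import Mathlib.GroupTheory.GroupAction.Quotient

/-!
A transitive permutation character is multiplicity free when a bijection of the points reverses
every orbital, as then the invariant matrices commute.
-/

set_option autoImplicit false
set_option linter.unusedSectionVars false

namespace CfsgLib.BenderQ.Residual

open Cfsg CfsgLib.Characters MulAction
open scoped ComplexConjugate

universe u v w

variable {D : Type u} [Group D] {X : Type v} [MulAction D X] [Fintype X]

/-- Invariant matrices commute when a bijection reverses every orbital. -/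
theorem sum_mul_comm_of_reverse (ι : X → X) (hι : Function.Bijective ι)
    (hrev : ∀ a b, ∃ d : D, d • a = ι b ∧ d • b = ι a) {A B : X → X → ℂ}
    (hA : ∀ (d : D) a b, A (d • a) (d • b) = A a b) (hB : ∀ (d : D) a b, B (d • a) (d • b) = B a b)
    (a b : X) : ∑ c, A a c * B c b = ∑ c, B a c * A c b := by
  obtain ⟨d, hda, hdb⟩ := hrev a b
  have hflip : ∀ {C : X → X → ℂ}, (∀ (d : D) a b, C (d • a) (d • b) = C a b) →
      ∀ x y, C x y = C (ι y) (ι x) := fun {C} hC x y => by
    obtain ⟨e, hx, hy⟩ := hrev x y
    rw [← hC e x y, hx, hy]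
  calc ∑ c, A a c * B c b = ∑ c, B (ι b) (ι c) * A (ι c) (ι a) :=
        Finset.sum_congr rfl fun c _ => by rw [hflip hA a c, hflip hB c b, mul_comm]
    _ = ∑ c, B (ι b) c * A c (ι a) := hι.sum_comp fun c => B (ι b) c * A c (ι a)
    _ = ∑ c, B (d • a) (d • c) * A (d • c) (d • b) := by
        rw [hda, hdb]
        exact ((MulAction.bijective d).sum_comp fun c => B (ι b) c * A c (ι a)).symm
    _ = _ := Finset.sum_congr rfl fun c _ => by rw [hA, hB]

variable [Fintype D] [IsPretransitive D X]

/-- The products of functions invariant on both sides under a point stabiliser commute. -/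
theorem sum_swap_of_reverse (ι : X → X) (hι : Function.Bijective ι)
    (hrev : ∀ a b, ∃ d : D, d • a = ι b ∧ d • b = ι a) (x₀ : X) [Fintype (stabilizer D x₀)]
    (F : D → ℂ) (hF : ∀ a ∈ stabilizer D x₀, ∀ b ∈ stabilizer D x₀, ∀ z, F (a * z * b) = F z)
    (g g' : D) :
    ∑ k : stabilizer D x₀, F (g * k * g') = ∑ k : stabilizer D x₀, F (g' * k * g) := by
  classical
  let A : D → X → X → ℂ := fun g a b => ∑ w : D, if w • x₀ = a ∧ (w * g) • x₀ = b then 1 else 0
  have hA : ∀ g (d : D) a b, A g (d • a) (d • b) = A g a b := by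
    intro g d a b
    refine (Fintype.sum_equiv (Equiv.mulLeft d) _ _ fun w => ?_).symm
    simp only [Equiv.coe_mulLeft, mul_assoc, mul_smul, smul_left_cancel_iff]
  choose t ht using fun b : X => exists_smul_eq D x₀ b
  have hY : ∀ z : D, F (t (z • x₀)) = F z := by
    intro z
    have hmem : z⁻¹ * t (z • x₀) ∈ stabilizer D x₀ := by
      rw [mem_stabilizer_iff, mul_smul, ht, inv_smul_smul]
    have := hF 1 (one_mem _) _ hmem z
    rw [one_mul, mul_inv_cancel_left] at this
    exact this
  have key : ∀ g g' : D, ∑ b : X, F (t b) * ∑ c : X, A g x₀ c * A g' c b =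
      (Nat.card (stabilizer D x₀) : ℂ) * ∑ k : stabilizer D x₀, F (g * k * g') := by
    intro g g'
    have hsum : ∀ (φ : D → ℂ) (u : D), ∑ w : D, (if w • x₀ = u • x₀ then φ w else 0) =
        ∑ k : stabilizer D x₀, φ (u * k) := by
      intro φ u
      rw [← Finset.sum_filter]
      refine (Finset.sum_bij (fun (k : stabilizer D x₀) _ => u * k) (fun k _ => ?_)
        (fun k _ k' _ e => Subtype.ext (mul_left_cancel e)) ?_ fun k _ => rfl).symm
      · rw [Finset.mem_filter]
        exact ⟨Finset.mem_univ _, by rw [mul_smul, mem_stabilizer_iff.1 k.2]⟩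
      · intro w hw
        exact ⟨⟨u⁻¹ * w, by rw [mem_stabilizer_iff, mul_smul, (Finset.mem_filter.1 hw).2,
          inv_smul_smul]⟩, Finset.mem_univ _, mul_inv_cancel_left u w⟩
    calc ∑ b : X, F (t b) * ∑ c : X, A g x₀ c * A g' c b
        = ∑ w : D, ∑ w' : D, if w • x₀ = x₀ then
            (if w' • x₀ = (w * g) • x₀ then F (t ((w' * g') • x₀)) else 0) else 0 := by
          simp only [A, Finset.sum_mul, Finset.mul_sum]
          conv_rhs => rw [Finset.sum_comm]
          rw [Finset.sum_congr rfl fun b _ => Finset.sum_comm, Finset.sum_comm]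
          refine Finset.sum_congr rfl fun w' _ => ?_
          rw [Finset.sum_congr rfl fun b _ => Finset.sum_comm, Finset.sum_comm]
          refine Finset.sum_congr rfl fun w _ => ?_
          rw [Finset.sum_eq_single ((w' * g') • x₀) (fun b _ hb => Finset.sum_eq_zero fun c _ => by
            simp [show ¬((w' * g') • x₀ = b) from fun h => hb h.symm]) (fun h => absurd (Finset.mem_univ _) h),
            Finset.sum_eq_single ((w * g) • x₀) (fun c _ hc => by
            simp [show ¬((w * g) • x₀ = c) from fun h => hc h.symm]) (fun h => absurd (Finset.mem_univ _) h)]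
          simp only [and_true]
          split_ifs <;> ring
      _ = ∑ h : stabilizer D x₀, ∑ k : stabilizer D x₀, F (t ((h * g * k * g') • x₀)) := by
          have h1 := hsum (fun w => ∑ w' : D,
            if w' • x₀ = (w * g) • x₀ then F (t ((w' * g') • x₀)) else 0) 1
          simp only [one_smul, one_mul] at h1
          rw [← h1.trans (Finset.sum_congr rfl fun h _ =>
            hsum (fun w' => F (t ((w' * g') • x₀))) ((h : D) * g))]
          exact Finset.sum_congr rfl fun w _ => by split_ifs <;> simp
      _ = ∑ h : stabilizer D x₀, ∑ k : stabilizer D x₀, F (g * k * g') := by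
          refine Finset.sum_congr rfl fun h _ => Finset.sum_congr rfl fun k _ => ?_
          rw [hY]
          have := hF h h.2 1 (one_mem _) (g * k * g')
          rw [mul_one] at this
          rw [← this]
          congr 1
          group
      _ = _ := by rw [Finset.sum_const, Finset.card_univ, nsmul_eq_mul, Nat.card_eq_fintype_card]
  refine mul_left_cancel₀ (Nat.cast_ne_zero.2 (Nat.card_pos (α := stabilizer D x₀)).ne' :
    (Nat.card (stabilizer D x₀) : ℂ) ≠ 0) ?_
  rw [← key, ← key]
  exact Finset.sum_congr rfl fun b _ => by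
    rw [sum_mul_comm_of_reverse ι hι hrev (hA g) (hA g') x₀ b]

/-- A transitive permutation character is multiplicity free when a bijection of the points reverses
every orbital. -/
theorem mult_le_one (ι : X → X) (hι : Function.Bijective ι)
    (hrev : ∀ a b, ∃ d : D, d • a = ι b ∧ d • b = ι a) (θ : IrrCharacter D) :
    classInner (fun d : D => ((fixedBy X d).ncard : ℂ)) (θ : D → ℂ) = 0 ∨
      classInner (fun d : D => ((fixedBy X d).ncard : ℂ)) (θ : D → ℂ) = 1 := by
  classical
  rcases isEmpty_or_nonempty X with hX | ⟨⟨x₀⟩⟩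
  · left
    simp [classInner, Set.eq_empty_of_isEmpty]
  set M := ∑ k : stabilizer D x₀, (θ : D → ℂ) k with hM
  have hfib : ∀ x : X, ∑ d : D, (if d • x = x then (1 : ℂ) else 0) * conj ((θ : D → ℂ) d) = conj M := by
    intro x
    obtain ⟨a, ha⟩ := exists_smul_eq D x₀ x
    simp only [ite_mul, one_mul, zero_mul, ← Finset.sum_filter, hM, map_sum]
    symm
    refine Finset.sum_bij (fun (k : stabilizer D x₀) _ => a * k * a⁻¹)
      (fun k _ => Finset.mem_filter.2 ⟨Finset.mem_univ _, ?_⟩)
      (fun k _ k' _ e => Subtype.ext (mul_left_cancel (mul_right_cancel e))) ?_ fun k _ => ?_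
    · rw [← ha, mul_smul, inv_smul_smul, mul_smul, mem_stabilizer_iff.1 k.2]
    · intro d hd
      refine ⟨⟨a⁻¹ * d * a, ?_⟩, Finset.mem_univ _, by simp [mul_assoc]⟩
      rw [mem_stabilizer_iff, mul_smul, ha, mul_smul, (Finset.mem_filter.1 hd).2, ← ha, inv_smul_smul]
    · rw [irr_isClassFunction θ]
  have hcount : ∀ d : D, ((fixedBy X d).ncard : ℂ) = ∑ x : X, if d • x = x then (1 : ℂ) else 0 := by
    intro d
    rw [Finset.sum_boole, ← Set.ncard_coe_finset]
    congr 2
    ext x
    simp [mem_fixedBy]
  have horb : Nat.card X * Nat.card (stabilizer D x₀) = Nat.card D := by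
    simp only [Nat.card_eq_fintype_card]
    rw [← card_orbit_mul_card_stabilizer_eq_card_group D x₀]
    congr 1
    exact (Fintype.card_congr ((Equiv.setCongr (orbit_eq_univ D x₀)).trans (Equiv.Set.univ X))).symm
  have hval : classInner (fun d : D => ((fixedBy X d).ncard : ℂ)) (θ : D → ℂ) =
      conj M / Nat.card (stabilizer D x₀) := by
    haveI : Nonempty X := ⟨x₀⟩
    have hXc : (Nat.card X : ℂ) ≠ 0 := Nat.cast_ne_zero.2 Nat.card_pos.ne'
    have hS : (Nat.card (stabilizer D x₀) : ℂ) ≠ 0 := Nat.cast_ne_zero.2 Nat.card_pos.ne'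
    simp only [classInner, hcount, Finset.sum_mul]
    rw [Finset.sum_comm, Finset.sum_congr rfl fun x _ => hfib x, Finset.sum_const, Finset.card_univ,
      ← Nat.card_eq_fintype_card, nsmul_eq_mul, ← horb, Nat.cast_mul]
    field_simp
  rw [hval]
  by_cases h0 : M = 0
  · left; rw [h0, map_zero, zero_div]
  · right
    rw [hM, sum_subgroup_eq_card_of_swap _
      (fun F hF g g' => sum_swap_of_reverse ι hι hrev x₀ F hF g g') θ h0, map_natCast,
      div_self (Nat.cast_ne_zero.2 Nat.card_pos.ne')]

/-- An action with the fixed point counts of such an action has a multiplicity free character. -/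
theorem mult_le_one_of_ncard_eq {Y : Type w} [MulAction D Y] (ι : X → X) (hι : Function.Bijective ι)
    (hrev : ∀ a b, ∃ d : D, d • a = ι b ∧ d • b = ι a)
    (hcount : ∀ d : D, (fixedBy Y d).ncard = (fixedBy X d).ncard) (θ : IrrCharacter D) :
    classInner (fun d : D => ((fixedBy Y d).ncard : ℂ)) (θ : D → ℂ) = 0 ∨
      classInner (fun d : D => ((fixedBy Y d).ncard : ℂ)) (θ : D → ℂ) = 1 := by
  simp only [hcount]
  exact mult_le_one ι hι hrev θ

end CfsgLib.BenderQ.Residual
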