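import Cfsg.Agent.Lib.BenderQ.Kernel
import Cfsg.Agent.Lib.Frobenius.FPFThompson
import Cfsg.Agent.Lib.OddOrder.PuigSeries
import Cfsg.Agent.Lib.BenderQ.Inv

/-!
A nontrivial normal subgroup of a point stabiliser contains the involutions at that point and,
together with the two point stabiliser, generates the stabiliser, provided the inverted elements
generate a nilpotent self-centralising subgroup of the two point stabiliser.
-/

set_option autoImplicit false
set_option linter.unusedSectionVars false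
set_option linter.style.haveILetI false

namespace CfsgLib.BenderQ.Residual

open CfsgLib.Involutions CfsgLib.BenderTrans MulAction
open scoped commutatorElement

universe u

variable {G : Type u} [Group G] [Finite G] {Ω : Type u} [MulAction G Ω] [Finite Ω]

omit [Finite G] [Finite Ω] in
/-- The two point stabiliser normalises the subgroup generated by its inverted elements. -/
theorem two_le_normalizer_closure [Finite G] {c y : Ω} {r : G} (hr : r ∈ swaps G c y) :
    BenderTrans.two G c y ≤ Subgroup.normalizer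
      (Subgroup.closure (BenderQ.invSet G Ω c y r) : Set G) := by
  intro d hd
  set N := Subgroup.closure (BenderQ.invSet G Ω c y r)
  have hr2 : r * r = 1 := mul_self_eq_one hr.1
  have hri : r⁻¹ = r := inv_eq_self_of_involution hr.1
  have key : ∀ {r' : G}, r' ∈ swaps G c y → ∀ x ∈ BenderQ.invSet G Ω c y r', x ∈ N := by
    intro r' hr' x hx
    have hr'2 : r' * r' = 1 := mul_self_eq_one hr'.1
    have hri' : r'⁻¹ = r' := inv_eq_self_of_involution hr'.1
    set a := r * r' with ha
    have haN : a ∈ BenderQ.invSet G Ω c y r := by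
      refine ⟨swap_mul_swap_mem hr hr', ?_⟩
      rw [ha, mul_inv_rev, hri, hri', ← mul_assoc, hr2, one_mul]
    have hax : a * x ∈ BenderQ.invSet G Ω c y r := by
      refine ⟨mul_mem haN.1 hx.1, ?_⟩
      have h1 : r' * x * r'⁻¹ = x⁻¹ := hx.2
      calc r * (a * x) * r⁻¹ = (r * r) * (r' * x * r'⁻¹) * (r' * r⁻¹) := by rw [ha]; group
        _ = (a * x)⁻¹ := by rw [hr2, one_mul, h1, ha, hri, mul_inv_rev, mul_inv_rev, hri, hri']
    have := mul_mem (inv_mem (Subgroup.subset_closure haN : a ∈ N))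
      (Subgroup.subset_closure hax : a * x ∈ N)
    rwa [inv_mul_cancel_left] at this
  refine Coprime.mem_normalizer_of_forall_conj fun n hn => ?_
  induction hn using Subgroup.closure_induction with
  | mem x hx =>
    refine key (conj_swap_mem hr hd) _ ⟨mul_mem (mul_mem hd hx.1) (inv_mem hd), ?_⟩
    calc d * r * d⁻¹ * (d * x * d⁻¹) * (d * r * d⁻¹)⁻¹ = d * (r * x * r⁻¹) * d⁻¹ := by group
      _ = (d * x * d⁻¹)⁻¹ := by rw [hx.2]; group
  | one => simp
  | mul x z _ _ h1 h2 => simpa [mul_assoc] using mul_mem h1 h2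
  | inv x _ h1 => simpa [mul_assoc] using inv_mem h1

/-- A nontrivial nilpotent normal subgroup of a point stabiliser makes the involutions there
commute. -/
theorem commute_of_nilpotent_normal (S : Step G Ω) {c : Ω} {K : Subgroup G} (hK : K ≠ ⊥)
    (hKc : K ≤ stabilizer G c) (hKn : stabilizer G c ≤ Subgroup.normalizer (K : Set G))
    (hnil : Group.IsNilpotent K) : ∀ s ∈ invAt G c, ∀ t ∈ invAt G c, Commute s t := by
  classical
  haveI := hnil
  -- every Sylow subgroup of odd order is trivial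
  have hodd : ∀ p : ℕ, p.Prime → p ∣ Nat.card K → p = 2 := by
    intro p hp hpd
    by_contra hne
    haveI : Fact p.Prime := ⟨hp⟩
    obtain ⟨P⟩ := (inferInstance : Nonempty (Sylow p K))
    have hPn : (P : Subgroup K).Normal :=
      ((Group.isNilpotent_of_finite_tfae (G := K)).out 0 3 rfl rfl).mp hnil p inferInstance P
    have hPc : (P : Subgroup K).Characteristic := P.characteristic_of_normal hPn
    have hn : stabilizer G c ≤ Subgroup.normalizer (((P : Subgroup K).map K.subtype) : Set G) := by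
      intro g hg
      refine Coprime.mem_normalizer_of_forall_conj ?_
      rintro _ ⟨x, hx, rfl⟩
      let e : K ≃* K :=
        { toFun := fun k => ⟨g * k * g⁻¹, Coprime.mem_normalizer_conj (hKn hg) k.2⟩
          invFun := fun k => ⟨g⁻¹ * k * g, Coprime.mem_normalizer_conj' (hKn hg) k.2⟩
          left_inv := fun k => Subtype.ext (by simp [mul_assoc])
          right_inv := fun k => Subtype.ext (by simp [mul_assoc])
          map_mul' := fun a b => Subtype.ext (by simp [mul_assoc]) }
      have h1 : e x ∈ (P : Subgroup K) := by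
        have := hPc.fixed e
        have h2 : x ∈ ((P : Subgroup K)).comap e.toMonoidHom := by rw [this]; exact hx
        exact h2
      exact ⟨e x, h1, rfl⟩
    have hcard : Odd (Nat.card ((P : Subgroup K).map K.subtype)) := by
      rw [Nat.card_congr (Subgroup.equivMapOfInjective (P : Subgroup K) K.subtype
        K.subtype_injective).toEquiv.symm]
      obtain ⟨k, hk⟩ := IsPGroup.iff_card.1 P.isPGroup'
      rw [hk]
      exact (hp.odd_of_ne_two hne).pow
    have hbot := S.core c _ ((Subgroup.map_subtype_le _).trans hKc) hn hcard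
    rw [Subgroup.map_eq_bot_iff_of_injective _ K.subtype_injective] at hbot
    have h2 := P.ne_bot_of_dvd_card hpd
    exact h2 hbot
  have h2 : 2 ∣ Nat.card K := by
    have h1 : Nat.card K ≠ 1 := fun e => hK (Subgroup.card_eq_one.1 e)
    have := hodd _ (Nat.minFac_prime h1) (Nat.minFac_dvd _)
    exact this ▸ Nat.minFac_dvd _
  have hK2 : IsPGroup 2 K := IsPGroup.of_card (n := (Nat.card K).primeFactorsList.length)
    (Nat.eq_prime_pow_of_unique_prime_dvd Nat.card_pos.ne' fun {d} hd hdd => hodd d hd hdd)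
  haveI : Nontrivial K := (Subgroup.nontrivial_iff_ne_bot K).2 hK
  haveI : Fact (Nat.Prime 2) := ⟨Nat.prime_two⟩
  have hZ : 2 ∣ Nat.card (Subgroup.center K) := by
    obtain ⟨n, hn⟩ := IsPGroup.iff_card.1 (hK2.to_subgroup (Subgroup.center K))
    have : Nontrivial (Subgroup.center K) := hK2.center_nontrivial
    have h1 : 1 < Nat.card (Subgroup.center K) := Finite.one_lt_card
    rcases n with _ | n
    · rw [hn, pow_zero] at h1; omega
    · rw [hn, pow_succ]; exact dvd_mul_left _ _
  obtain ⟨z, hz⟩ := exists_prime_orderOf_dvd_card' (G := Subgroup.center K) 2 hZ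
  have hzo : orderOf ((z : K) : G) = 2 := by rw [Subgroup.orderOf_coe, Subgroup.orderOf_coe, hz]
  have hzc : ((z : K) : G) ∈ invAt G c := ⟨hzo, hKc (z : K).2⟩
  obtain ⟨y, hy⟩ := S.base.nontriv c
  -- every involution at the point is central in the subgroup
  have hcen : ∀ s ∈ invAt G c, s ∈ K ∧ ∀ k ∈ K, Commute s k := by
    intro s hs
    obtain ⟨d, hd, rfl⟩ := S.base.exists_conj_invAt hy.symm hzc hs
    have hdn := hKn (mem_two_iff.1 hd).1
    refine ⟨Coprime.mem_normalizer_conj hdn (z : K).2, fun k hk => ?_⟩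
    have h1 := Coprime.mem_normalizer_conj' hdn hk
    have h3 : (d⁻¹ * k * d) * ((z : K) : G) = ((z : K) : G) * (d⁻¹ * k * d) :=
      congrArg Subtype.val (Subgroup.mem_center_iff.1 z.2 ⟨_, h1⟩)
    show d * ((z : K) : G) * d⁻¹ * k = k * (d * ((z : K) : G) * d⁻¹)
    calc d * ((z : K) : G) * d⁻¹ * k = d * (((z : K) : G) * (d⁻¹ * k * d)) * d⁻¹ := by group
      _ = d * ((d⁻¹ * k * d) * ((z : K) : G)) * d⁻¹ := by rw [h3]
      _ = k * (d * ((z : K) : G) * d⁻¹) := by group
  exact fun s hs t ht => (hcen s hs).2 t (hcen t ht).1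

/-- Normal subgroups of a point stabiliser in the component case. -/
theorem normal_contains_invAt (S : Step G Ω) {c y : Ω} (hy : y ≠ c) {r : G} (hr : r ∈ swaps G c y)
    (hnc : ¬ ∀ s ∈ invAt G c, ∀ t ∈ invAt G c, Commute s t)
    (hnil : Group.IsNilpotent (Subgroup.closure (BenderQ.invSet G Ω c y r)))
    (hcent : ∀ d ∈ BenderTrans.two G c y,
      (∀ n ∈ Subgroup.closure (BenderQ.invSet G Ω c y r), Commute d n) →
        d ∈ BenderQ.invSet G Ω c y r)
    (hexact : ∀ j ∈ BenderQ.invSet G Ω c y r, j ≠ 1 → ∀ w, j • w = w → w = c ∨ w = y)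
    {K : Subgroup G} (hK : K ≠ ⊥) (hKc : K ≤ stabilizer G c)
    (hKn : stabilizer G c ≤ Subgroup.normalizer (K : Set G)) :
    invAt G c ⊆ K ∧
      ∀ g ∈ stabilizer G c, ∃ k ∈ K, ∃ d ∈ BenderTrans.two G c y, g = k * d := by
  classical
  set D := BenderTrans.two G c y with hD
  set N := Subgroup.closure (BenderQ.invSet G Ω c y r) with hN
  have hND : N ≤ D := (Subgroup.closure_le _).2 fun x hx => hx.1
  have hDn : D ≤ Subgroup.normalizer (N : Set G) := two_le_normalizer_closure hr
  have hDK : D ≤ Subgroup.normalizer (K : Set G) := fun d hd => hKn (mem_two_iff.1 hd).1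
  -- there are inverted elements
  obtain ⟨j₀, hj₀, hj₀1⟩ : ∃ j ∈ BenderQ.invSet G Ω c y r, j ≠ 1 := by
    by_contra hall
    push Not at hall
    apply hnc
    have hle : (swaps G c y).ncard ≤ 1 := (Set.ncard_le_one (Set.toFinite _)).2 fun a ha b hb => by
      have key : ∀ {r' : G}, r' ∈ swaps G c y → r' = r := fun {r'} hr' => by
        have h1 : r * r' = 1 := hall _ ⟨swap_mul_swap_mem hr hr', by
          rw [mul_inv_rev, inv_eq_self_of_involution hr.1, inv_eq_self_of_involution hr'.1,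
            ← mul_assoc, mul_self_eq_one hr.1, one_mul]⟩
        rw [mul_eq_one_iff_eq_inv.1 h1, inv_eq_self_of_involution hr'.1]
      rw [key ha, key hb]
    rw [S.base.ncard_swaps hy.symm] at hle
    exact fun s hs t ht => by
      rw [(Set.ncard_le_one (Set.toFinite _)).1 hle s hs t ht]
  -- the intersection with the two point stabiliser is not trivial
  have hKD : K ⊓ D ≠ ⊥ := by
    intro h0
    obtain ⟨e, he⟩ := exists_prime_power_of_ne_one hj₀1
    have hjD : j₀ ^ e ∈ D := pow_mem hj₀.1 e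
    have hjJ : j₀ ^ e ∈ BenderQ.invSet G Ω c y r := ⟨hjD, by rw [← conj_pow, hj₀.2, inv_pow]⟩
    have hj1 : j₀ ^ e ≠ 1 := fun h => he.ne_one (by rw [h, orderOf_one])
    refine hnc (commute_of_nilpotent_normal S hK hKc hKn ?_)
    refine Frobenius.Thompson.isNilpotent_of_element K (h := j₀ ^ e) (hDK hjD) he
      (pow_orderOf_eq_one _) fun k hk hjk => ?_
    have h1 : k ∈ D := S.centralizer_le_two_of_inverted hy hr hjJ hj1
      (Subgroup.mem_centralizer_singleton_iff.2 hjk.symm)
    have h2 : k ∈ K ⊓ D := ⟨hk, h1⟩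
    rwa [h0, Subgroup.mem_bot] at h2
  -- an inverted element in the subgroup
  obtain ⟨z, hzK, hzJ, hz1⟩ : ∃ z ∈ K, z ∈ BenderQ.invSet G Ω c y r ∧ z ≠ 1 := by
    haveI := hnil
    have hKDN : K ⊓ D ⊓ N ≠ ⊥ := by
      intro h0
      apply hKD
      rw [eq_bot_iff]
      intro d hd
      have hcom : ∀ n ∈ N, Commute d n := by
        intro n hn
        have h1 : ⁅d, n⁆ ∈ K ⊓ D ⊓ N := by
          refine ⟨⟨?_, ?_⟩, ?_⟩
          · rw [commutatorElement_def,
              show d * n * d⁻¹ * n⁻¹ = d * (n * d⁻¹ * n⁻¹) by group]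
            exact K.mul_mem hd.1 (Coprime.mem_normalizer_conj (hDK (hND hn)) (K.inv_mem hd.1))
          · exact D.mul_mem (D.mul_mem (D.mul_mem hd.2 (hND hn)) (D.inv_mem hd.2)) (D.inv_mem (hND hn))
          · rw [commutatorElement_def]
            exact N.mul_mem (Coprime.mem_normalizer_conj (hDn hd.2) hn) (N.inv_mem hn)
        rw [h0, Subgroup.mem_bot] at h1
        exact commutatorElement_eq_one_iff_commute.1 h1
      have h2 : d ∈ N := Subgroup.subset_closure (hcent d hd.2 hcom)
      have h3 : d ∈ K ⊓ D ⊓ N := ⟨hd, h2⟩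
      rwa [h0] at h3
    set C : Subgroup N := (K ⊓ D).subgroupOf N with hC
    haveI : C.Normal := ⟨fun x hx n => by
      rw [hC, Subgroup.mem_subgroupOf] at hx ⊢
      exact ⟨Coprime.mem_normalizer_conj (hDK (hND n.2)) hx.1,
        D.mul_mem (D.mul_mem (hND n.2) hx.2) (D.inv_mem (hND n.2))⟩⟩
    have hC1 : C ≠ ⊥ := by
      intro h0
      apply hKDN
      rw [eq_bot_iff]
      intro x hx
      have : (⟨x, hx.2⟩ : N) ∈ C := Subgroup.mem_subgroupOf.2 hx.1
      rw [h0, Subgroup.mem_bot] at this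
      exact Subgroup.mem_bot.2 (congrArg Subtype.val this)
    obtain ⟨⟨w, hwZ, hwC⟩, hw1⟩ : ∃ w : ↥(Subgroup.center N ⊓ C), w ≠ 1 := by
      haveI := (Subgroup.nontrivial_iff_ne_bot _).mpr (OddOrder.PuigSeries.inf_center_ne_bot C hC1)
      exact exists_ne 1
    rw [hC] at hwC
    have hwKD := Subgroup.mem_subgroupOf.1 hwC
    refine ⟨(w : G), hwKD.1, hcent _ hwKD.2 fun n hn => ?_, fun h => hw1 (Subtype.ext (Subtype.ext h))⟩
    exact (congrArg Subtype.val (Subgroup.mem_center_iff.1 hwZ ⟨n, hn⟩)).symm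
  obtain ⟨e, he⟩ := exists_prime_power_of_ne_one hz1
  haveI : Fact (orderOf (z ^ e)).Prime := ⟨he⟩
  have hjD : z ^ e ∈ D := pow_mem hzJ.1 e
  have hjK : z ^ e ∈ K := pow_mem hzK e
  have hjJ : z ^ e ∈ BenderQ.invSet G Ω c y r := ⟨hjD, by rw [← conj_pow, hzJ.2, inv_pow]⟩
  have hj1 : z ^ e ≠ 1 := fun h => he.ne_one (by rw [h, orderOf_one])
  -- a Sylow subgroup of the subgroup containing it lies in the two point stabiliser
  set T := stabilizer G c with hT
  set K' : Subgroup T := K.subgroupOf T with hK'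
  haveI : K'.Normal := ⟨fun x hx g => by
    rw [hK', Subgroup.mem_subgroupOf] at hx ⊢
    exact Coprime.mem_normalizer_conj (hKn g.2) hx⟩
  set j : K' := ⟨⟨z ^ e, hKc hjK⟩, Subgroup.mem_subgroupOf.2 hjK⟩ with hjdef
  have hjo : orderOf j = orderOf (z ^ e) := by
    rw [← Subgroup.orderOf_coe, ← Subgroup.orderOf_coe]
  obtain ⟨Q, hQ⟩ := IsPGroup.exists_le_sylow (p := orderOf (z ^ e))
    (P := Subgroup.zpowers j) (IsPGroup.of_card (n := 1) (by rw [Nat.card_zpowers, hjo, pow_one]))
  have hjQ : j ∈ (Q : Subgroup K') := hQ (Subgroup.mem_zpowers j)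
  -- the normaliser of a subgroup of it fixes the second point
  have key : ∀ g : T, (∀ x ∈ (Q : Subgroup K'), (((x : T) : G)) ∈ D →
      ∃ x' ∈ (Q : Subgroup K'), ((x' : T) : G) ∈ D ∧ g * (x' : T) = (x : T) * g) →
      (g : G) ∈ D := by
    intro g hg
    obtain ⟨x', hx', hx'D, hxx⟩ := hg j hjQ hjD
    have hfix : (z ^ e) • ((g : G) • y) = (g : G) • y := by
      rw [← mul_smul]
      have h1 : (g : G) * ((x' : T) : G) = (z ^ e) * (g : G) := congrArg Subtype.val hxx
      rw [← h1, mul_smul, (mem_two_iff.1 hx'D).2]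
    rcases hexact _ hjJ hj1 _ hfix with h | h
    · exact absurd (smul_left_cancel (g : G) (h.trans g.2.symm)) hy
    · exact mem_two_iff.2 ⟨g.2, h⟩
  have hQD : ∀ x ∈ (Q : Subgroup K'), ((x : T) : G) ∈ D := by
    by_contra hne
    push Not at hne
    obtain ⟨x, hxQ, hxD⟩ := hne
    set P : Subgroup (Q : Subgroup K') :=
      ((D.subgroupOf T).subgroupOf K').subgroupOf (Q : Subgroup K') with hP
    have hmem : ∀ w : (Q : Subgroup K'), w ∈ P ↔ (((w : K') : T) : G) ∈ D := fun w => Iff.rfl
    haveI : Group.IsNilpotent (Q : Subgroup K') := Q.isPGroup'.isNilpotent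
    have hlt : P < ⊤ := lt_top_iff_ne_top.2 fun h => hxD
      ((hmem ⟨x, hxQ⟩).1 (h ▸ Subgroup.mem_top _))
    obtain ⟨g, hgN, hgP⟩ := SetLike.exists_of_lt
      (Group.normalizerCondition_of_isNilpotent P hlt)
    refine hgP ((hmem g).2 (key ((g : K') : T) fun x hx hxD => ?_))
    have h1 : g⁻¹ * (⟨x, hx⟩ : (Q : Subgroup K')) * g ∈ P := by
      have := (Subgroup.mem_normalizer_iff.1 (inv_mem hgN) ⟨x, hx⟩).1 ((hmem ⟨x, hx⟩).2 hxD)
      rwa [inv_inv] at this
    refine ⟨_, (g⁻¹ * (⟨x, hx⟩ : (Q : Subgroup K')) * g).2, (hmem _).1 h1, ?_⟩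
    simp [mul_assoc]
  have hsplit : ∀ g ∈ T, ∃ k ∈ K, ∃ d ∈ D, g = k * d := by
    intro g hg
    have hmem : (⟨g, hg⟩ : T) ∈
        Subgroup.normalizer (((Q : Subgroup K').map K'.subtype : Subgroup T) : Set T) ⊔ K' := by
      rw [Sylow.normalizer_sup_eq_top Q]; exact Subgroup.mem_top _
    obtain ⟨n, hn, k, hk, hnk⟩ := Subgroup.mem_sup_of_normal_right.1 hmem
    have hnD : (n : G) ∈ D := by
      refine key n fun x hx _ => ?_
      obtain ⟨x', hx', hxe⟩ : n⁻¹ * (x : T) * n ∈ ((Q : Subgroup K').map K'.subtype : Subgroup T) := by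
        have := (Subgroup.mem_normalizer_iff.1 (inv_mem hn) (x : T)).1 ⟨x, hx, rfl⟩
        rwa [inv_inv] at this
      refine ⟨x', hx', hQD x' hx', ?_⟩
      rw [show (x' : T) = n⁻¹ * (x : T) * n from hxe]
      group
    rw [hK', Subgroup.mem_subgroupOf] at hk
    refine ⟨(n : G) * k * (n : G)⁻¹, Coprime.mem_normalizer_conj (hKn n.2) hk, n, hnD, ?_⟩
    rw [inv_mul_cancel_right]
    exact (congrArg Subtype.val hnk).symm
  refine ⟨fun s hs => ?_, hsplit⟩
  -- the quotient by the subgroup has odd order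
  obtain ⟨k, hk, d, hd, rfl⟩ := hsplit s hs.2
  have hpow : ∀ i : ℕ, (k * d) ^ i * (d ^ i)⁻¹ ∈ K := by
    intro i
    induction i with
    | zero => simp
    | succ i ih =>
      have h1 : (k * d) ^ (i + 1) * (d ^ (i + 1))⁻¹ =
          ((k * d) ^ i * (d ^ i)⁻¹) * (d ^ i * k * (d ^ i)⁻¹) := by
        rw [pow_succ, pow_succ]; group
      rw [h1]
      exact mul_mem ih (Coprime.mem_normalizer_conj (hDK (pow_mem hd i)) hk)
  obtain ⟨i, hi⟩ := S.base.odd_two hy.symm
  have h2 := hpow (2 * i + 1)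
  have hd1 : d ^ (2 * i + 1) = 1 := by
    rw [← hi]
    exact orderOf_dvd_iff_pow_eq_one.1 (Subgroup.orderOf_dvd_natCard D hd)
  rwa [hd1, inv_one, mul_one, pow_succ, pow_mul, pow_two, mul_self_eq_one hs.1, one_pow,
    one_mul] at h2

end CfsgLib.BenderQ.Residual
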