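import Cfsg.Agent.Lib.BenderQ.Sec
import Cfsg.Agent.Lib.BenderQ.SecCyclic
import Cfsg.Agent.Lib.BenderQ.CountEnough
import Cfsg.Agent.Lib.BenderQ.Residual.Defs

/-!
The facts on sections used in the component case.
-/

set_option autoImplicit false
set_option linter.style.haveILetI false

namespace CfsgLib.BenderQ.Residual

open CfsgLib.Involutions CfsgLib.BenderTrans MulAction

universe u

variable {G : Type u} [Group G] [Finite G] {Ω : Type u} [MulAction G Ω] [Finite Ω]

/-- Both fixed points of an element commuting with a swapper of them are centres of involutions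
commuting with it, as soon as a four group commutes with it. -/
theorem centres_of_four (hS : Step G Ω) {c y : Ω} (hyc : y ≠ c) {r : G} (hr : r ∈ swaps G c y)
    {s : G} (hs : s ∈ BenderTrans.two G c y) (hp : (orderOf s).Prime) (hrs : Commute r s)
    (h4 : FourIn (Subgroup.centralizer ({s} : Set G))) :
    c ∈ centres Ω (Subgroup.centralizer ({s} : Set G)) ∧
      y ∈ centres Ω (Subgroup.centralizer ({s} : Set G)) := by
  classical
  have hfix := mem_two_iff.1 hs
  have hrM : r ∈ Subgroup.centralizer ({s} : Set G) := Subgroup.mem_centralizer_singleton_iff.2 hrs.eq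
  by_cases h3 : 2 < {w : Ω | s • w = w}.ncard
  · have hmem : ∀ {w : Ω}, s • w = w → w ∈ centres Ω (Subgroup.centralizer ({s} : Set G)) :=
      fun {w} hw => by
        obtain ⟨t, ht, hts⟩ := hS.exists_invAt_commute
          (fun X i i' hX => @CfsgLib.PF.oddSolvable X i i' hX) hp h3 hw
        exact mem_centres (Subgroup.mem_centralizer_singleton_iff.2 hts.symm.eq) ht
    exact ⟨hmem hfix.1, hmem hfix.2⟩
  obtain ⟨a, haM, b, hbM, ha, -⟩ := h4
  obtain ⟨e, he⟩ := hS.base.exists_fix a ha
  have hse : s • e = e :=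
    hS.base.fix_of_commute ⟨ha, he⟩ (Subgroup.mem_centralizer_singleton_iff.1 haM : Commute a s).symm
  have heC : e ∈ centres Ω (Subgroup.centralizer ({s} : Set G)) := mem_centres haM ⟨ha, he⟩
  have hcases : e = c ∨ e = y := by
    by_contra hne
    push Not at hne
    exact h3 ((Set.two_lt_ncard (Set.toFinite _)).2
      ⟨c, hfix.1, y, hfix.2, e, hse, hyc.symm, hne.1.symm, hne.2.symm⟩)
  have hre : r • e ∈ centres Ω (Subgroup.centralizer ({s} : Set G)) := smul_mem_centres hrM heC
  rcases hcases with rfl | rfl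
  · exact ⟨heC, hr.2 ▸ hre⟩
  · exact ⟨swaps_symm hr ▸ hre, heC⟩

/-- The facts on sections hold in the induction step. -/
theorem sectFacts (hS : Step G Ω) : SectFacts G Ω where
  lift := by
    intro c s hsc hp h4 hc
    set M := Subgroup.centralizer ({s} : Set G) with hM
    by_cases hMulti : Multi Ω M
    · have hne : M ≠ ⊤ := hS.centralizer_ne_top fun e => hp.ne_one (by rw [e, orderOf_one])
      obtain ⟨Q, hle, hQp, -, htr, hsemi, -, hn⟩ := hS.exists_sec hne hMulti h4 hc
      refine ⟨Q, hQp, hle.trans (le_of_eq (inf_comm _ _)), ?_, fun x hx w hw hxc hwc => htr x w hx hw hxc hwc,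
        fun g hg x _ hxc => hsemi g hg x hxc⟩
      intro g hg
      exact Coprime.mem_normalizer_of_forall_conj
        (hn g hg.1 fun k hk => M.mul_mem (M.mul_mem hg.2 hk) (M.inv_mem hg.2))
    · refine ⟨⊥, IsPGroup.of_bot, bot_le, fun g _ => ?_, fun x hx w hw hxc hwc => ?_, fun g hg x _ _ _ =>
        Subgroup.mem_bot.1 hg⟩
      · exact Coprime.mem_normalizer_of_forall_conj fun k hk => by
          rw [Subgroup.mem_bot.1 hk, mul_one, mul_inv_cancel]; exact one_mem _
      · exact absurd ⟨c, hc, x, hx, hxc.symm⟩ hMulti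
  cyclic := by
    intro c y hyc r hr s hs hp hrs h4
    set M := Subgroup.centralizer ({s} : Set G) with hM
    obtain ⟨hc, hy⟩ := centres_of_four hS hyc hr hs hp hrs h4
    have hne : M ≠ ⊤ := hS.centralizer_ne_top fun e => hp.ne_one (by rw [e, orderOf_one])
    obtain ⟨J, hJ, hJc⟩ := hS.exists_sec_cyclic hne h4 hc hy hyc
      (Subgroup.mem_centralizer_singleton_iff.2 hrs.eq) hr
    refine ⟨J, hJc, fun j hj hjs => ?_⟩
    show j ∈ (J : Set G)
    rw [hJ]
    exact ⟨hj, Subgroup.mem_centralizer_singleton_iff.2 hjs.symm.eq⟩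

end CfsgLib.BenderQ.Residual
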