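import Cfsg.Agent.Lib.BenderQ.Residual.Nilp
import Cfsg.Agent.Lib.BenderQ.Residual.NormalSub
import Cfsg.Agent.Lib.BenderQ.Residual.Sections
import Cfsg.Agent.Lib.BenderQ.InvAll
import Cfsg.Agent.Lib.BenderQ.InvPi
import Cfsg.Agent.Lib.BenderQ.SingerBasic
import Cfsg.Agent.Lib.BenderQ.Residual.CountLocal
import Cfsg.Agent.Lib.BenderQ.Residual.MultFree
import Cfsg.Agent.Lib.BenderQ.Residual.Endgame
import Cfsg.Agent.Lib.BenderQ.Residual.Disc
import Cfsg.Agent.S4037

/-!
The component case of Bender's theorem is impossible: in the inductive setting involutions with the same centre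
commute.  The subgroup generated by the inverted elements is self-centralising, transitive on the involutions at a
point and twisted by a bad element, so it is nilpotent and has a central inverted Sylow subgroup, which gives a
packet and with it a block system.
-/

set_option autoImplicit false

namespace CfsgLib.BenderQ.Residual

open CfsgLib.Involutions CfsgLib.BenderTrans MulAction

universe u

variable {G : Type u} [Group G] [Finite G] {Ω : Type u} [MulAction G Ω] [Finite Ω] {c y : Ω} {r : G}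

/-- In the component case only the identity fixes `c` and centralises all involutions at `c`. -/
theorem eq_one_of_commute_invAt (S : Step G Ω) (hnc : ¬ ∀ s ∈ invAt G c, ∀ t ∈ invAt G c, Commute s t)
    (hy : y ≠ c) {d : G} (hd : d • c = c) (hdX : ∀ t ∈ invAt G c, Commute d t) : d = 1 := by
  set K := stabilizer G c ⊓ Subgroup.centralizer (invAt G c) with hK
  have hKn : stabilizer G c ≤ Subgroup.normalizer (K : Set G) := fun g hg =>
    CfsgLib.Coprime.mem_normalizer_of_forall_conj fun k hk => by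
      refine ⟨(stabilizer G c).mul_mem ((stabilizer G c).mul_mem hg hk.1) ((stabilizer G c).inv_mem hg), Subgroup.mem_centralizer_iff.2 fun t ht => ?_⟩
      have h1 := Subgroup.mem_centralizer_iff.1 hk.2 _ (conj_invAt_mem ht ((stabilizer G c).inv_mem hg))
      calc t * (g * k * g⁻¹) = g * (g⁻¹ * t * g⁻¹⁻¹ * k) * g⁻¹ := by group
        _ = g * (k * (g⁻¹ * t * g⁻¹⁻¹)) * g⁻¹ := by rw [h1]
        _ = _ := by group
  rcases Nat.even_or_odd (Nat.card K) with he | ho
  · exfalso
    obtain ⟨⟨u, hu⟩, hu2⟩ := exists_prime_orderOf_dvd_card' (G := K) 2 he.two_dvd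
    rw [Subgroup.orderOf_mk] at hu2
    refine hnc fun s hs t ht => ?_
    obtain ⟨g, hg, rfl⟩ := S.base.exists_conj_invAt hy.symm ⟨hu2, hu.1⟩ hs
    have h : g * u * g⁻¹ ∈ K := CfsgLib.Coprime.mem_normalizer_conj (hKn (mem_two_iff.1 hg).1) hu
    exact (Subgroup.mem_centralizer_iff.1 h.2 t ht).symm
  · have := S.core c K inf_le_left hKn ho
    have h : d ∈ K := ⟨hd, Subgroup.mem_centralizer_iff.2 fun t ht => (hdX t ht).eq.symm⟩
    rwa [this, Subgroup.mem_bot] at h

/-- An element fixed by `r` centralising all inverted elements is trivial. -/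
theorem eq_one_of_commute_invSet (S : Step G Ω)
    (hodd : ∀ X : Type u, ∀ _ : Group X, ∀ _ : Finite X, Odd (Nat.card X) → Group.IsSolvable X)
    (hnc : ¬ ∀ s ∈ invAt G c, ∀ t ∈ invAt G c, Commute s t) (hy : y ≠ c) (hr : r ∈ swaps G c y) {d : G}
    (hd : d ∈ BenderTrans.two G c y) (hdr : Commute r d)
    (hdJ : ∀ j ∈ BenderQ.invSet G Ω c y r, Commute d j) : d = 1 := by
  have hR : ∀ r' ∈ swaps G c y, Commute d r' := fun r' hr' => by
    have hj : r * r' ∈ BenderQ.invSet G Ω c y r := by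
      refine ⟨CfsgLib.BenderQ.swap_mul_swap_mem hr hr', ?_⟩
      rw [mul_inv_rev, inv_eq_self_of_involution hr.1, inv_eq_self_of_involution hr'.1, ← mul_assoc,
        mul_self_eq_one hr.1, one_mul]
    have h := hdr.symm.inv_right.mul_right (hdJ _ hj)
    rwa [inv_mul_cancel_left] at h
  refine eq_one_of_commute_invAt S hnc hy (mem_two_iff.1 hd).1 fun t ht => ?_
  have h1 := S.ncard_invAt_commute_eq hodd hy.symm hd
  have h2 : {r | r ∈ swaps G c y ∧ Commute d r} = swaps G c y :=
    Set.ext fun r' => ⟨fun h => h.1, fun h => ⟨h, hR r' h⟩⟩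
  rw [h2, S.base.ncard_swaps hy.symm] at h1
  have h3 : {s | s ∈ invAt G c ∧ Commute d s} = invAt G c :=
    Set.eq_of_subset_of_ncard_le (fun s hs => hs.1) h1.ge (Set.toFinite _)
  exact (h3.ge ht).2

/-- Equal numbers of fixed points transport transitivity. -/
theorem exists_smul_eq_of_card_fixedBy_eq {H X Y : Type*} [Group H] [Finite H] [MulAction H X] [MulAction H Y]
    [Finite X] [Finite Y] [Nonempty Y] [IsPretransitive H Y]
    (h : ∀ g : H, Nat.card (fixedBy X g) = Nat.card (fixedBy Y g)) (a b : X) : ∃ g : H, g • a = b := by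
  classical
  letI := Fintype.ofFinite H
  letI := Fintype.ofFinite X
  letI := Fintype.ofFinite Y
  letI := Fintype.ofFinite (orbitRel.Quotient H X)
  letI := Fintype.ofFinite (orbitRel.Quotient H Y)
  have hX := sum_card_fixedBy_eq_card_orbits_mul_card_group H X
  have hY := sum_card_fixedBy_eq_card_orbits_mul_card_group H Y
  have hsum : (∑ g : H, Fintype.card (fixedBy X g)) = ∑ g : H, Fintype.card (fixedBy Y g) :=
    Finset.sum_congr rfl fun g _ => by simpa only [Nat.card_eq_fintype_card] using h g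
  rw [hX, hY] at hsum
  have h1 := Nat.eq_of_mul_eq_mul_right Fintype.card_pos hsum
  haveI : Subsingleton (orbitRel.Quotient H Y) := (pretransitive_iff_subsingleton_quotient H Y).1 inferInstance
  haveI : Subsingleton (orbitRel.Quotient H X) :=
    Fintype.card_le_one_iff_subsingleton.1 (h1 ▸ Fintype.card_le_one_iff_subsingleton.2 inferInstance)
  haveI := (pretransitive_iff_subsingleton_quotient H X).2 inferInstance
  exact exists_smul_eq H a b

/-- The subgroup generated by the inverted elements is transitive on the involutions at `c`. -/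
theorem exists_closure_conj_invAt (S : Step G Ω)
    (hodd : ∀ X : Type u, ∀ _ : Group X, ∀ _ : Finite X, Odd (Nat.card X) → Group.IsSolvable X)
    (hy : y ≠ c) (hr : r ∈ swaps G c y) {s t : G} (hs : s ∈ invAt G c) (ht : t ∈ invAt G c) :
    ∃ n ∈ Subgroup.closure (BenderQ.invSet G Ω c y r), n * s * n⁻¹ = t := by
  classical
  set N := Subgroup.closure (BenderQ.invSet G Ω c y r) with hN
  have hND : N ≤ BenderTrans.two G c y := (Subgroup.closure_le _).2 fun x hx => hx.1
  letI : MulAction N (invAt G c) :=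
    { smul := fun g u => ⟨(g : G) * u * (g : G)⁻¹, conj_invAt_mem u.2 (mem_two_iff.1 (hND g.2)).1⟩
      one_smul := fun u => Subtype.ext (show (1 : G) * u * (1 : G)⁻¹ = u by simp)
      mul_smul := fun g g' u => Subtype.ext (by
        show ((g : G) * g') * u * ((g : G) * g')⁻¹ = (g : G) * ((g' : G) * u * (g' : G)⁻¹) * (g : G)⁻¹
        group) }
  letI : MulAction N (swaps G c y) :=
    { smul := fun g u => ⟨(g : G) * u * (g : G)⁻¹, CfsgLib.BenderQ.conj_swap_mem u.2 (hND g.2)⟩
      one_smul := fun u => Subtype.ext (show (1 : G) * u * (1 : G)⁻¹ = u by simp)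
      mul_smul := fun g g' u => Subtype.ext (by
        show ((g : G) * g') * u * ((g : G) * g')⁻¹ = (g : G) * ((g' : G) * u * (g' : G)⁻¹) * (g : G)⁻¹
        group) }
  have hjmem : ∀ r' ∈ swaps G c y, r * r' ∈ N := fun r' hr' => Subgroup.subset_closure
    ⟨CfsgLib.BenderQ.swap_mul_swap_mem hr hr', by
      rw [mul_inv_rev, inv_eq_self_of_involution hr.1, inv_eq_self_of_involution hr'.1, ← mul_assoc,
        mul_self_eq_one hr.1, one_mul]⟩
  have hbase : ∀ r' : swaps G c y, ∃ d : N, d • (⟨r, hr⟩ : swaps G c y) = r' := fun r' => by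
    obtain ⟨d, -, hdz, hdr⟩ := S.base.exists_conj_swaps hy.symm hr r'.2
    exact ⟨⟨d, Subgroup.zpowers_le.2 (hjmem _ r'.2) hdz⟩, Subtype.ext hdr⟩
  haveI : IsPretransitive N (swaps G c y) := ⟨fun a a' => by
    obtain ⟨d, hd⟩ := hbase a
    obtain ⟨d', hd'⟩ := hbase a'
    exact ⟨d' * d⁻¹, by rw [mul_smul, inv_smul_eq_iff.2 hd.symm, hd']⟩⟩
  haveI : Nonempty (swaps G c y) := ⟨⟨r, hr⟩⟩
  have hfix : ∀ g : N, Nat.card (fixedBy (invAt G c) g) = Nat.card (fixedBy (swaps G c y) g) := fun g => by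
    have e : ∀ A : Set G, ∀ f : A → A, (∀ a, (f a : G) = (g : G) * a * (g : G)⁻¹) →
        Nat.card {a : A // f a = a} = {a | a ∈ A ∧ Commute (g : G) a}.ncard := fun A f hf => by
      rw [← Nat.card_coe_set_eq]
      refine Nat.card_congr ⟨fun a => ⟨a.1, a.1.2, mul_inv_eq_iff_eq_mul.1 ((hf a.1).symm.trans
        (congrArg Subtype.val a.2))⟩, fun a => ⟨⟨a.1, a.2.1⟩, Subtype.ext ((hf _).trans
        (mul_inv_eq_iff_eq_mul.2 a.2.2))⟩, fun a => rfl, fun a => rfl⟩
    show Nat.card {a : invAt G c // g • a = a} = Nat.card {a : swaps G c y // g • a = a}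
    rw [e _ _ fun a => rfl, e _ _ fun a => rfl]
    exact S.ncard_invAt_commute_eq hodd hy.symm (hND g.2)
  obtain ⟨n, hn⟩ := exists_smul_eq_of_card_fixedBy_eq (Y := swaps G c y) hfix ⟨s, hs⟩ ⟨t, ht⟩
  exact ⟨n, n.2, congrArg Subtype.val hn⟩

/-- A bad element commuting with the swapper twists the subgroup generated by the inverted elements. -/
theorem twist_of_isBad (S : Step G Ω) (hy : y ≠ c) (hr : r ∈ swaps G c y) {b : ℕ} {z : G}
    (hb : IsBad G Ω b z) (hz : z ∈ BenderTrans.two G c y) (hzr : Commute z r) :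
    Twist (Subgroup.closure (BenderQ.invSet G Ω c y r)) r z b := by
  set N := Subgroup.closure (BenderQ.invSet G Ω c y r) with hN
  have hND : N ≤ BenderTrans.two G c y := (Subgroup.closure_le _).2 fun x hx => hx.1
  obtain ⟨hbp, hbo, -, -⟩ := S.isBad_iff.1 hb
  haveI := Fact.mk hbp
  refine
    { odd_N := (S.base.odd_two hy.symm).of_dvd_nat (Subgroup.card_dvd_of_le hND)
      ord_r := hr.1
      prime_b := hbp
      odd_b := (S.base.odd_two hy.symm).of_dvd_nat (hbo ▸ Subgroup.orderOf_dvd_natCard _ hz)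
      ord_z := hbo
      comm := hzr.symm
      ncop := S.not_dvd_card_closure_invSet hy hr (S.bad_not_dvd hb c)
      r_norm := ?_
      z_norm := two_le_normalizer_closure hr hz
      fix := fun g hg hzg => ?_
      cyc := fun s hs hsp hrs => ?_ }
  · refine CfsgLib.Coprime.mem_normalizer_of_forall_conj fun n hn => ?_
    induction hn using Subgroup.closure_induction with
    | mem x hx => rw [hx.2]; exact inv_mem (Subgroup.subset_closure hx)
    | one => simp
    | mul u v _ _ h1 h2 => simpa [mul_assoc] using mul_mem h1 h2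
    | inv u _ h1 => simpa [mul_assoc] using inv_mem h1
  · obtain ⟨-, ⟨r₀, -, huniq⟩⟩ := S.bad_unique hb hy hz
    have h1 : g * r * g⁻¹ = r := (huniq _ ⟨CfsgLib.BenderQ.conj_swap_mem hr (hND hg),
      (hzg.mul_right hzr).mul_right hzg.inv_right⟩).trans (huniq r ⟨hr, hzr⟩).symm
    exact (mul_inv_eq_iff_eq_mul.1 h1).symm
  · haveI := Fact.mk hsp
    have hdvd : orderOf s ∣ (invAt G c).ncard := by
      by_contra h
      exact S.not_dvd_card_closure_invSet hy hr h (Subgroup.orderOf_dvd_natCard _ hs)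
    have h4 := S.fourIn_of_dvd hsp (S.two_lt_fix_of_commute_swap hy (hND hs) hr hrs.symm) hdvd
    obtain ⟨A, hA, hmem⟩ := (sectFacts S).cyclic c y hy r hr s (hND hs) hsp hrs h4
    exact ⟨A, hA, fun j hj hsj => hmem j ⟨hND hj.1, hj.2⟩ hsj⟩

/-- The subgroup generated by the inverted elements is generated by its inverted elements. -/
theorem closure_invSet_le {G : Type u} [Group G] {Ω : Type u} [MulAction G Ω] (c y : Ω) (r : G) :
    Subgroup.closure (BenderQ.invSet G Ω c y r) ≤
      Subgroup.closure (invSet (Subgroup.closure (BenderQ.invSet G Ω c y r)) r) :=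
  Subgroup.closure_mono fun j hj => ⟨Subgroup.subset_closure hj, hj.2⟩

/-- The subgroup generated by the inverted elements contains its centraliser in the two point stabiliser,
and that centraliser is inverted. -/
theorem mem_invSet_of_commute (S : Step G Ω)
    (hodd : ∀ X : Type u, ∀ _ : Group X, ∀ _ : Finite X, Odd (Nat.card X) → Group.IsSolvable X)
    (hnc : ¬ ∀ s ∈ invAt G c, ∀ t ∈ invAt G c, Commute s t) (hy : y ≠ c) (hr : r ∈ swaps G c y) {b : ℕ} {z : G}
    (T : Twist (Subgroup.closure (BenderQ.invSet G Ω c y r)) r z b) {d : G}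
    (hd : d ∈ BenderTrans.two G c y)
    (hdN : ∀ n ∈ Subgroup.closure (BenderQ.invSet G Ω c y r), Commute d n) :
    d ∈ BenderQ.invSet G Ω c y r := by
  set N := Subgroup.closure (BenderQ.invSet G Ω c y r)
  set C := BenderTrans.two G c y ⊓ Subgroup.centralizer (N : Set G) with hC
  have hrC : r ∈ Subgroup.normalizer (C : Set G) := CfsgLib.Coprime.mem_normalizer_of_forall_conj fun x hx => by
    refine ⟨CfsgLib.Coprime.mem_normalizer_conj (OneFix.swap_normalizes hr) hx.1,
      Subgroup.mem_centralizer_iff.2 fun n hn => ?_⟩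
    have h1 := Subgroup.mem_centralizer_iff.1 hx.2 _ (CfsgLib.Coprime.mem_normalizer_conj' T.r_norm hn)
    calc n * (r * x * r⁻¹) = r * ((r⁻¹ * n * r) * x) * r⁻¹ := by group
      _ = _ := by rw [h1]; group
  refine ⟨hd, inverted_of_no_fix T hrC (fun x hx hrx => ?_)
    (x := d) ⟨hd, Subgroup.mem_centralizer_iff.2 fun n hn => (hdN n hn).symm.eq⟩⟩
  exact eq_one_of_commute_invSet S hodd hnc hy hr hx.1 hrx fun j hj =>
    (Subgroup.mem_centralizer_iff.1 hx.2 j (Subgroup.subset_closure hj)).symm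

/-- The elements of 2-power order fixing `c`. -/
def twoElems (G : Type u) [Group G] {Ω : Type u} [MulAction G Ω] (c : Ω) : Set G :=
  {g | g • c = c ∧ ∃ k, orderOf g = 2 ^ k}

omit [Finite Ω] in
theorem twoElems_closure_le (c : Ω) : Subgroup.closure (twoElems G c) ≤ stabilizer G c :=
  (Subgroup.closure_le _).2 fun _ hg => hg.1

omit [Finite Ω] in
theorem le_normalizer_twoElems (c : Ω) :
    stabilizer G c ≤ Subgroup.normalizer (Subgroup.closure (twoElems G c) : Set G) := fun g hg =>
  CfsgLib.Coprime.mem_normalizer_of_forall_conj fun x hx => by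
    have h : (Subgroup.closure (twoElems G c)).map (MulAut.conj g).toMonoidHom ≤
        Subgroup.closure (twoElems G c) := by
      rw [MonoidHom.map_closure, Subgroup.closure_le]
      rintro _ ⟨w, ⟨hw, k, hk⟩, rfl⟩
      refine Subgroup.subset_closure ⟨(stabilizer G c).mul_mem ((stabilizer G c).mul_mem hg hw)
        ((stabilizer G c).inv_mem hg), k, ?_⟩
      rw [orderOf_injective (MulAut.conj g).toMonoidHom (MulAut.conj g).injective, hk]
    exact h ⟨x, hx, rfl⟩

/-- In a normal subgroup `K` of the stabiliser with odd-order complement part lie all 2-elements. -/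
theorem twoElems_subset_of_factor (hodd : Odd (Nat.card (BenderTrans.two G c y))) {K : Subgroup G}
    (hKn : stabilizer G c ≤ Subgroup.normalizer (K : Set G))
    (hfac : ∀ g ∈ stabilizer G c, ∃ k ∈ K, ∃ d ∈ BenderTrans.two G c y, g = k * d) :
    Subgroup.closure (twoElems G c) ≤ K := by
  refine (Subgroup.closure_le _).2 fun g hg => ?_
  obtain ⟨hgc0, i, hi⟩ := hg
  have hgc : g ∈ stabilizer G c := hgc0
  obtain ⟨k, hk, d, hd, rfl⟩ := hfac g hgc
  set K' := K.subgroupOf (stabilizer G c)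
  haveI : K'.Normal := Subgroup.normal_subgroupOf_of_le_normalizer hKn
  have hdc : d ∈ stabilizer G c := (mem_two_iff.1 hd).1
  have heq : QuotientGroup.mk' K' ⟨k * d, hgc⟩ = QuotientGroup.mk' K' ⟨d, hdc⟩ := by
    refine (QuotientGroup.eq.2 ?_).symm
    show d⁻¹ * (k * d) ∈ K
    have h := CfsgLib.Coprime.mem_normalizer_conj (hKn ((stabilizer G c).inv_mem hdc)) hk
    rwa [inv_inv, mul_assoc] at h
  have h1 : orderOf (QuotientGroup.mk' K' ⟨k * d, hgc⟩) ∣ 2 ^ i := by
    refine (orderOf_map_dvd _ _).trans ?_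
    rw [Subgroup.orderOf_mk, hi]
  have h2 : orderOf (QuotientGroup.mk' K' ⟨k * d, hgc⟩) ∣ Nat.card (BenderTrans.two G c y) := by
    rw [heq]
    refine (orderOf_map_dvd _ _).trans ?_
    rw [Subgroup.orderOf_mk]
    exact Subgroup.orderOf_dvd_natCard _ hd
  have h3 := Nat.eq_one_of_dvd_coprimes ((Nat.coprime_two_left.2 hodd).pow_left i) h1 h2
  exact Subgroup.mem_subgroupOf.1 ((QuotientGroup.eq_one_iff (N := K') ⟨k * d, hgc⟩).1 (orderOf_eq_one_iff.1 h3))

/-- The data of the component case. -/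
theorem component_facts (S : Step G Ω)
    (hodd : ∀ X : Type u, ∀ _ : Group X, ∀ _ : Finite X, Odd (Nat.card X) → Group.IsSolvable X)
    (hnc : ¬ ∀ s ∈ invAt G c, ∀ t ∈ invAt G c, Commute s t) (hy : y ≠ c) (hr : r ∈ swaps G c y) {b : ℕ} {z : G}
    (T : Twist (Subgroup.closure (BenderQ.invSet G Ω c y r)) r z b) :
    Group.IsNilpotent (Subgroup.closure (BenderQ.invSet G Ω c y r)) ∧
      ∀ K : Subgroup G, K ≠ ⊥ → K ≤ stabilizer G c → stabilizer G c ≤ Subgroup.normalizer (K : Set G) →
        Subgroup.closure (twoElems G c) ≤ K ∧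
          ∀ g ∈ stabilizer G c, ∃ k ∈ K, ∃ d ∈ BenderTrans.two G c y, g = k * d := by
  have hnil := isNilpotent_of_twisted T (hodd _ inferInstance inferInstance T.odd_N) (closure_invSet_le c y r)
  refine ⟨hnil, fun K hK hKc hKn => ?_⟩
  obtain ⟨-, hfac⟩ := normal_contains_invAt S hy hr hnc hnil
    (fun d hd hdN => mem_invSet_of_commute S hodd hnc hy hr T hd hdN)
    (fun j hj hj1 w hw => by
      have h : w ∈ {w : Ω | j • w = w} := hw
      rw [S.fix_eq_pair_of_inverted hy hr hj hj1] at h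
      exact h) hK hKc hKn
  exact ⟨twoElems_subset_of_factor (S.base.odd_two hy.symm) hKn hfac, hfac⟩

/-- In a subgroup of the stabiliser containing its 2-elements, transitive on the other points and on the
involutions at `c`, some element is bad and commutes with a swapper. -/
theorem exists_bad_in (S : Step G Ω)
    (hodd : ∀ X : Type u, ∀ _ : Group X, ∀ _ : Finite X, Odd (Nat.card X) → Group.IsSolvable X)
    (hnc : ¬ ∀ s ∈ invAt G c, ∀ t ∈ invAt G c, Commute s t) (hy : y ≠ c) {T' : Subgroup G}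
    (hle : T' ≤ stabilizer G c) (htwo : Subgroup.closure (twoElems G c) ≤ T')
    (htr : ∀ w, w ≠ c → ∃ g ∈ T', g • y = w)
    (hX : ∀ s ∈ invAt G c, ∀ t ∈ invAt G c, ∃ d ∈ T' ⊓ BenderTrans.two G c y, d * s * d⁻¹ = t) :
    ∃ b z r, IsBad G Ω b z ∧ z ∈ T' ∧ z ∈ BenderTrans.two G c y ∧ r ∈ swaps G c y ∧ Commute z r := by
  obtain ⟨z, ⟨hzT, hz⟩, hzp, h3, h4⟩ := exists_noFour S hodd hy hnc hle
    (fun g hg hk => htwo (Subgroup.subset_closure ⟨hg, hk⟩)) htr hX
  obtain ⟨r, hr, hzr⟩ := S.exists_swap_commute hy hz h3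
  exact ⟨_, z, r, S.isBad_iff.2 ⟨hzp, rfl, h3, h4⟩, hzT, hz, hr, hzr⟩

/-- A twisting element in the subgroup generated by 2-elements pulls the inverted elements into it. -/
theorem le_of_twist {N T₀ : Subgroup G} {b : ℕ} {z : G} (T : Twist N r z b) (hsolv : Group.IsSolvable N)
    (hgen : N ≤ Subgroup.closure (invSet N r)) (hN : N ≤ Subgroup.normalizer (T₀ : Set G)) (hz : z ∈ T₀) :
    N ≤ T₀ := by
  set A := Subgroup.zpowers z
  have hA : A ≤ Subgroup.normalizer (N : Set G) := Subgroup.zpowers_le.2 T.z_norm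
  have hcop : (Nat.card A).Coprime (Nat.card N) := by
    rw [Nat.card_zpowers, T.ord_z]
    exact T.prime_b.coprime_iff_not_dvd.2 T.ncop
  set M := ⁅N, A⁆ with hM
  have hMT : M ≤ T₀ := by
    refine Subgroup.commutator_le.2 fun g hg a ha => ?_
    rw [commutatorElement_def]
    exact T₀.mul_mem (CfsgLib.Coprime.mem_normalizer_conj (hN hg) (Subgroup.zpowers_le.2 hz ha))
      (T₀.inv_mem (Subgroup.zpowers_le.2 hz ha))
  refine hgen.trans ((Subgroup.closure_le _).2 fun j hj => hMT ?_)
  have hjN := hj.1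
  have hj' : j ∈ (N ⊓ Subgroup.centralizer (A : Set G)) ⊔ M := by
    rw [sup_comm, hM, CfsgLib.Coprime.commutator_sup_centralizer A N hA hcop (Or.inr hsolv)]
    exact hjN
  obtain ⟨a, ⟨haN, haC⟩, m, hm, rfl⟩ := CfsgLib.Coprime.exists_mul_of_mem_sup
    (inf_le_left.trans (CfsgLib.Coprime.le_normalizer_commutator_left N A)) hj'
  have hra : r * a * r⁻¹ = a := mul_inv_eq_iff_eq_mul.2
    (T.fix a haN (Subgroup.mem_centralizer_iff.1 haC z (Subgroup.mem_zpowers z))).eq
  have hrm : r * m * r⁻¹ ∈ M := by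
    have h1 : (M.map (MulAut.conj r).toMonoidHom) ≤ M := by
      rw [hM, Subgroup.map_commutator]
      refine Subgroup.commutator_mono ?_ ?_
      · rintro _ ⟨v, hv, rfl⟩
        exact CfsgLib.Coprime.mem_normalizer_conj T.r_norm hv
      · rintro _ ⟨v, hv, rfl⟩
        obtain ⟨i, rfl⟩ := Subgroup.mem_zpowers_iff.1 hv
        show r * z ^ i * r⁻¹ ∈ A
        rw [(T.comm.zpow_right i).eq, mul_inv_cancel_right]
        exact A.zpow_mem (Subgroup.mem_zpowers z) i
    exact h1 ⟨m, hm, rfl⟩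
  have h2 : (a * m) * (a * m) ∈ M := by
    have h3 : (a * m)⁻¹ = a * (r * m * r⁻¹) := by
      rw [← hj.2]
      calc r * (a * m) * r⁻¹ = (r * a * r⁻¹) * (r * m * r⁻¹) := by group
        _ = _ := by rw [hra]
    have h4 : (a * m) * (a * m) = a * (m * (r * m * r⁻¹)⁻¹) * a⁻¹ := by
      calc (a * m) * (a * m) = (a * m) * ((a * m)⁻¹)⁻¹ := by rw [inv_inv]
        _ = (a * m) * (a * (r * m * r⁻¹))⁻¹ := by rw [h3]
        _ = _ := by group
    rw [h4]
    exact CfsgLib.Coprime.mem_normalizer_conj (CfsgLib.Coprime.le_normalizer_commutator_left N A haN)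
      (M.mul_mem hm (M.inv_mem hrm))
  obtain ⟨k, hk⟩ := T.odd_N.of_dvd_nat (Subgroup.orderOf_dvd_natCard _ hjN)
  have h5 : a * m = ((a * m) * (a * m)) ^ (k + 1) := by
    rw [← pow_two, ← pow_mul, show 2 * (k + 1) = orderOf (a * m) + 1 by omega, pow_succ, pow_orderOf_eq_one,
      one_mul]
  rw [h5]
  exact M.pow_mem h2 _

/-- The subgroup generated by the inverted elements is not a group of prime power order. -/
theorem not_isPGroup_closure (S : Step G Ω)
    (hodd : ∀ X : Type u, ∀ _ : Group X, ∀ _ : Finite X, Odd (Nat.card X) → Group.IsSolvable X)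
    (hnc : ¬ ∀ s ∈ invAt G c, ∀ t ∈ invAt G c, Commute s t) (hy : y ≠ c) (hr : r ∈ swaps G c y) {p : ℕ}
    (hp : p.Prime) : ¬ IsPGroup p (Subgroup.closure (BenderQ.invSet G Ω c y r)) := by
  classical
  intro hN
  haveI := Fact.mk hp
  set N := Subgroup.closure (BenderQ.invSet G Ω c y r)
  have hND : N ≤ BenderTrans.two G c y := (Subgroup.closure_le _).2 fun x hx => hx.1
  have hNc : N ≤ stabilizer G c := fun g hg => (mem_two_iff.1 (hND hg)).1
  obtain ⟨t, ht⟩ := S.base.exists_invAt c
  set Ns := N.subgroupOf (stabilizer G c)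
  have horb : orbit Ns (⟨t, ht⟩ : invAt G c) = Set.univ := by
    refine Set.eq_univ_of_forall fun x => ?_
    obtain ⟨d, hd, hdx⟩ := exists_closure_conj_invAt S hodd hy hr ht x.2
    exact ⟨⟨⟨d, hNc hd⟩, hd⟩, Subtype.ext hdx⟩
  have hdvd : (invAt G c).ncard ∣ Nat.card N := by
    have h2 := Nat.card_congr (MulAction.orbitEquivQuotientStabilizer Ns (⟨t, ht⟩ : invAt G c))
    rw [horb, Nat.card_univ, Nat.card_coe_set_eq] at h2
    rw [h2, ← Nat.card_congr (Subgroup.subgroupOfEquivOfLe hNc).toEquiv]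
    exact Subgroup.card_quotient_dvd_card _
  obtain ⟨n, hn⟩ := IsPGroup.iff_card.1 hN
  obtain ⟨k, -, hk⟩ := (Nat.dvd_prime_pow hp).1 (hn ▸ hdvd)
  set t' : stabilizer G c := ⟨t, ht.2⟩
  have hclass : (ConjClasses.mk t').carrier.ncard = p ^ k := by
    rw [← hk, ← Nat.card_coe_set_eq, ← Nat.card_coe_set_eq]
    refine Nat.card_congr ⟨fun g => ⟨(g.1 : G), ?_⟩, fun g => ⟨⟨g.1, g.2.2⟩, ?_⟩, fun g => rfl, fun g => rfl⟩
    · obtain ⟨w, hw⟩ := isConj_iff.1 (ConjClasses.mk_eq_mk_iff_isConj.1
        (ConjClasses.mem_carrier_iff_mk_eq.1 g.2).symm)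
      rw [← hw]
      exact conj_invAt_mem ht w.2
    · obtain ⟨d, hd, hdg⟩ := S.base.exists_conj_invAt hy.symm ht g.2
      exact ConjClasses.mem_carrier_iff_mk_eq.2 (ConjClasses.mk_eq_mk_iff_isConj.2
        (isConj_iff.2 ⟨⟨d, (mem_two_iff.1 hd).1⟩, Subtype.ext hdg⟩).symm)
  have hsolv := Cfsg.Agent.S4037.result t' hp k hclass
  set R := Subgroup.normalClosure ({t'} : Set (stabilizer G c))
  have hne : R ≠ ⊥ := fun h => by
    have h1 : t' ∈ R := Subgroup.subset_normalClosure rfl
    rw [h, Subgroup.mem_bot] at h1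
    have := ht.1
    rw [show t = 1 from congrArg Subtype.val h1, orderOf_one] at this
    exact absurd this (by decide)
  haveI : Nontrivial R := (Subgroup.nontrivial_iff_ne_bot R).2 hne
  haveI := hsolv
  obtain ⟨q, hq, -, hq0⟩ := CfsgLib.Fitting.exists_pCore_ne_bot (G := R)
  haveI := Fact.mk hq
  haveI := CfsgLib.Fitting.pCore_characteristic (G := R) q
  haveI hn1 : ((Cfsg.pCore q R).map R.subtype).Normal := ConjAct.normal_of_characteristic_of_normal
  set K := ((Cfsg.pCore q R).map R.subtype).map (stabilizer G c).subtype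
  have hKne : K ≠ ⊥ := fun h => hq0 (by
    rwa [Subgroup.map_eq_bot_iff_of_injective _ (stabilizer G c).subtype_injective,
      Subgroup.map_eq_bot_iff_of_injective _ R.subtype_injective] at h)
  have hKn : stabilizer G c ≤ Subgroup.normalizer (K : Set G) := fun g hg =>
    CfsgLib.Coprime.mem_normalizer_of_forall_conj (by
      rintro _ ⟨v, hv, rfl⟩
      exact ⟨⟨g, hg⟩ * v * ⟨g, hg⟩⁻¹, hn1.conj_mem v hv _, rfl⟩)
  exact hnc (commute_of_nilpotent_normal S hKne (Subgroup.map_subtype_le _) hKn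
    (((CfsgLib.Fitting.pCore_isPGroup q).map _).map _).isNilpotent)

/-- A reversal of the orbitals of the subgroup generated by the inverted elements on the swappers. -/
theorem exists_reverse (S : Step G Ω) (hy : y ≠ c) (hr : r ∈ swaps G c y) {a a' : G}
    (ha : a ∈ swaps G c y) (ha' : a' ∈ swaps G c y) :
    ∃ n ∈ Subgroup.closure (BenderQ.invSet G Ω c y r),
      n * a * n⁻¹ = r * a' * r⁻¹ ∧ n * a' * n⁻¹ = r * a * r⁻¹ := by
  obtain ⟨d, hd, hdz, hda⟩ := S.base.exists_conj_swaps hy.symm ha ha'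
  obtain ⟨i, rfl⟩ := Subgroup.mem_zpowers_iff.1 hdz
  have hinv : a * (a * a') ^ i * a⁻¹ = ((a * a') ^ i)⁻¹ := by
    rw [← conj_zpow, ← inv_zpow]
    congr 1
    rw [mul_inv_rev, inv_eq_self_of_involution ha.1, inv_eq_self_of_involution ha'.1, ← mul_assoc a a a',
      mul_self_eq_one ha.1, one_mul]
  set s := (a * a') ^ i * a with hs
  have hs2 : s * s = 1 := by
    calc s * s = (a * a') ^ i * (a * (a * a') ^ i * a⁻¹) * (a * a) := by rw [hs]; group
      _ = 1 := by rw [hinv, mul_self_eq_one ha.1]; group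
  have hsc : s • c = y := by rw [hs, mul_smul, ha.2, (mem_two_iff.1 hd).2]
  have hsS : s ∈ swaps G c y := ⟨orderOf_eq_prime (by rw [pow_two, hs2]) (fun h => hy (by
    rw [← hsc, h, one_smul])), hsc⟩
  have hsa : s * a * s⁻¹ = a' := by
    rw [← hda, hs]; group
  have hsa' : s * a' * s⁻¹ = a := by
    rw [← hsa]
    calc s * (s * a * s⁻¹) * s⁻¹ = (s * s) * a * (s * s)⁻¹ := by group
      _ = a := by rw [hs2]; group
  refine ⟨r * s, Subgroup.subset_closure ⟨CfsgLib.BenderQ.swap_mul_swap_mem hr hsS, ?_⟩, ?_, ?_⟩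
  · rw [mul_inv_rev, inv_eq_self_of_involution hr.1, inv_eq_self_of_involution hsS.1, ← mul_assoc,
      mul_self_eq_one hr.1, one_mul]
  · rw [← hsa]; group
  · rw [← hsa']; group

/-- **The component case is impossible.** -/
theorem commAt_of_step (S : Step G Ω)
    (hodd : ∀ X : Type u, ∀ _ : Group X, ∀ _ : Finite X, Odd (Nat.card X) → Group.IsSolvable X) :
    CommAt G Ω := by
  classical
  intro c
  by_contra hnc
  obtain ⟨y, hy⟩ := S.base.nontriv c
  set T₀ := Subgroup.closure (twoElems G c) with hT₀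
  have hT₀c : T₀ ≤ stabilizer G c := twoElems_closure_le c
  have hT₀n : stabilizer G c ≤ Subgroup.normalizer (T₀ : Set G) := le_normalizer_twoElems c
  have hT₀X : invAt G c ⊆ T₀ := fun t ht => Subgroup.subset_closure ⟨ht.2, 1, by rw [ht.1, pow_one]⟩
  have hT₀ne : T₀ ≠ ⊥ := fun h => by
    obtain ⟨t, ht⟩ := S.base.exists_invAt c
    have h1 : t ∈ T₀ := hT₀X ht
    rw [h, Subgroup.mem_bot] at h1
    have := ht.1
    rw [h1, orderOf_one] at this
    exact absurd this (by decide)
  have htr0 : ∀ w, w ≠ c → ∃ g ∈ stabilizer G c, g • y = w := fun w hw => by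
    obtain ⟨g, hg, hgw⟩ := S.concl.trans2 c y w hy hw
    exact ⟨g, hg, hgw⟩
  -- a first bad element gives the factorisation over `T₀`
  obtain ⟨b₀, z₀, r₀, hb₀, -, hz₀, hr₀, hzr₀⟩ := exists_bad_in S hodd hnc hy le_rfl hT₀c htr0
    fun s hs t ht => by
      obtain ⟨d, hd, h⟩ := S.base.exists_conj_invAt hy.symm hs ht
      exact ⟨d, ⟨(mem_two_iff.1 hd).1, hd⟩, h⟩
  have hfac₀ := ((component_facts S hodd hnc hy hr₀ (twist_of_isBad S hy hr₀ hb₀ hz₀ hzr₀)).2 T₀ hT₀ne hT₀c
    hT₀n).2
  set N₀ := Subgroup.closure (BenderQ.invSet G Ω c y r₀) with hN₀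
  have hN₀c : N₀ ≤ stabilizer G c := (Subgroup.closure_le _).2 fun x hx => (mem_two_iff.1 hx.1).1
  -- a bad element in `T₀`
  obtain ⟨b, z, r, hb, hzT', hz, hr, hzr⟩ := exists_bad_in S hodd hnc hy (T' := N₀ ⊔ T₀)
    (sup_le hN₀c hT₀c) le_sup_right
    (fun w hw => by
      obtain ⟨g, hg, hgw⟩ := htr0 w hw
      obtain ⟨k, hk, d, hd, rfl⟩ := hfac₀ g hg
      rw [mul_smul, (mem_two_iff.1 hd).2] at hgw
      exact ⟨k, le_sup_right (a := N₀) hk, hgw⟩)
    (fun s hs t ht => by
      obtain ⟨n, hn, h⟩ := exists_closure_conj_invAt S hodd hy hr₀ hs ht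
      exact ⟨n, ⟨le_sup_left (b := T₀) hn, (Subgroup.closure_le _).2 (fun x hx => hx.1) hn⟩, h⟩)
  have T := twist_of_isBad S hy hr hb hz hzr
  have hzT : z ∈ T₀ := by
    obtain ⟨n, hn, t, ht, hzn⟩ := CfsgLib.Coprime.exists_mul_of_mem_sup (hN₀c.trans hT₀n) hzT'
    set T₀' := T₀.subgroupOf (stabilizer G c)
    haveI : T₀'.Normal := Subgroup.normal_subgroupOf_of_le_normalizer hT₀n
    have hzc : z ∈ stabilizer G c := (mem_two_iff.1 hz).1
    have h : QuotientGroup.mk' T₀' ⟨z, hzc⟩ = QuotientGroup.mk' T₀' ⟨n, hN₀c hn⟩ := by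
      refine (QuotientGroup.eq.2 ?_).symm
      show n⁻¹ * z ∈ T₀
      rw [hzn, inv_mul_cancel_left]
      exact ht
    haveI := Fact.mk T.prime_b
    have h1 : orderOf (QuotientGroup.mk' T₀' ⟨z, hzc⟩) ∣ b := by
      refine (orderOf_map_dvd _ _).trans ?_
      rw [Subgroup.orderOf_mk, T.ord_z]
    have h2 : orderOf (QuotientGroup.mk' T₀' ⟨z, hzc⟩) ∣ Nat.card N₀ := by
      rw [h]
      refine (orderOf_map_dvd _ _).trans ?_
      rw [Subgroup.orderOf_mk]
      exact Subgroup.orderOf_dvd_natCard _ hn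
    exact Subgroup.mem_subgroupOf.1 ((QuotientGroup.eq_one_iff (N := T₀') ⟨z, hzc⟩).1 (orderOf_eq_one_iff.1 (Nat.eq_one_of_dvd_coprimes
      (T.prime_b.coprime_iff_not_dvd.2 (S.not_dvd_card_closure_invSet hy hr₀ (S.bad_not_dvd hb c))) h1 h2)))
  obtain ⟨hnil, hfacts⟩ := component_facts S hodd hnc hy hr T
  set N := Subgroup.closure (BenderQ.invSet G Ω c y r) with hN
  have hgen := closure_invSet_le c y r
  have hND : N ≤ BenderTrans.two G c y := (Subgroup.closure_le _).2 fun x hx => hx.1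
  have hNc : N ≤ stabilizer G c := fun g hg => (mem_two_iff.1 (hND hg)).1
  have hNT : N ≤ T₀ := le_of_twist T (hodd _ inferInstance inferInstance T.odd_N) hgen (hNc.trans hT₀n) hzT
  -- every nontrivial normal subgroup is transitive on the involutions at `c`
  have htrans : ∀ K : Subgroup (stabilizer G c), K.Normal → K ≠ ⊥ →
      ∀ u v : invAt G c, ∃ g ∈ K, g • u = v := by
    intro K hKn hK u v
    have hKn' : stabilizer G c ≤ Subgroup.normalizer (K.map (stabilizer G c).subtype : Set G) := fun g hg =>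
      CfsgLib.Coprime.mem_normalizer_of_forall_conj (by
        rintro _ ⟨w, hw, rfl⟩
        exact ⟨⟨g, hg⟩ * w * ⟨g, hg⟩⁻¹, hKn.conj_mem w hw _, rfl⟩)
    have hle := (hfacts (K.map (stabilizer G c).subtype)
      (fun h => hK ((Subgroup.map_eq_bot_iff_of_injective _ (stabilizer G c).subtype_injective).1 h))
      (Subgroup.map_subtype_le _) hKn').1
    obtain ⟨n, hn, hnuv⟩ := exists_closure_conj_invAt S hodd hy hr u.2 v.2
    obtain ⟨k, hk, hkn⟩ := hle (hNT hn)
    exact ⟨k, hk, Subtype.ext (by rw [smul_invAt_coe, show (k : G) = n from hkn]; exact hnuv)⟩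
  -- the central prime
  obtain ⟨l, hl, hlN, hfree⟩ := exists_free_prime T hnil hgen
    (fun s hs hrs hsJ => eq_one_of_commute_invSet S hodd hnc hy hr (hND hs) hrs fun j hj =>
      hsJ j ⟨Subgroup.subset_closure hj, hj.2⟩)
    (fun p hp => not_isPGroup_closure S hodd hnc hy hr hp)
  haveI := Fact.mk hl
  haveI := hnil
  have hcentral := fun {w : G} (hw : w ∈ N) (hwl : ∃ k, orderOf w = l ^ k) =>
    inverted_central_of_free T hnil hl hfree hw hwl
  obtain ⟨P⟩ : Nonempty (Sylow l N) := inferInstance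
  haveI hPn : (P : Subgroup N).Normal := inferInstance
  have hPl : ∀ p ∈ (P : Subgroup N), ∃ k, orderOf (p : G) = l ^ k := fun p hp => by
    obtain ⟨k, hk⟩ := IsPGroup.iff_orderOf.1 P.isPGroup' ⟨p, hp⟩
    rw [Subgroup.orderOf_mk, ← Subgroup.orderOf_coe] at hk
    exact ⟨k, hk⟩
  obtain ⟨C, hC⟩ := Subgroup.exists_right_complement'_of_coprime (N := (P : Subgroup N)) P.card_coprime_index
  have hCcard : ¬ l ∣ Nat.card C := by
    rw [← hC.symm.index_eq_card]
    exact P.not_dvd_index
  have hdec : ∀ n : N, ∃ p ∈ (P : Subgroup N), ∃ d ∈ C, p * d = n := fun n => by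
    obtain ⟨⟨⟨p, hp⟩, ⟨d, hd⟩⟩, h⟩ := hC.2 n
    exact ⟨p, hp, d, hd, h⟩
  have hCmem : ∀ n : N, (orderOf n).Coprime l → n ∈ C := fun n hn => by
    obtain ⟨p, hp, d, hd, rfl⟩ := hdec n
    have hpd : Commute p d := Subtype.ext ((hcentral p.2 (hPl p hp)).2 d d.2).eq
    have h1 : p ^ orderOf (p * d) * d ^ orderOf (p * d) = 1 := by
      rw [← hpd.mul_pow, pow_orderOf_eq_one]
    have h2 : p ^ orderOf (p * d) ∈ (P : Subgroup N) ⊓ C := by
      refine ⟨Subgroup.pow_mem _ hp _, ?_⟩
      rw [eq_inv_of_mul_eq_one_left h1]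
      exact C.inv_mem (C.pow_mem hd _)
    rw [hC.disjoint.eq_bot, Subgroup.mem_bot] at h2
    obtain ⟨k, hk⟩ := hPl p hp
    rw [Subgroup.orderOf_coe] at hk
    have h3 : orderOf p = 1 := Nat.eq_one_of_dvd_coprimes (hn.pow_right k) (orderOf_dvd_of_pow_eq_one h2)
      hk.dvd
    rw [orderOf_eq_one_iff.1 h3, one_mul]
    exact hd
  set Lg := (P : Subgroup N).map N.subtype
  set Cg := C.map N.subtype
  have hLN : Lg ≤ N := Subgroup.map_subtype_le _
  have hCN : Cg ≤ N := Subgroup.map_subtype_le _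
  have hLc : Lg ≤ stabilizer G c := hLN.trans hNc
  have hCc : Cg ≤ stabilizer G c := hCN.trans hNc
  set L := Lg.subgroupOf (stabilizer G c)
  set N' := Cg.subgroupOf (stabilizer G c)
  have hsup : L ⊔ N' = N.subgroupOf (stabilizer G c) := by
    refine le_antisymm (sup_le (fun g hg => hLN hg) fun g hg => hCN hg) fun g hg => ?_
    obtain ⟨p, hp, d, hd, hpd⟩ := hdec ⟨(g : G), hg⟩
    have e : g = (⟨(p : G), hNc p.2⟩ : stabilizer G c) * ⟨(d : G), hNc d.2⟩ :=
      Subtype.ext (congrArg Subtype.val hpd).symm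
    rw [e]
    exact (L ⊔ N').mul_mem (Subgroup.mem_sup_left (T := N') ⟨p, hp, rfl⟩)
      (Subgroup.mem_sup_right (S := L) ⟨d, hd, rfl⟩)
  have hLinv : ∀ {w : stabilizer G c}, w ∈ L → r * (w : G) * r⁻¹ = (w : G)⁻¹ ∧ ∀ n ∈ N, Commute (w : G) n := by
    rintro w ⟨p, hp, hpw⟩
    rw [← show (p : G) = w from hpw]
    exact hcentral p.2 (hPl p hp)
  have hLJ : ∀ {w : stabilizer G c}, w ∈ L → (w : G) ∈ BenderQ.invSet G Ω c y r := fun hw =>
    ⟨hND (hLN hw), (hLinv hw).1⟩
  letI := Fintype.ofFinite (stabilizer G c)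
  letI := Fintype.ofFinite (invAt G c)
  haveI : Nonempty (invAt G c) := by
    obtain ⟨t, ht⟩ := S.base.exists_invAt c
    exact ⟨⟨t, ht⟩⟩
  have P' : Packet (stabilizer G c) (invAt G c) l L N' := by
    refine
      { prime := hl
        odd_l := fun h2 => ?_
        pgroup := fun w => ?_
        ne_bot := fun h => ?_
        coprime := ?_
        comm := fun w hw n hn => Subtype.ext ((hLinv hw).2 _ (hCN hn)).eq
        comm_L := fun w hw w' hw' => Subtype.ext ((hLinv hw).2 _ (hLN hw')).eq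
        trans := fun u v => ?_
        mult := ?_
        cent := fun w hw hw1 => ?_
        free := fun w hw hw1 n hn u hfix => ?_
        normal_trans := fun K hK hN'K u v => htrans K hK ?_ u v }
    · exact Nat.not_even_iff_odd.2 T.odd_N (even_iff_two_dvd.2 (h2 ▸ hlN))
    · obtain ⟨k, hk⟩ := (P.isPGroup'.map N.subtype) ⟨((w : stabilizer G c) : G), w.2⟩
      exact ⟨k, Subtype.ext (Subtype.ext (congrArg (fun v : Lg => (v : G)) hk :))⟩
    · have h1 : Lg = ⊥ := by
        rw [← Subgroup.map_subgroupOf_eq_of_le hLc, show Lg.subgroupOf (stabilizer G c) = ⊥ from h,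
          Subgroup.map_bot]
      exact P.ne_bot_of_dvd_card hlN
        ((Subgroup.map_eq_bot_iff_of_injective _ N.subtype_injective).1 h1)
    · rw [CfsgLib.Coprime.card_subgroupOf hCc, Subgroup.card_subtype]
      exact hCcard
    · rw [hsup]
      obtain ⟨n, hn, h⟩ := exists_closure_conj_invAt S hodd hy hr u.2 v.2
      exact ⟨⟨n, hNc hn⟩, hn, Subtype.ext h⟩
    · intro _ θ
      have hmem : ∀ g : ↥(L ⊔ N'), ((g : stabilizer G c) : G) ∈ N := fun g => by
        have h := g.2
        simp only [hsup] at h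
        exact h
      letI : MulAction ↥(L ⊔ N') (swaps G c y) :=
        { smul := fun g u => ⟨((g : stabilizer G c) : G) * u * ((g : stabilizer G c) : G)⁻¹,
            CfsgLib.BenderQ.conj_swap_mem u.2 (hND (hmem g))⟩
          one_smul := fun u => Subtype.ext (show (1 : G) * u * (1 : G)⁻¹ = u by simp)
          mul_smul := fun g g' u => Subtype.ext (by
            show ((g : stabilizer G c) : G) * ((g' : stabilizer G c) : G) * u *
                (((g : stabilizer G c) : G) * ((g' : stabilizer G c) : G))⁻¹ =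
              ((g : stabilizer G c) : G) * (((g' : stabilizer G c) : G) * u *
                ((g' : stabilizer G c) : G)⁻¹) * ((g : stabilizer G c) : G)⁻¹
            group) }
      letI := Fintype.ofFinite (swaps G c y)
      have hlift : ∀ (n : G) (hn : n ∈ N), (⟨n, hNc hn⟩ : stabilizer G c) ∈ L ⊔ N' := fun n hn => by
        rw [hsup]; exact hn
      haveI : IsPretransitive ↥(L ⊔ N') (swaps G c y) := ⟨fun a a' => by
        obtain ⟨d, -, hdz, hda⟩ := S.base.exists_conj_swaps hy.symm a.2 a'.2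
        have hd : d ∈ N := by
          refine Subgroup.zpowers_le.2 ?_ hdz
          have hj : ∀ r' ∈ swaps G c y, r * r' ∈ N := fun r' hr' => Subgroup.subset_closure
            ⟨CfsgLib.BenderQ.swap_mul_swap_mem hr hr', by
              rw [mul_inv_rev, inv_eq_self_of_involution hr.1, inv_eq_self_of_involution hr'.1, ← mul_assoc,
                mul_self_eq_one hr.1, one_mul]⟩
          have := N.mul_mem (N.inv_mem (hj _ a.2)) (hj _ a'.2)
          rwa [mul_inv_rev, inv_eq_self_of_involution a.2.1, mul_assoc, inv_mul_cancel_left] at this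
        exact ⟨⟨⟨d, hNc hd⟩, hlift d hd⟩, Subtype.ext hda⟩⟩
      have hιmem : ∀ a : swaps G c y, r * (a : G) * r⁻¹ ∈ swaps G c y := fun a => by
        refine ⟨by rw [← a.2.1]; exact orderOf_injective (MulAut.conj r).toMonoidHom (MulAut.conj r).injective a,
          ?_⟩
        rw [inv_eq_self_of_involution hr.1, mul_smul, mul_smul, hr.2, swaps_symm a.2, hr.2]
      refine mult_le_one_of_ncard_eq (fun a : swaps G c y => (⟨r * a * r⁻¹, hιmem a⟩ : swaps G c y))
        (Finite.injective_iff_bijective.1 fun a a' h => Subtype.ext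
          (mul_left_cancel (mul_right_cancel (congrArg Subtype.val h)))) (fun a a' => ?_) (fun g => ?_) θ
      · obtain ⟨n, hn, h1, h2⟩ := exists_reverse S hy hr a.2 a'.2
        exact ⟨⟨⟨n, hNc hn⟩, hlift n hn⟩, Subtype.ext h1, Subtype.ext h2⟩
      · have e : ∀ A : Set G, ∀ f : A → A,
            (∀ a, (f a : G) = ((g : stabilizer G c) : G) * a * ((g : stabilizer G c) : G)⁻¹) →
            Nat.card {a : A // f a = a} = {a | a ∈ A ∧ Commute ((g : stabilizer G c) : G) a}.ncard :=
          fun A f hf => by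
            rw [← Nat.card_coe_set_eq]
            refine Nat.card_congr ⟨fun a => ⟨a.1, a.1.2, mul_inv_eq_iff_eq_mul.1 ((hf a.1).symm.trans
              (congrArg Subtype.val a.2))⟩, fun a => ⟨⟨a.1, a.2.1⟩, Subtype.ext ((hf _).trans
              (mul_inv_eq_iff_eq_mul.2 a.2.2))⟩, fun a => rfl, fun a => rfl⟩
        rw [← Nat.card_coe_set_eq, ← Nat.card_coe_set_eq]
        show Nat.card {a : invAt G c // g • a = a} = Nat.card {a : swaps G c y // g • a = a}
        rw [e _ _ fun a => rfl, e _ _ fun a => rfl]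
        exact S.ncard_invAt_commute_eq hodd hy.symm (hND (hmem g))
    · intro g hg
      have hwg : Commute (g : G) (w : G) := congrArg Subtype.val (Subgroup.mem_centralizer_singleton_iff.1 hg)
      have hgD : (g : G) ∈ BenderTrans.two G c y := S.centralizer_le_two_of_inverted hy hr (hLJ hw)
        (fun h => hw1 (Subtype.ext h)) (Subgroup.mem_centralizer_singleton_iff.2 hwg.eq)
      refine CfsgLib.Coprime.mem_normalizer_of_forall_conj fun n hn => ?_
      obtain ⟨d, hd, hdn⟩ := hn
      have hmem := CfsgLib.Coprime.mem_normalizer_conj (two_le_normalizer_closure hr hgD) d.2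
      refine ⟨⟨_, hmem⟩, hCmem _ ?_, ?_⟩
      · rw [Subgroup.orderOf_mk]
        rw [show orderOf ((g : G) * d * (g : G)⁻¹) = orderOf (d : G) from
          orderOf_injective (MulAut.conj (g : G)).toMonoidHom (MulAut.conj (g : G)).injective _,
          Subgroup.orderOf_coe]
        refine ((Fact.out : l.Prime).coprime_iff_not_dvd.2 fun h => hCcard (h.trans ?_)).symm
        exact Subgroup.orderOf_dvd_natCard _ hd
      · show (g : G) * d * (g : G)⁻¹ = (g : G) * (n : G) * (g : G)⁻¹
        rw [show (d : G) = n from hdn]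
    · have hwn : Commute (w : G) (n : G) := (hLinv hw).2 _ (hCN hn)
      have hu : Commute ((w : G) * (n : G)) (u : G) := mul_inv_eq_iff_eq_mul.1 (congrArg Subtype.val hfix)
      have hD : (w : G) * (n : G) ∈ BenderTrans.two G c y := hND (N.mul_mem (hLN hw) (hCN hn))
      obtain ⟨s, hs, hws⟩ := S.exists_swap_commute hy hD (S.two_lt_fix_of_commute_invAt hy hD u.2 hu)
      have hpow : Commute ((w : G) ^ orderOf (n : G)) s := by
        have h := hws.pow_left (orderOf (n : G))
        rwa [hwn.mul_pow, pow_orderOf_eq_one, mul_one] at h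
      obtain ⟨k, hk⟩ : ∃ k, orderOf (w : G) = l ^ k := by
        obtain ⟨p, hp, hpw⟩ := hw
        rw [← show (p : G) = w from hpw]
        exact hPl p hp
      have hcop : (orderOf (w : G)).Coprime (orderOf (n : G)) := by
        rw [hk]
        obtain ⟨d, hd, hdn⟩ := hn
        rw [← show (d : G) = n from hdn, Subgroup.orderOf_coe]
        exact (((Fact.out : l.Prime).coprime_iff_not_dvd.2 fun h => hCcard (h.trans
          (Subgroup.orderOf_dvd_natCard _ hd)))).pow_left k
      obtain ⟨e, he⟩ := exists_pow_eq_self_of_coprime hcop.symm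
      have hws' : Commute (w : G) s := he ▸ hpow.pow_left e
      exact hw1 (Subtype.ext (S.eq_one_of_inverted_of_commute hy hr hs (hLJ hw) hws'))
    · intro h
      have hN'bot : N' = ⊥ := le_bot_iff.1 (h ▸ hN'K)
      refine not_isPGroup_closure S hodd hnc hy hr hl ?_
      intro g
      obtain ⟨p, hp, d, hd, rfl⟩ := hdec g
      have hd1 : (d : G) = 1 := by
        have h1 : (⟨(d : G), hNc d.2⟩ : stabilizer G c) ∈ N' := ⟨d, hd, rfl⟩
        rw [hN'bot, Subgroup.mem_bot] at h1
        exact congrArg Subtype.val h1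
      obtain ⟨k, hk⟩ := P.isPGroup' ⟨p, hp⟩
      exact ⟨k, by rw [show d = 1 from Subtype.ext hd1, mul_one]; exact congrArg Subtype.val hk⟩
  exact false_of_blockSpread S hodd (blockSpread P') htrans

end CfsgLib.BenderQ.Residual
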