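import Cfsg.Agent.Lib.Coprime.Commutator

/-!
An abelian group `Q` with two commuting automorphisms, `z` of odd prime order and an involution `r`, both without
fixed points, acts trivially on every abelian group of coprime order in which the fixed points of `z` are fixed by
`r`: both `⟨z⟩` and `⟨zr⟩` complement `Q` in Frobenius groups, and the sums over the complements agree.
-/

set_option autoImplicit false

namespace CfsgLib.BenderQ.Residual

open Subgroup
open scoped IsMulCommutative

universe u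

variable {G : Type u} [Group G] [Finite G]

omit [Finite G] in
theorem commute_of_commute_pow {z x : G} {b i : ℕ} (hb : b.Prime) (hz : z ^ b = 1) (hi : ¬ b ∣ i)
    (h : Commute (z ^ i) x) : Commute z x := by
  obtain ⟨j, -, hj⟩ := Nat.exists_mul_mod_eq_one_of_coprime ((hb.coprime_iff_not_dvd.2 hi).symm) hb.one_lt
  have e : (z ^ i) ^ j = z := by
    rw [← pow_mul, ← Nat.mod_add_div (i * j) b, hj, pow_add, pow_mul, hz, one_pow, mul_one, pow_one]
  exact e ▸ h.pow_left j

/-- Two commuting fixed-point-free automorphisms, of orders an odd prime and two, force a trivial action. -/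
theorem le_centralizer_of_fix_le {V Q : Subgroup G} [IsMulCommutative V] {z r : G} {b : ℕ} (hb : b.Prime)
    (hb2 : Odd b) (hz : z ^ b = 1) (hr : r * r = 1) (hzr : Commute z r)
    (hQV : Q ≤ normalizer (V : Set G)) (hzV : z ∈ normalizer (V : Set G)) (hrV : r ∈ normalizer (V : Set G))
    (hzQ : z ∈ normalizer (Q : Set G)) (hrQ : r ∈ normalizer (Q : Set G))
    (hzfix : ∀ x ∈ Q, Commute z x → x = 1) (hrfix : ∀ x ∈ Q, Commute r x → x = 1)
    (hfix : ∀ v ∈ V, Commute z v → Commute r v) (hcop : (Nat.card Q).Coprime (Nat.card V)) :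
    Q ≤ centralizer (V : Set G) := by
  classical
  haveI := Fintype.ofFinite Q
  set U := ⁅V, Q⁆ with hU
  have hUV : U ≤ V := CfsgLib.Coprime.commutator_le_of_normalizes hQV
  have hU0 : U ⊓ centralizer (Q : Set G) = ⊥ :=
    CfsgLib.Coprime.commutator_inf_centralizer_eq_bot Q V hQV hcop
  haveI : IsMulCommutative U := ⟨⟨fun u v => Subtype.ext
    (congrArg (fun w : V => (w : G)) ((IsMulCommutative.is_comm (M := V)).comm ⟨u, hUV u.2⟩ ⟨v, hUV v.2⟩) :)⟩⟩
  have hnU : normalizer (V : Set G) ⊓ normalizer (Q : Set G) ≤ normalizer (U : Set G) := fun g hg =>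
    CfsgLib.Coprime.mem_normalizer_of_forall_conj fun x hx => by
      have h1 : U.map (MulAut.conj g).toMonoidHom ≤ U := by
        rw [hU, Subgroup.map_commutator]
        refine Subgroup.commutator_mono ?_ ?_ <;> rintro _ ⟨v, hv, rfl⟩
        · exact CfsgLib.Coprime.mem_normalizer_conj hg.1 hv
        · exact CfsgLib.Coprime.mem_normalizer_conj hg.2 hv
      exact h1 ⟨x, hx, rfl⟩
  set N := normalizer (U : Set G)
  have hQN : Q ≤ N := (le_inf hQV Subgroup.le_normalizer).trans hnU
  have hzN : z ∈ N := hnU ⟨hzV, hzQ⟩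
  have hrN : r ∈ N := hnU ⟨hrV, hrQ⟩
  -- the conjugation action
  let c : G → U → U := fun g u => if h : g ∈ N then
    ⟨g * (u : G) * g⁻¹, CfsgLib.Coprime.mem_normalizer_conj h u.2⟩ else u
  have hcv : ∀ {g : G}, g ∈ N → ∀ u : U, (c g u : G) = g * u * g⁻¹ := fun h u => by simp [c, h]
  have hc : ∀ g h, g ∈ N → h ∈ N → ∀ u, c (g * h) u = c g (c h u) := fun g h hg hh u => Subtype.ext (by
    rw [hcv (mul_mem hg hh), hcv hg, hcv hh]; group)
  have hmulc : ∀ (g : G) (u v : U), g ∈ N → c g (u * v) = c g u * c g v := fun g u v hg => Subtype.ext (by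
    rw [hcv hg, Subgroup.coe_mul, Subgroup.coe_mul, hcv hg, hcv hg]; group)
  have hprodc : ∀ (g : G), g ∈ N → ∀ {ι : Type} (s : Finset ι) (f : ι → U),
      c g (∏ i ∈ s, f i) = ∏ i ∈ s, c g (f i) := fun g hg ι s f => by
    let φ : U →* U := MonoidHom.mk' (c g) fun u v => hmulc g u v hg
    exact map_prod φ f s
  have hQprod : ∀ u : U, (∏ x : Q, c x u : U) = 1 := fun u => by
    have hfixQ : ∀ y : Q, c y (∏ x : Q, c x u) = ∏ x : Q, c x u := fun y => by
      rw [show c y (∏ x : Q, c x u) = ∏ x : Q, c y (c x u) from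
        map_prod (MonoidHom.mk' (c y) fun u v => hmulc y u v (hQN y.2)) _ _]
      exact Fintype.prod_equiv (Equiv.mulLeft y) _ _ fun x => (hc _ _ (hQN y.2) (hQN x.2) u).symm
    have h1 : ((∏ x : Q, c x u : U) : G) ∈ U ⊓ centralizer (Q : Set G) := by
      refine ⟨SetLike.coe_mem _, Subgroup.mem_centralizer_iff.2 fun y hy => ?_⟩
      have h := congrArg Subtype.val (hfixQ ⟨y, hy⟩)
      rw [hcv (hQN hy)] at h
      exact mul_inv_eq_iff_eq_mul.1 h
    rw [hU0, Subgroup.mem_bot] at h1
    exact Subtype.ext h1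
  have hkey : ∀ (a : G), a ∈ N → a ∈ normalizer (Q : Set G) → (∀ x ∈ Q, Commute a x → x = 1) →
      ∀ u : U, (∏ x : Q, c x (c a (c (x : G)⁻¹ u)) : U) = 1 := fun a haN haQ hfa u => by
    have e : ∀ x : Q, c x (c a (c (x : G)⁻¹ u)) = c ((x : G) * a * (x : G)⁻¹) u := fun x => by
      rw [hc _ _ (mul_mem (hQN x.2) haN) (inv_mem (hQN x.2)), hc _ _ (hQN x.2) haN]
    simp only [e]
    have hb' : (∏ x : Q, c ((x : G) * a * (x : G)⁻¹) u : U) = ∏ x : Q, c x (c a u) := by
      refine Fintype.prod_bijective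
        (fun x : Q => ⟨(x : G) * (a * (x : G)⁻¹ * a⁻¹),
          Q.mul_mem x.2 (CfsgLib.Coprime.mem_normalizer_conj haQ (Q.inv_mem x.2))⟩) ?_ _ _ fun x => ?_
      · refine Finite.injective_iff_bijective.1 fun x y h => ?_
        have h' := congrArg Subtype.val h
        dsimp only at h'
        have e : ((y : G)⁻¹ * x) * a = a * ((y : G)⁻¹ * x) := by
          calc ((y : G)⁻¹ * x) * a
              = (y : G)⁻¹ * ((x : G) * (a * (x : G)⁻¹ * a⁻¹)) * a * x := by group
            _ = (y : G)⁻¹ * ((y : G) * (a * (y : G)⁻¹ * a⁻¹)) * a * x := by rw [h']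
            _ = _ := by group
        exact Subtype.ext (inv_mul_eq_one.1 (hfa _ (Q.mul_mem (Q.inv_mem y.2) x.2) e.symm)).symm
      · have hy : (x : G) * (a * (x : G)⁻¹ * a⁻¹) ∈ Q :=
          Q.mul_mem x.2 (CfsgLib.Coprime.mem_normalizer_conj haQ (Q.inv_mem x.2))
        show c ((x : G) * a * (x : G)⁻¹) u = c ((x : G) * (a * (x : G)⁻¹ * a⁻¹)) (c a u)
        rw [← hc _ _ (hQN hy) haN]
        congr 1
        group
    rw [hb', hQprod]
  -- the two averages
  have hzN' : ∀ i : ℕ, z ^ i ∈ N := fun i => pow_mem hzN i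
  let E : U → U := fun w => ∏ i ∈ Finset.range b, c (z ^ i) w
  have hEr : ∀ w : U, E w = ∏ i ∈ Finset.range b, c (z ^ i * r) w := fun w => by
    have hz1 : c z (E w) = E w := by
      simp only [E]
      rw [hprodc z hzN]
      have e : ∀ i, c z (c (z ^ i) w) = c (z ^ (i + 1)) w := fun i => by
        rw [← hc _ _ hzN (hzN' i), ← pow_succ']
      simp only [e]
      have h1 := Finset.prod_range_succ' (fun i => c (z ^ i) w) b
      rw [Finset.prod_range_succ, hz, pow_zero] at h1
      exact (mul_right_cancel h1).symm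
    have hcomm : Commute z (E w : G) := by
      have h := congrArg Subtype.val hz1
      rw [hcv hzN] at h
      exact mul_inv_eq_iff_eq_mul.1 h
    have hr1 : c r (E w) = E w := Subtype.ext (by
      rw [hcv hrN, (hfix _ (hUV (E w).2) hcomm).eq, mul_inv_cancel_right])
    conv_lhs => rw [← hr1]
    simp only [E]
    rw [hprodc r hrN]
    refine Finset.prod_congr rfl fun i _ => ?_
    rw [← hc _ _ hrN (hzN' i), ((hzr.pow_left i).symm).eq]
  have hall : ∀ u : U, u ^ Nat.card Q = 1 := fun u => by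
    have h1 : (∏ x : Q, c x (E (c (x : G)⁻¹ u)) : U) = u ^ Nat.card Q := by
      have e : ∀ x : Q, c x (E (c (x : G)⁻¹ u)) =
          ∏ i ∈ Finset.range b, c x (c (z ^ i) (c (x : G)⁻¹ u)) := fun x => hprodc _ (hQN x.2) _ _
      simp only [e]
      rw [Finset.prod_comm, Finset.prod_eq_single_of_mem 0 (Finset.mem_range.2 hb.pos)]
      · have e0 : ∀ x : Q, c x (c (z ^ 0) (c (x : G)⁻¹ u)) = u := fun x => Subtype.ext (by
          rw [hcv (hQN x.2), hcv (hzN' 0), hcv (inv_mem (hQN x.2)), pow_zero]; group)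
        simp only [e0, Finset.prod_const, Finset.card_univ, Nat.card_eq_fintype_card]
      · intro i hi hi0
        refine hkey _ (hzN' i) (pow_mem hzQ i) (fun x hx hcx => hzfix x hx ?_) u
        exact commute_of_commute_pow hb hz
          (fun hd => hi0 (Nat.eq_zero_of_dvd_of_lt hd (Finset.mem_range.1 hi))) hcx
    have h2 : (∏ x : Q, c x (E (c (x : G)⁻¹ u)) : U) = 1 := by
      have e : ∀ x : Q, c x (E (c (x : G)⁻¹ u)) =
          ∏ i ∈ Finset.range b, c x (c (z ^ i * r) (c (x : G)⁻¹ u)) := fun x => by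
        rw [hEr]; exact hprodc _ (hQN x.2) _ _
      simp only [e]
      rw [Finset.prod_comm]
      refine Finset.prod_eq_one fun i hi => ?_
      refine hkey _ (mul_mem (hzN' i) hrN) (mul_mem (pow_mem hzQ i) hrQ) (fun x hx hcx => hrfix x hx ?_) u
      have h := hcx.pow_left b
      obtain ⟨k, hk⟩ := hb2
      rw [(hzr.pow_left i).mul_pow, ← pow_mul, mul_comm, pow_mul, hz, one_pow, one_mul, hk, pow_succ,
        pow_mul, pow_two, hr, one_pow, one_mul] at h
      exact h
    rw [← h1, h2]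
  have hbot : U = ⊥ := (Subgroup.eq_bot_iff_forall _).2 fun v hv => by
    have h1 : orderOf (⟨v, hv⟩ : U) ∣ Nat.card Q := orderOf_dvd_of_pow_eq_one (hall _)
    have h2 : orderOf (⟨v, hv⟩ : U) ∣ Nat.card V := (_root_.orderOf_dvd_natCard _).trans (Subgroup.card_dvd_of_le hUV)
    exact congrArg Subtype.val (orderOf_eq_one_iff.1 (Nat.eq_one_of_dvd_coprimes hcop h1 h2))
  exact Subgroup.le_centralizer_iff.1 (Subgroup.commutator_eq_bot_iff_le_centralizer.1 hbot)

end CfsgLib.BenderQ.Residual
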