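import Cfsg.Agent.Lib.BenderQ.Residual.NilpKey
import Cfsg.Agent.Lib.Solvable.Fitting
import Cfsg.Agent.Lib.Solvable.NilpotentSubgroups

/-!
Component case, step (a), (b): a twisted group generated by inverted elements is nilpotent, and if it is not a group
of prime-power order one of its Sylow subgroups is inverted and central.
-/

set_option autoImplicit false

namespace CfsgLib.BenderQ.Residual

open Subgroup

universe u

variable {G : Type u} [Group G] [Finite G] {N : Subgroup G} {r z : G} {b : ℕ}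

omit [Finite G] in
/-- A subgroup of a quotient of `N` containing the images of the inverted elements is everything. -/
theorem eq_top_of_inverted_mem {V : Type*} [Group V] (π : N →* V) (hπ : Function.Surjective π)
    (hgen : N ≤ closure (invSet N r)) (H : Subgroup V)
    (h : ∀ x (hx : x ∈ invSet N r), π ⟨x, hx.1⟩ ∈ H) : H = ⊤ := by
  refine eq_top_iff.2 fun v _ => ?_
  obtain ⟨⟨g, hg⟩, rfl⟩ := hπ v
  have hle : closure (invSet N r) ≤ (H.comap π).map N.subtype :=
    (closure_le _).2 fun x hx => ⟨⟨x, hx.1⟩, h x hx, rfl⟩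
  obtain ⟨y, hy, hyg⟩ := hle (hgen hg)
  rw [show (⟨g, hg⟩ : N) = y from Subtype.ext hyg.symm]
  exact hy

/-- If `t` commutes with the `l`-parts and the `l'`-parts of `j` then it commutes with `j`. -/
theorem commute_of_parts {j t : G} {l : ℕ} (hl : l.Prime)
    (hA : ∀ x ∈ zpowers j, (∃ k, orderOf x = l ^ k) → Commute x t)
    (hB : ∀ x ∈ zpowers j, (orderOf x).Coprime l → Commute x t) : Commute j t := by
  have h : zpowers j ≤ centralizer ({t} : Set G) := by
    refine CfsgLib.Coprime.le_of_forall_sylow_le fun p hp S => ?_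
    rintro _ ⟨x, hx, rfl⟩
    haveI := Fact.mk hp
    obtain ⟨k, hk⟩ := IsPGroup.iff_orderOf.1 S.isPGroup' ⟨x, hx⟩
    rw [Subgroup.orderOf_mk, ← Subgroup.orderOf_coe] at hk
    refine mem_centralizer_singleton_iff.2 ?_
    by_cases hpl : p = l
    · exact hA _ x.2 ⟨k, hpl ▸ hk⟩
    · refine hB _ x.2 ?_
      show (orderOf (x : G)).Coprime l
      rw [hk]
      exact ((Nat.coprime_primes hp hl).2 hpl).pow_left k
  exact mem_centralizer_singleton_iff.1 (h (mem_zpowers j))

/-- In a nilpotent subgroup elements of coprime order commute. -/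
theorem commute_of_nilpotent (hnil : Group.IsNilpotent N) {x y : G} (hx : x ∈ N) (hy : y ∈ N)
    (h : (orderOf x).Coprime (orderOf y)) : Commute x y :=
  congrArg Subtype.val (CfsgLib.NilpotentSubgroups.commute_of_orderOf_coprime (hN := hnil)
    (x := (⟨x, hx⟩ : N)) (y := ⟨y, hy⟩) (by rwa [Subgroup.orderOf_mk, Subgroup.orderOf_mk])).eq

omit [Finite G] in
theorem zpowers_subset_invSet {j : G} (hj : j ∈ invSet N r) {x : G} (hx : x ∈ zpowers j) :
    x ∈ invSet N r := by
  obtain ⟨i, rfl⟩ := mem_zpowers_iff.1 hx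
  exact ⟨N.zpow_mem hj.1 i, by rw [← conj_zpow, hj.2, inv_zpow]⟩

/-- A `p`-subgroup of the Fitting subgroup lies in `O_p`. -/
theorem le_pCore_of_le_fitting {H : Type*} [Group H] [Finite H] {p : ℕ} [Fact p.Prime] {U : Subgroup H}
    (hU : IsPGroup p U) (hle : U ≤ Cfsg.fittingSubgroup H) : U ≤ Cfsg.pCore p H := by
  obtain ⟨S, hS⟩ := (hU.comap_subtype (K := Cfsg.fittingSubgroup H)).exists_le_sylow
  rw [← CfsgLib.Fitting.sylow_fitting_eq_pCore S]
  exact fun x hx => ⟨⟨x, hle hx⟩, hS hx, rfl⟩

/-- **Step (a).** A twisted group generated by its inverted elements is nilpotent. -/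
theorem isNilpotent_of_twisted (T : Twist N r z b) (hsolv : Group.IsSolvable N)
    (hgen : N ≤ closure (invSet N r)) : Group.IsNilpotent N := by
  haveI := hsolv
  let F := Cfsg.fittingSubgroup N
  haveI hFn : F.Normal := CfsgLib.Fitting.fitting_normal
  let π := QuotientGroup.mk' F
  have hπ : Function.Surjective π := QuotientGroup.mk'_surjective F
  let φ : normalizer (N : Set G) → MulAut N := fun a => N.normalizerMonoidHom a
  let σ : normalizer (N : Set G) → (N ⧸ F →* N ⧸ F) := fun a => QuotientGroup.map F F (φ a).toMonoidHom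
    ((CfsgLib.Fitting.fitting_characteristic (G := N)).fixed (φ a)).ge
  have hσ : ∀ a (y : N), σ a (π y) = π (φ a y) := fun a y => rfl
  have hσs : ∀ a, Function.Surjective (σ a) := fun a v => by
    obtain ⟨y, rfl⟩ := hπ v
    exact ⟨π ((φ a).symm y), by rw [hσ, MulEquiv.apply_symm_apply]⟩
  have hφ : ∀ a (y : N), ((φ a y : N) : G) = a * y * (a : G)⁻¹ := fun a y => rfl
  let a_r : normalizer (N : Set G) := ⟨r, T.r_norm⟩
  let a_z : normalizer (N : Set G) := ⟨z, T.z_norm⟩
  have hfixq : ∀ q : ℕ, q.Prime → Cfsg.pCore q (N ⧸ F) ≤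
      MonoidHom.eqLocus (σ a_r) (MonoidHom.id (N ⧸ F)) := by
    intro q hq
    haveI := Fact.mk hq
    haveI hcn : (Cfsg.pCore q (N ⧸ F)).Normal := CfsgLib.Fitting.pCore_normal q
    let K := (Cfsg.pCore q (N ⧸ F)).comap π
    haveI hKn : K.Normal := hcn.comap π
    let Kg := K.map N.subtype
    have hinvK : ∀ a : normalizer (N : Set G), (a : G) ∈ normalizer (Kg : Set G) := fun a =>
      CfsgLib.Coprime.mem_normalizer_of_forall_conj (by
        rintro _ ⟨y, hy, rfl⟩
        refine ⟨φ a y, ?_, hφ a y⟩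
        show π (φ a y) ∈ Cfsg.pCore q (N ⧸ F)
        rw [← hσ]
        exact CfsgLib.Fitting.map_pCore_le q _ (hσs a) (mem_map_of_mem _ hy))
    let A := zpowers (r * z)
    have hA : A ≤ normalizer (Kg : Set G) := zpowers_le.2 (mul_mem (hinvK a_r) (hinvK a_z))
    have hcb : (2 : ℕ).Coprime b := Nat.coprime_two_left.2 T.odd_b
    have hcop : (Nat.card A).Coprime (Nat.card Kg) := by
      rw [Nat.card_zpowers, T.comm.orderOf_mul_eq_mul_orderOf_of_coprime (by rw [T.ord_r, T.ord_z]; exact hcb),
        T.ord_r, T.ord_z]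
      refine Nat.Coprime.coprime_dvd_right (card_dvd_of_le (map_subtype_le K)) ?_
      exact Nat.Coprime.mul_left (Nat.coprime_two_left.2 T.odd_N) (T.prime_b.coprime_iff_not_dvd.2 T.ncop)
    have hrA : r ∈ A := by
      obtain ⟨k, hk⟩ := T.odd_b
      have e : (r * z) ^ b = r := by
        rw [T.comm.mul_pow]
        have hz : z ^ b = 1 := by rw [← T.ord_z, pow_orderOf_eq_one]
        rw [hz, mul_one, hk, pow_succ, pow_mul, pow_two, T.rr, one_pow, one_mul]
      exact e ▸ A.pow_mem (mem_zpowers _) b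
    have hzA : z ∈ A := by
      have := A.mul_mem (A.inv_mem hrA) (mem_zpowers (r * z))
      rwa [inv_mul_cancel_left] at this
    obtain ⟨P, hP⟩ := CfsgLib.Coprime.exists_invariant_sylow A Kg hA hcop (Or.inl inferInstance) q
    set Qg := (P : Subgroup Kg).map Kg.subtype
    have hQN : Qg ≤ N := (map_subtype_le _).trans (map_subtype_le K)
    have hQp : IsPGroup q Qg := P.isPGroup'.map _
    -- the inverted elements of the invariant Sylow subgroup lie in `F`
    have hxF : ∀ x (hx : x ∈ invSet Qg r), (⟨x, hQN hx.1⟩ : N) ∈ F := by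
      intro x hx
      let C : Subgroup N :=
        K ⊓ ⨅ p : {p : ℕ // p.Prime ∧ p ≠ q}, centralizer (Cfsg.pCore (p : ℕ) N : Set N)
      have hCn : C.Normal := by
        haveI : ∀ p : {p : ℕ // p.Prime ∧ p ≠ q}, (centralizer (Cfsg.pCore (p : ℕ) N : Set N)).Normal :=
          fun p => by
            haveI := CfsgLib.Fitting.pCore_normal (G := N) (p : ℕ)
            infer_instance
        haveI : (⨅ p : {p : ℕ // p.Prime ∧ p ≠ q}, centralizer (Cfsg.pCore (p : ℕ) N : Set N)).Normal :=
          normal_iInf_normal inferInstance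
        exact Subgroup.normal_inf_normal _ _
      have hCnil : Group.IsNilpotent C := by
        refine Group.of_quotient_center_nilpotent ?_
        have hp' : IsPGroup q (C ⧸ center C) := by
          intro v
          obtain ⟨⟨y, hy⟩, rfl⟩ := QuotientGroup.mk'_surjective (center C) v
          obtain ⟨i, hi⟩ := CfsgLib.Fitting.pCore_isPGroup q ⟨π y, hy.1⟩
          have hf : y ^ q ^ i ∈ F := (QuotientGroup.eq_one_iff _).1 (by
            show π (y ^ q ^ i) = 1
            rw [map_pow]
            exact congrArg Subtype.val hi)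
          set f := y ^ q ^ i with hfdef
          set e := (orderOf f).factorization q
          refine ⟨i + e, ?_⟩
          rw [← map_pow]
          refine (QuotientGroup.eq_one_iff _).2 (mem_center_iff.2 fun ⟨c, hc⟩ => Subtype.ext ?_)
          show c * y ^ q ^ (i + e) = y ^ q ^ (i + e) * c
          rw [pow_add, pow_mul, ← hfdef]
          have hw : (orderOf (f ^ q ^ e)).Coprime q := by
            rw [orderOf_pow_of_dvd (pow_ne_zero _ hq.ne_zero) (Nat.ordProj_dvd _ _)]
            exact ((hq.coprime_iff_not_dvd).2 (Nat.not_dvd_ordCompl hq (orderOf_pos f).ne')).symm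
          have hle : zpowers (f ^ q ^ e) ≤ centralizer ({c} : Set N) := by
            refine CfsgLib.Coprime.le_of_forall_sylow_le fun p hp S => ?_
            haveI := Fact.mk hp
            have hSF : (S : Subgroup (zpowers (f ^ q ^ e))).map (zpowers (f ^ q ^ e)).subtype ≤ F :=
              (map_subtype_le _).trans (zpowers_le.2 (F.pow_mem hf _))
            by_cases hpq : p = q
            · rintro _ ⟨w, hw', rfl⟩
              obtain ⟨k, hk⟩ := IsPGroup.iff_orderOf.1 S.isPGroup' ⟨w, hw'⟩
              rw [Subgroup.orderOf_mk] at hk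
              have h1 : orderOf w ∣ orderOf (f ^ q ^ e) := by
                have := _root_.orderOf_dvd_natCard w
                rwa [Nat.card_zpowers] at this
              have h2 : orderOf w = 1 := Nat.eq_one_of_dvd_coprimes (hw.pow_right k) h1 (by rw [hk, hpq])
              rw [orderOf_eq_one_iff.1 h2]
              exact one_mem _
            · intro w hw'
              refine mem_centralizer_singleton_iff.2 ?_
              have h1 := le_pCore_of_le_fitting (S.isPGroup'.map _) hSF hw'
              have h2 : c ∈ centralizer (Cfsg.pCore p N : Set N) :=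
                (mem_iInf.1 hc.2) ⟨p, hp, hpq⟩
              exact mem_centralizer_iff.1 h2 w h1
          exact (mem_centralizer_singleton_iff.1 (hle (mem_zpowers _))).symm
        exact hp'.isNilpotent
      refine CfsgLib.Fitting.le_fitting hCn hCnil ⟨?_, mem_iInf.2 fun p => ?_⟩
      · obtain ⟨y, hy, hyx⟩ := map_subtype_le _ hx.1
        exact (show (⟨x, hQN hx.1⟩ : N) = y from Subtype.ext hyx.symm) ▸ hy
      · haveI := Fact.mk p.2.1
        haveI := CfsgLib.Fitting.pCore_normal (G := N) (p : ℕ)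
        have hchar := CfsgLib.Fitting.pCore_characteristic (G := N) (p : ℕ)
        set W := (Cfsg.pCore (p : ℕ) N).map N.subtype
        have hWi : ∀ a : normalizer (N : Set G), (a : G) ∈ normalizer (W : Set G) := fun a =>
          CfsgLib.Coprime.mem_normalizer_of_forall_conj (by
            rintro _ ⟨y, hy, rfl⟩
            exact ⟨φ a y, (hchar.fixed (φ a)).ge hy, hφ a y⟩)
        have hQW : Qg ≤ normalizer (W : Set G) :=
          fun g hg => hWi ⟨g, Subgroup.le_normalizer (hQN hg)⟩
        have h := inverted_mem_centralizer T (q := q) p.2.2 (map_subtype_le _)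
          ((CfsgLib.Fitting.pCore_isPGroup (p : ℕ)).map _) (hWi a_z) (hWi a_r) _ Qg le_rfl hQN hQp (hP hzA)
          (hP hrA) hQW x hx
        refine mem_centralizer_iff.2 fun w hw => Subtype.ext ?_
        exact mem_centralizer_iff.1 h _ (mem_map_of_mem _ hw)
    -- so the whole of `O_q` of the quotient is fixed
    let L := MonoidHom.eqLocus ((σ a_r).comp π) π
    have hKL : (L.map N.subtype).subgroupOf Kg = ⊤ := by
      refine CfsgLib.Fitting.eq_top_of_forall_sylow_le fun p hp _ => ?_
      haveI := Fact.mk hp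
      by_cases hpq : p = q
      · subst hpq
        refine ⟨P, fun y hy => ?_⟩
        obtain ⟨k, hk, hky⟩ := y.2
        refine ⟨k, ?_, hky⟩
        show σ a_r (π k) = π k
        have hyQ : (y : G) ∈ Qg := mem_map_of_mem _ hy
        have hu := twisted_mem_invSet T (hP hrA) hyQ
        have hF' := hxF _ hu
        rw [hσ]
        refine (QuotientGroup.eq.2 ?_).symm
        convert hF' using 1
        apply Subtype.ext
        show (k : G)⁻¹ * (φ a_r k : G) = (y : G)⁻¹ * (r * (y : G) * r⁻¹)
        rw [hφ, show (k : G) = (y : G) from hky]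
      · obtain ⟨S⟩ : Nonempty (Sylow p Kg) := inferInstance
        refine ⟨S, fun y hy => ?_⟩
        obtain ⟨k, hk, hky⟩ := y.2
        refine ⟨k, ?_, hky⟩
        obtain ⟨i, hi⟩ := S.isPGroup' ⟨y, hy⟩
        obtain ⟨j, hj⟩ := CfsgLib.Fitting.pCore_isPGroup q ⟨π k, hk⟩
        have h1 : k ^ p ^ i = 1 := Subtype.ext (by
          have := congrArg (fun w : (S : Subgroup Kg) => ((w : Kg) : G)) hi
          simpa [← hky] using this)
        have h2 : orderOf (π k) = 1 := Nat.eq_one_of_dvd_coprimes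
          (((Nat.coprime_primes hp hq).2 hpq).pow i j)
          (orderOf_dvd_of_pow_eq_one (by rw [← map_pow, h1, map_one]))
          (orderOf_dvd_of_pow_eq_one (congrArg Subtype.val hj))
        show σ a_r (π k) = π k
        rw [orderOf_eq_one_iff.1 h2, map_one]
    intro v hv
    obtain ⟨k, rfl⟩ := hπ v
    obtain ⟨k', hk', hkk⟩ := (subgroupOf_eq_top.1 hKL) (mem_map_of_mem N.subtype (show k ∈ K from hv))
    rw [show k = k' from N.subtype_injective hkk.symm]
    exact hk'
  have hfit : Cfsg.fittingSubgroup (N ⧸ F) ≤ MonoidHom.eqLocus (σ a_r) (MonoidHom.id (N ⧸ F)) := by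
    rw [CfsgLib.Fitting.fitting_eq_iSup_pCore]
    exact iSup_le fun p => hfixq _ (Nat.prime_of_mem_primeFactors p.2)
  have hodd : Odd (Nat.card (N ⧸ F)) :=
    T.odd_N.of_dvd_nat (card_quotient_dvd_card F)
  have hσinv : ∀ x (hx : x ∈ invSet N r), σ a_r (π ⟨x, hx.1⟩) = (π ⟨x, hx.1⟩)⁻¹ := fun x hx => by
    rw [hσ, ← map_inv]
    exact congrArg π (Subtype.ext (by rw [hφ]; exact hx.2))
  have hcent : centralizer (Cfsg.fittingSubgroup (N ⧸ F) : Set (N ⧸ F)) = ⊤ := by
    refine eq_top_of_inverted_mem π hπ hgen _ fun x hx => mem_centralizer_iff.2 fun w hw => ?_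
    set v := π ⟨x, hx.1⟩
    haveI := CfsgLib.Fitting.fitting_normal (G := N ⧸ F)
    have h1 : σ a_r (v * w * v⁻¹) = v * w * v⁻¹ := hfit (Subgroup.Normal.conj_mem inferInstance w hw v)
    have h2 : σ a_r w = w := hfit hw
    rw [map_mul, map_mul, map_inv, h2, hσinv x hx, inv_inv] at h1
    have h3 : Commute (v * v) w := by
      show v * v * w = w * (v * v)
      calc v * v * w = v * (v * w * v⁻¹) * v := by group
        _ = v * (v⁻¹ * w * v) * v := by rw [h1]
        _ = _ := by group
    obtain ⟨l, hl⟩ := hodd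
    have h4 : v = (v * v) ^ (l + 1) := by
      rw [← pow_two, ← pow_mul, show 2 * (l + 1) = Nat.card (N ⧸ F) + 1 by omega, pow_succ, pow_card_eq_one',
        one_mul]
    rw [h4]
    exact (h3.pow_left _).symm.eq
  have hVfit : Cfsg.fittingSubgroup (N ⧸ F) = ⊤ := by
    exact top_le_iff.1 (hcent ▸ CfsgLib.Fitting.centralizer_fitting_le)
  have hbot : (⊥ : Subgroup (N ⧸ F)) = ⊤ := by
    refine eq_top_of_inverted_mem π hπ hgen _ fun x hx => mem_bot.2 ?_
    have h1 : σ a_r (π ⟨x, hx.1⟩) = π ⟨x, hx.1⟩ := hfit (hVfit ▸ mem_top _)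
    rw [hσinv x hx] at h1
    exact eq_one_of_inv_eq (N := (⊤ : Subgroup (N ⧸ F))) (by rwa [Nat.card_congr topEquiv.toEquiv])
      (mem_top _) h1
  refine (CfsgLib.Fitting.isNilpotent_iff_fitting_eq_top).2 (eq_top_iff.2 fun y _ => ?_)
  exact (QuotientGroup.eq_one_iff y).1 (mem_bot.1 (hbot ▸ mem_top (π y)))

/-- **Step (b).** If the twisted group is not of prime-power order, `r` fixes no element of order `l` for some
prime `l` dividing its order. -/
theorem exists_free_prime (T : Twist N r z b) (hnil : Group.IsNilpotent N)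
    (hgen : N ≤ closure (invSet N r))
    (hcore : ∀ s ∈ N, Commute r s → (∀ j ∈ invSet N r, Commute s j) → s = 1)
    (hnp : ∀ p : ℕ, p.Prime → ¬ IsPGroup p N) :
    ∃ l, l.Prime ∧ l ∣ Nat.card N ∧ ∀ s ∈ N, Commute r s → orderOf s ≠ l := by
  by_contra hcon
  push Not at hcon
  have hN1 : Nat.card N ≠ 1 := fun h => hnp 2 Nat.prime_two (IsPGroup.of_card (n := 0) (by rw [h, pow_zero]))
  obtain ⟨l', hl', hld'⟩ := Nat.exists_prime_and_dvd hN1
  obtain ⟨l, hl, hld, hne⟩ : ∃ l, l.Prime ∧ l ∣ Nat.card N ∧ l ≠ l' := by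
    by_contra h
    push Not at h
    exact hnp l' hl' (IsPGroup.of_card (Nat.eq_prime_pow_of_unique_prime_dvd Nat.card_pos.ne' fun {d} hd hdd =>
      h d hd hdd))
  obtain ⟨s, hsN, hsr, hs⟩ := hcon l' hl' hld'
  obtain ⟨s', hs'N, hs'r, hs'⟩ := hcon l hl hld
  obtain ⟨A, hA, hmem⟩ := T.cyc s' hs'N (hs' ▸ hl) hs'r
  have hcyc : ∀ x ∈ invSet N r, ∀ y ∈ invSet N r, (∃ k, orderOf x = l' ^ k) → (∃ k, orderOf y = l' ^ k) →
      Commute x y := fun x hx y hy ⟨i, hi⟩ ⟨j, hj⟩ => by
    have hx' : x ∈ A := hmem x hx (commute_of_nilpotent hnil hs'N hx.1 (by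
      rw [hs', hi]; exact ((Nat.coprime_primes hl hl').2 hne).pow_right i))
    have hy' : y ∈ A := hmem y hy (commute_of_nilpotent hnil hs'N hy.1 (by
      rw [hs', hj]; exact ((Nat.coprime_primes hl hl').2 hne).pow_right j))
    haveI := hA
    obtain ⟨g, hg⟩ := IsCyclic.exists_generator (α := A)
    obtain ⟨a, ha⟩ := mem_zpowers_iff.1 (hg ⟨x, hx'⟩)
    obtain ⟨c, hc⟩ := mem_zpowers_iff.1 (hg ⟨y, hy'⟩)
    have h := congrArg Subtype.val (zpow_mul_comm g a c)
    rw [ha, hc] at h
    exact h
  have hcentral : ∀ x ∈ invSet N r, (∃ k, orderOf x = l' ^ k) → ∀ n ∈ N, Commute x n := by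
    intro x hx hxl n hn
    have hle : N ≤ centralizer ({x} : Set G) := hgen.trans ((closure_le _).2 fun j hj => by
      refine mem_centralizer_singleton_iff.2 ?_
      refine (commute_of_parts hl' (fun w hw hwl => hcyc w (zpowers_subset_invSet hj hw) x hx hwl hxl)
        fun w hw hwl => ?_).eq
      refine commute_of_nilpotent hnil (zpowers_subset_invSet hj hw).1 hx.1 ?_
      obtain ⟨k, hk⟩ := hxl
      rw [hk]
      exact hwl.pow_right k)
    exact (mem_centralizer_singleton_iff.1 (hle hn)).symm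
  have h1 : s = 1 := hcore s hsN hsr fun j hj => by
    refine (commute_of_parts hl' (fun w hw hwl => hcentral w (zpowers_subset_invSet hj hw) hwl s hsN)
      fun w hw hwl => ?_).symm
    exact commute_of_nilpotent hnil (zpowers_subset_invSet hj hw).1 hsN (hs ▸ hwl)
  rw [h1, orderOf_one] at hs
  exact hl'.ne_one hs.symm

/-- **Step (b), second half.** A Sylow subgroup without fixed points is inverted and central. -/
theorem inverted_central_of_free (T : Twist N r z b) (hnil : Group.IsNilpotent N) {l : ℕ} (hl : l.Prime)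
    (hfree : ∀ s ∈ N, Commute r s → orderOf s ≠ l) {y : G} (hy : y ∈ N) (hyl : ∃ k, orderOf y = l ^ k) :
    r * y * r⁻¹ = y⁻¹ ∧ ∀ n ∈ N, Commute y n := by
  haveI := Fact.mk hl
  haveI := hnil
  obtain ⟨P⟩ : Nonempty (Sylow l N) := inferInstance
  have hPn : (P : Subgroup N).Normal := inferInstance
  let Lg := (P : Subgroup N).map N.subtype
  have hLN : Lg ≤ N := map_subtype_le _
  have hLp : IsPGroup l Lg := P.isPGroup'.map _
  have hmem : ∀ x ∈ N, (∃ k, orderOf x = l ^ k) → x ∈ Lg := fun x hx ⟨k, hk⟩ => by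
    have hX : IsPGroup l (zpowers (⟨x, hx⟩ : N)) :=
      IsPGroup.of_card (n := k) (by rw [Nat.card_zpowers, Subgroup.orderOf_mk, hk])
    obtain ⟨S, hS⟩ := hX.exists_le_sylow
    letI := Sylow.unique_of_normal P hPn
    rw [show Lg = (S : Subgroup N).map N.subtype by rw [Subsingleton.elim S P]]
    exact ⟨⟨x, hx⟩, hS (mem_zpowers _), rfl⟩
  have hrL : r ∈ normalizer (Lg : Set G) := CfsgLib.Coprime.mem_normalizer_of_forall_conj fun x hx => by
    obtain ⟨k, hk⟩ := IsPGroup.iff_orderOf.1 hLp ⟨x, hx⟩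
    rw [Subgroup.orderOf_mk] at hk
    refine hmem _ (CfsgLib.Coprime.mem_normalizer_conj T.r_norm (hLN hx)) ⟨k, ?_⟩
    rw [← hk]
    exact orderOf_injective (MulAut.conj r).toMonoidHom (MulAut.conj r).injective x
  have hfix : ∀ x ∈ Lg, Commute r x → x = 1 := fun x hx hc => by
    by_contra hx1
    have hne : Lg ⊓ centralizer ({r} : Set G) ≠ ⊥ := fun h =>
      hx1 (mem_bot.1 (h ▸ mem_inf.2 ⟨hx, mem_centralizer_singleton_iff.2 hc.symm.eq⟩))
    obtain ⟨s, ⟨hsL, hsr⟩, hs⟩ := exists_orderOf_eq_prime (hLp.to_le inf_le_left) hne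
    exact hfree s (hLN hsL) (mem_centralizer_singleton_iff.1 hsr).symm hs
  have hinv : ∀ x ∈ Lg, r * x * r⁻¹ = x⁻¹ := fun x hx => inverted_of_no_fix T hrL hfix hx
  refine ⟨hinv y (hmem y hy hyl), fun n hn => ?_⟩
  refine (commute_of_parts hl (fun w hw hwl => ?_) fun w hw hwl => ?_).symm
  · have hwL := hmem w ((zpowers_le.2 hn) hw) hwl
    have hyL := hmem y hy hyl
    have h1 : (w * y)⁻¹ = w⁻¹ * y⁻¹ := by
      rw [← hinv w hwL, ← hinv y hyL, ← hinv _ (Lg.mul_mem hwL hyL)]; group
    rw [mul_inv_rev] at h1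
    have h2 := congrArg (·⁻¹) h1
    simp only [mul_inv_rev, inv_inv] at h2
    exact h2
  · obtain ⟨k, hk⟩ := hyl
    exact commute_of_nilpotent hnil ((zpowers_le.2 hn) hw) hy (hk ▸ hwl.pow_right k)

end CfsgLib.BenderQ.Residual
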