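import Cfsg.Agent.Lib.BenderQ.Residual.Defs
import Cfsg.Agent.Lib.BenderQ.Residual.FpfTrace
import Cfsg.Agent.Lib.PGroup.Frattini

/-!
Component case, nilpotency: an involution `r` and a commuting automorphism `z` of prime order whose fixed points are
fixed by `r`.  Inside such a twisted group, the elements of an invariant `q`-group inverted by `r` centralise every
invariant `p`-group it normalises.
-/

set_option autoImplicit false

namespace CfsgLib.BenderQ.Residual

open Subgroup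

universe u

variable {G : Type u} [Group G] [Finite G]

/-- A group `N` of odd order with an involution `r` and a commuting automorphism `z` of odd prime order coprime to
`|N|`, such that the fixed points of `z` are fixed by `r`. -/
structure Twist (N : Subgroup G) (r z : G) (b : ℕ) : Prop where
  odd_N : Odd (Nat.card N)
  ord_r : orderOf r = 2
  prime_b : b.Prime
  odd_b : Odd b
  ord_z : orderOf z = b
  comm : Commute r z
  ncop : ¬ b ∣ Nat.card N
  r_norm : r ∈ normalizer (N : Set G)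
  z_norm : z ∈ normalizer (N : Set G)
  fix : ∀ g ∈ N, Commute z g → Commute r g
  cyc : CyclicCentral N r

omit [Finite G] in
theorem eq_one_of_inv_eq {N : Subgroup G} [Finite N] (hodd : Odd (Nat.card N)) {x : G} (hx : x ∈ N)
    (h : x⁻¹ = x) : x = 1 := by
  have h2 : orderOf (⟨x, hx⟩ : N) ∣ 2 := orderOf_dvd_of_pow_eq_one (Subtype.ext (by
    show x ^ 2 = 1
    rw [pow_two]
    exact (congrArg (x * ·) h.symm).trans (mul_inv_cancel x)))
  have h1 : orderOf (⟨x, hx⟩ : N) ∣ Nat.card N := orderOf_dvd_natCard _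
  exact congrArg Subtype.val (orderOf_eq_one_iff.1
    (Nat.eq_one_of_dvd_coprimes ((Nat.coprime_two_right).2 hodd) h1 h2))

omit [Finite G] in
theorem Twist.rr {N : Subgroup G} {r z : G} {b : ℕ} (T : Twist N r z b) : r * r = 1 := by
  rw [← pow_two, ← T.ord_r, pow_orderOf_eq_one]

omit [Finite G] in
theorem Twist.rinv {N : Subgroup G} {r z : G} {b : ℕ} (T : Twist N r z b) : r⁻¹ = r :=
  inv_eq_of_mul_eq_one_right T.rr

omit [Finite G] in
theorem commutator_swap_mem {H : Type*} [Group H] (a b : H) : (a * b)⁻¹ * (b * a) ∈ commutator H := by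
  have h := Subgroup.commutator_mem_commutator (Subgroup.mem_top b⁻¹) (Subgroup.mem_top a⁻¹)
  rw [commutatorElement_def, inv_inv, inv_inv] at h
  rw [_root_.commutator_def, mul_inv_rev, ← mul_assoc]
  exact h

/-- A nontrivial `q`-group has an element of order `q`. -/
theorem exists_orderOf_eq_prime {q : ℕ} [Fact q.Prime] {H : Subgroup G} (hH : IsPGroup q H) (hne : H ≠ ⊥) :
    ∃ x ∈ H, orderOf x = q := by
  obtain ⟨n, hn⟩ := IsPGroup.iff_card.1 hH
  have h1 : Nat.card H ≠ 1 := fun h => hne (Subgroup.card_eq_one.1 h)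
  have hn0 : n ≠ 0 := fun h => h1 (by rw [hn, h, pow_zero])
  obtain ⟨x, hx⟩ := exists_prime_orderOf_dvd_card' (G := H) q (hn ▸ dvd_pow_self q hn0)
  exact ⟨x, x.2, by rw [Subgroup.orderOf_coe]; exact hx⟩

/-- In a cyclic group the elements killed by the order of an element are its powers. -/
theorem mem_zpowers_of_pow_eq_one {A : Subgroup G} (hA : IsCyclic A) {c d : G} (hc : c ∈ A) (hd : d ∈ A)
    (h : d ^ orderOf c = 1) : d ∈ zpowers c := by
  classical
  haveI := hA
  letI := Fintype.ofFinite A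
  set c' : A := ⟨c, hc⟩ with hc'
  have ho : orderOf c' = orderOf c := by rw [← Subgroup.orderOf_coe]
  let S := Finset.univ.filter fun a : A => a ^ orderOf c' = 1
  let U := Finset.univ.filter fun a : A => a ∈ zpowers c'
  have hUS : U ⊆ S := fun a ha => by
    obtain ⟨-, ha⟩ := Finset.mem_filter.1 ha
    obtain ⟨k, rfl⟩ := mem_zpowers_iff.1 ha
    refine Finset.mem_filter.2 ⟨Finset.mem_univ _, ?_⟩
    rw [← zpow_natCast, ← zpow_mul, mul_comm, zpow_mul, zpow_natCast, pow_orderOf_eq_one, one_zpow]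
  have hcard : S.card ≤ U.card := by
    refine (IsCyclic.card_pow_eq_one_le (orderOf_pos c')).trans (le_of_eq ?_)
    rw [← Nat.card_zpowers, Nat.card_eq_fintype_card]
    exact Fintype.card_subtype _
  have hd' : (⟨d, hd⟩ : A) ∈ U := by
    rw [Finset.eq_of_subset_of_card_le hUS hcard]
    refine Finset.mem_filter.2 ⟨Finset.mem_univ _, Subtype.ext ?_⟩
    rw [ho]
    exact h
  obtain ⟨k, hk⟩ := mem_zpowers_iff.1 (Finset.mem_filter.1 hd').2
  exact mem_zpowers_iff.2 ⟨k, congrArg Subtype.val hk⟩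

variable {N : Subgroup G} {r z : G} {b : ℕ}

omit [Finite G] in
/-- `g⁻¹ (r g r⁻¹)` is inverted by `r`. -/
theorem twisted_mem_invSet (T : Twist N r z b) {Q : Subgroup G} (hrQ : r ∈ normalizer (Q : Set G)) {g : G}
    (hg : g ∈ Q) : g⁻¹ * (r * g * r⁻¹) ∈ invSet Q r := by
  refine ⟨Q.mul_mem (Q.inv_mem hg) (CfsgLib.Coprime.mem_normalizer_conj hrQ hg), ?_⟩
  have h := T.rr
  calc r * (g⁻¹ * (r * g * r⁻¹)) * r⁻¹ = r * g⁻¹ * r⁻¹ * ((r * r) * g * (r * r)⁻¹) := by group
    _ = (g⁻¹ * (r * g * r⁻¹))⁻¹ := by rw [h]; group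

/-- Without fixed points, every element is inverted. -/
theorem inverted_of_no_fix (T : Twist N r z b) {Q : Subgroup G} (hrQ : r ∈ normalizer (Q : Set G))
    (hfix : ∀ x ∈ Q, Commute r x → x = 1) {x : G} (hx : x ∈ Q) : r * x * r⁻¹ = x⁻¹ := by
  let f : Q → Q := fun g => ⟨(g : G)⁻¹ * (r * g * r⁻¹), (twisted_mem_invSet T hrQ g.2).1⟩
  have hinj : Function.Injective f := fun g h e => by
    have e' : (g : G)⁻¹ * (r * g * r⁻¹) = (h : G)⁻¹ * (r * h * r⁻¹) := congrArg Subtype.val e
    have h1 : Commute r ((h : G) * (g : G)⁻¹) := by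
      refine (mul_inv_eq_iff_eq_mul.1 ?_ : r * ((h : G) * (g : G)⁻¹) = (h : G) * (g : G)⁻¹ * r)
      calc r * ((h : G) * (g : G)⁻¹) * r⁻¹
          = (h : G) * ((h : G)⁻¹ * (r * h * r⁻¹)) * (r * g * r⁻¹)⁻¹ := by group
        _ = _ := by rw [← e']; group
    exact Subtype.ext (mul_inv_eq_one.1 (hfix _ (Q.mul_mem h.2 (Q.inv_mem g.2)) h1)).symm
  obtain ⟨g, hg⟩ := (Finite.injective_iff_bijective.1 hinj).2 ⟨x, hx⟩
  have hg' : (g : G)⁻¹ * (r * g * r⁻¹) = x := congrArg Subtype.val hg
  exact hg' ▸ (twisted_mem_invSet T hrQ g.2).2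

/-- An abelian group generated by inverted elements centralises an invariant group of coprime order it
normalises. -/
theorem le_centralizer_of_inverted (T : Twist N r z b) {p q : ℕ} [Fact p.Prime] [Fact q.Prime] (hpq : p ≠ q)
    {Q W : Subgroup G} (hQN : Q ≤ N) (hWN : W ≤ N) (hQ : IsPGroup q Q) (hW : IsPGroup p W)
    (hzQ : z ∈ normalizer (Q : Set G)) (hrQ : r ∈ normalizer (Q : Set G))
    (hzW : z ∈ normalizer (W : Set G)) (hrW : r ∈ normalizer (W : Set G))
    (hQW : Q ≤ normalizer (W : Set G)) (hinv : ∀ x ∈ Q, r * x * r⁻¹ = x⁻¹) :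
    Q ≤ centralizer (W : Set G) := by
  have hcomm : ∀ x ∈ Q, ∀ y ∈ Q, Commute x y := fun x hx y hy => by
    have h1 : (x * y)⁻¹ = x⁻¹ * y⁻¹ := by
      rw [← hinv x hx, ← hinv y hy, ← hinv _ (Q.mul_mem hx hy)]; group
    rw [mul_inv_rev] at h1
    have h2 := congrArg (·⁻¹) h1
    simp only [mul_inv_rev, inv_inv] at h2
    exact h2
  have hcop : (Nat.card Q).Coprime (Nat.card W) := by
    obtain ⟨i, hi⟩ := IsPGroup.iff_card.1 hQ
    obtain ⟨j, hj⟩ := IsPGroup.iff_card.1 hW
    rw [hi, hj]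
    exact Nat.Coprime.pow i j ((Nat.coprime_primes Fact.out Fact.out).2 hpq.symm)
  set M := normalizer (W : Set G)
  let W' := W.subgroupOf M
  haveI hW'n : W'.Normal := Subgroup.normal_subgroupOf_of_le_normalizer le_rfl
  let Φ := (frattini W').map W'.subtype
  haveI : Φ.Normal := ConjAct.normal_of_characteristic_of_normal
  let f := QuotientGroup.mk' Φ
  let Q' := Q.subgroupOf M
  let z' : M := ⟨z, hzW⟩
  let r' : M := ⟨r, hrW⟩
  have hcardW : Nat.card W' = Nat.card W := CfsgLib.Coprime.card_subgroupOf Subgroup.le_normalizer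
  have hcardQ : Nat.card Q' = Nat.card Q := CfsgLib.Coprime.card_subgroupOf hQW
  have hW' : IsPGroup p W' := hW.comap_subtype
  have hnV : (W'.map f).Normal := hW'n.map f (QuotientGroup.mk'_surjective Φ)
  have hfix : ∀ v ∈ W'.map f, Commute (f z') v → Commute (f r') v := fun v hv hzv => by
    have hA : zpowers z' ≤ normalizer (W' : Set M) := by rw [normalizer_eq_top]; exact le_top
    have hco : (Nat.card (zpowers z')).Coprime (Nat.card W') := by
      rw [Nat.card_zpowers, hcardW, ← Subgroup.orderOf_coe]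
      show (orderOf z).Coprime _
      rw [T.ord_z]
      exact T.prime_b.coprime_iff_not_dvd.2 fun h => T.ncop (h.trans (card_dvd_of_le hWN))
    have hmem : v ∈ W'.map f ⊓ centralizer ((zpowers z').map f : Set (M ⧸ Φ)) := by
      refine ⟨hv, ?_⟩
      rw [MonoidHom.map_zpowers]
      refine mem_centralizer_iff.2 fun y hy => ?_
      obtain ⟨k, rfl⟩ := mem_zpowers_iff.1 hy
      exact (hzv.zpow_left k).eq
    rw [← CfsgLib.Coprime.map_inf_centralizer f _ W' hA hco (Or.inl inferInstance)] at hmem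
    obtain ⟨w, ⟨hw, hwc⟩, rfl⟩ := hmem
    have h1 : Commute z (w : G) := congrArg Subtype.val (mem_centralizer_iff.1 hwc z' (mem_zpowers _))
    have h2 : Commute r' w := Subtype.ext (T.fix _ (hWN hw) h1).eq
    exact h2.map f
  have hΦ : ∀ {y : M}, y ∈ Q' → y ∈ Φ → y = 1 := fun {y} hy hyΦ => by
    have hd : W' ⊓ Q' = ⊥ :=
      Subgroup.inf_eq_bot_of_coprime (hcardW ▸ hcardQ ▸ hcop.symm)
    exact Subgroup.mem_bot.1 (hd ▸ Subgroup.mem_inf.2 ⟨Subgroup.map_subtype_le _ hyΦ, hy⟩)
  have hnQ' : ∀ {g : G} (hg : g ∈ M), g ∈ normalizer (Q : Set G) → (⟨g, hg⟩ : M) ∈ normalizer (Q' : Set M) :=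
    fun {g} hg hgQ => CfsgLib.Coprime.mem_normalizer_of_forall_conj fun y hy => by
      show g * (y : G) * g⁻¹ ∈ Q
      exact CfsgLib.Coprime.mem_normalizer_conj hgQ hy
  have hnfQ : ∀ {y : M}, y ∈ normalizer (Q' : Set M) → f y ∈ normalizer (Q'.map f : Set (M ⧸ Φ)) :=
    fun hy => Subgroup.le_normalizer_map f (Subgroup.mem_map_of_mem f hy)
  have hback : ∀ {a : M} {y : M}, a ∈ normalizer (Q' : Set M) → y ∈ Q' → Commute (f a) (f y) →
      Commute a y := fun {a y} ha hy h => by
    have h1 : a * y * a⁻¹ * y⁻¹ ∈ Φ := (QuotientGroup.eq_one_iff _).1 (by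
      show f (a * y * a⁻¹ * y⁻¹) = 1
      rw [map_mul, map_mul, map_mul, map_inv, map_inv, h.eq]; group)
    exact mul_inv_eq_iff_eq_mul.1 (mul_inv_eq_one.1
      (hΦ (Q'.mul_mem (CfsgLib.Coprime.mem_normalizer_conj ha hy) (Q'.inv_mem hy)) h1))
  haveI : IsMulCommutative (W'.map f) := ⟨⟨by
    rintro ⟨_, u, hu, rfl⟩ ⟨_, v, hv, rfl⟩
    refine Subtype.ext ?_
    show f u * f v = f v * f u
    rw [← map_mul, ← map_mul]
    refine QuotientGroup.eq.2 ⟨(⟨u, hu⟩ * ⟨v, hv⟩ : W')⁻¹ * (⟨v, hv⟩ * ⟨u, hu⟩), ?_, rfl⟩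
    refine CfsgLib.PGroup.commutator_le_frattini hW' ?_
    exact commutator_swap_mem _ _⟩⟩
  have key : Q'.map f ≤ centralizer (W'.map f : Set (M ⧸ Φ)) := by
    refine le_centralizer_of_fix_le (z := f z') (r := f r') T.prime_b T.odd_b ?_ ?_ ?_ ?_ ?_ ?_
      (hnfQ (hnQ' hzW hzQ)) (hnfQ (hnQ' hrW hrQ)) ?_ ?_ hfix ?_
    · rw [← map_pow, ← map_one f]
      exact congrArg f (Subtype.ext (by
        show z ^ b = 1
        rw [← T.ord_z, pow_orderOf_eq_one]))
    · rw [← map_mul, ← map_one f]; exact congrArg f (Subtype.ext T.rr)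
    · exact (show Commute z' r' from Subtype.ext T.comm.symm.eq).map f
    · rw [normalizer_eq_top]; exact le_top
    · rw [normalizer_eq_top]; exact mem_top _
    · rw [normalizer_eq_top]; exact mem_top _
    · rintro _ ⟨y, hy, rfl⟩ hc
      have h1 : Commute z (y : G) := congrArg Subtype.val (hback (hnQ' hzW hzQ) hy hc).eq
      have h2 := T.fix _ (hQN hy) h1
      have h3 : r * (y : G) * r⁻¹ = (y : G) := mul_inv_eq_iff_eq_mul.2 h2.eq
      have h4 : (y : G) = 1 := eq_one_of_inv_eq T.odd_N (hQN hy) ((hinv _ hy).symm.trans h3)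
      rw [show y = 1 from Subtype.ext h4, map_one]
    · rintro _ ⟨y, hy, rfl⟩ hc
      have h2 : Commute r (y : G) := congrArg Subtype.val (hback (hnQ' hrW hrQ) hy hc).eq
      have h3 : r * (y : G) * r⁻¹ = (y : G) := mul_inv_eq_iff_eq_mul.2 h2.eq
      have h4 : (y : G) = 1 := eq_one_of_inv_eq T.odd_N (hQN hy) ((hinv _ hy).symm.trans h3)
      rw [show y = 1 from Subtype.ext h4, map_one]
    · exact ((hcardQ ▸ hcardW ▸ hcop).coprime_dvd_left (Subgroup.card_map_dvd _ _)).coprime_dvd_right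
        (Subgroup.card_map_dvd _ _)
  have h' : Q' ≤ centralizer (W' : Set M) := by
    refine CfsgLib.Coprime.le_centralizer_of_trivial_on_frattini Q' W'
      (by rw [normalizer_eq_top]; exact le_top) ?_ fun a ha w hw => ?_
    · exact (hcardQ ▸ hcardW ▸ hcop).coprime_dvd_right (card_subgroup_dvd_card _)
    · refine (QuotientGroup.eq_one_iff _).1 ?_
      show f (a * w * a⁻¹ * w⁻¹) = 1
      rw [map_mul, map_mul, map_mul, map_inv, map_inv,
        ← mem_centralizer_iff.1 (key (mem_map_of_mem f ha)) _ (mem_map_of_mem f hw)]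
      group
  intro x hx
  rw [mem_centralizer_iff]
  intro w hw
  exact congrArg Subtype.val (mem_centralizer_iff.1 (h' (x := ⟨x, hQW hx⟩) hx) ⟨w, Subgroup.le_normalizer hw⟩ hw)

/-- In a nonabelian group generated by inverted elements, `z` has an eigenvalue of order `b`. -/
theorem exists_eigenvalue (T : Twist N r z b) {q : ℕ} [Fact q.Prime] {Q : Subgroup G} (hQN : Q ≤ N)
    (hQ : IsPGroup q Q) (hzQ : z ∈ normalizer (Q : Set G)) (hrQ : r ∈ normalizer (Q : Set G))
    (hgen : Q ≤ closure (invSet Q r)) (hna : ¬ ∀ x ∈ Q, ∀ y ∈ Q, Commute x y) :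
    ∃ k : ℕ, orderOf (k : ZMod q) = b := by
  set Z := Q ⊓ centralizer (Q : Set G)
  have hcyc : ∀ A : Subgroup G, IsCyclic A → ¬ Q ≤ A := fun A hA hle => hna fun x hx y hy => by
    haveI := hA
    obtain ⟨g, hg⟩ := IsCyclic.exists_generator (α := A)
    obtain ⟨i, hi⟩ := mem_zpowers_iff.1 (hg ⟨x, hle hx⟩)
    obtain ⟨j, hj⟩ := mem_zpowers_iff.1 (hg ⟨y, hle hy⟩)
    have h := congrArg Subtype.val (zpow_mul_comm g i j)
    rw [hi, hj] at h
    exact h
  have hinvN : ∀ {j : G}, j ∈ invSet Q r → j ∈ invSet N r := fun hj => ⟨hQN hj.1, hj.2⟩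
  have hZfix : Z ⊓ centralizer ({r} : Set G) = ⊥ := by
    by_contra hne
    obtain ⟨s, ⟨⟨hsQ, hsC⟩, hsr⟩, hs⟩ := exists_orderOf_eq_prime
      (hQ.to_le (inf_le_left.trans inf_le_left)) hne
    obtain ⟨A, hA, hmem⟩ := T.cyc s (hQN hsQ) (hs ▸ Fact.out) (mem_centralizer_singleton_iff.1 hsr).symm
    exact hcyc A hA (hgen.trans ((closure_le A).2 fun j hj =>
      hmem j (hinvN hj) (mem_centralizer_iff.1 hsC j hj.1).symm))
  have hZinv : ∀ x ∈ Z, r * x * r⁻¹ = x⁻¹ := fun x hx => by
    have hrx : r * x * r⁻¹ ∈ Z := ⟨CfsgLib.Coprime.mem_normalizer_conj hrQ hx.1,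
      mem_centralizer_iff.2 fun y hy => by
        have h1 := mem_centralizer_iff.1 hx.2 _ (CfsgLib.Coprime.mem_normalizer_conj' hrQ hy)
        calc y * (r * x * r⁻¹) = r * ((r⁻¹ * y * r) * x) * r⁻¹ := by group
          _ = _ := by rw [h1]; group⟩
    have hc : x * (r * x * r⁻¹) = (r * x * r⁻¹) * x :=
      mem_centralizer_iff.1 hrx.2 _ hx.1
    have hm : x * (r * x * r⁻¹) ∈ Z ⊓ centralizer ({r} : Set G) := by
      refine ⟨Z.mul_mem hx hrx, mem_centralizer_singleton_iff.2 ?_⟩
      refine (mul_inv_eq_iff_eq_mul.1 ?_).symm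
      calc r * (x * (r * x * r⁻¹)) * r⁻¹ = (r * x * r⁻¹) * ((r * r) * x * (r * r)⁻¹) := by group
        _ = _ := by rw [T.rr, hc]; group
    rw [hZfix, mem_bot] at hm
    exact (inv_eq_of_mul_eq_one_right hm).symm
  have hQne : Q ≠ ⊥ := fun h => hna fun x hx y _ => by
    rw [h, mem_bot] at hx; subst hx; exact Commute.one_left y
  have hZne : Z ≠ ⊥ := by
    haveI : Nontrivial Q := (Subgroup.nontrivial_iff_ne_bot Q).2 hQne
    haveI := hQ.center_nontrivial
    obtain ⟨⟨x, hx⟩, hx1⟩ := exists_ne (1 : center Q)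
    intro h
    refine hx1 (Subtype.ext (Subtype.ext ?_))
    have hmem : (x : G) ∈ Z := ⟨x.2, mem_centralizer_iff.2 fun y hy =>
      congrArg Subtype.val (Subgroup.mem_center_iff.1 hx ⟨y, hy⟩)⟩
    rw [h, mem_bot] at hmem
    exact hmem
  have hFne : Q ⊓ centralizer ({r} : Set G) ≠ ⊥ := fun h => hna fun x hx y hy => by
    have hi : ∀ w ∈ Q, r * w * r⁻¹ = w⁻¹ := fun w hw => inverted_of_no_fix T hrQ (fun v hv hc => by
      have : v ∈ Q ⊓ centralizer ({r} : Set G) := ⟨hv, mem_centralizer_singleton_iff.2 hc.symm.eq⟩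
      rwa [h, mem_bot] at this) hw
    have h1 : (x * y)⁻¹ = x⁻¹ * y⁻¹ := by
      rw [← hi x hx, ← hi y hy, ← hi _ (Q.mul_mem hx hy)]; group
    rw [mul_inv_rev] at h1
    have h2 := congrArg (·⁻¹) h1
    simp only [mul_inv_rev, inv_inv] at h2
    exact h2
  obtain ⟨s, ⟨hsQ, hsr⟩, hs⟩ := exists_orderOf_eq_prime (hQ.to_le inf_le_left) hFne
  obtain ⟨A, hA, hmem⟩ := T.cyc s (hQN hsQ) (hs ▸ Fact.out) (mem_centralizer_singleton_iff.1 hsr).symm
  obtain ⟨c, hcZ, hc⟩ := exists_orderOf_eq_prime (hQ.to_le (inf_le_left : Z ≤ Q)) hZne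
  have hA' : ∀ x ∈ Z, x ∈ A := fun x hx =>
    hmem x ⟨hQN hx.1, hZinv x hx⟩ (mem_centralizer_iff.1 hx.2 s hsQ)
  have hd : z * c * z⁻¹ ∈ Z := ⟨CfsgLib.Coprime.mem_normalizer_conj hzQ hcZ.1,
    mem_centralizer_iff.2 fun y hy => by
      have h1 := mem_centralizer_iff.1 hcZ.2 _ (CfsgLib.Coprime.mem_normalizer_conj' hzQ hy)
      calc y * (z * c * z⁻¹) = z * ((z⁻¹ * y * z) * c) * z⁻¹ := by group
        _ = _ := by rw [h1]; group⟩
  have hpw : (z * c * z⁻¹) ^ orderOf c = 1 := by
    rw [conj_pow, pow_orderOf_eq_one, mul_one, mul_inv_cancel]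
  obtain ⟨i, hi⟩ := mem_zpowers_iff.1 (mem_zpowers_of_pow_eq_one hA (hA' c hcZ) (hA' _ hd) hpw)
  obtain ⟨k, hk⟩ : ∃ k : ℕ, z * c * z⁻¹ = c ^ k := ⟨(i % (orderOf c : ℤ)).toNat, by
    rw [← hi, ← zpow_natCast, Int.toNat_of_nonneg (Int.emod_nonneg _ (by exact_mod_cast (orderOf_pos c).ne')),
      zpow_mod_orderOf]⟩
  refine ⟨k, ?_⟩
  haveI := Fact.mk T.prime_b
  have hiter : ∀ n : ℕ, z ^ n * c * (z ^ n)⁻¹ = c ^ (k ^ n) := by
    intro n
    induction n with
    | zero => simp
    | succ n ih =>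
      calc z ^ (n + 1) * c * (z ^ (n + 1))⁻¹ = z * (z ^ n * c * (z ^ n)⁻¹) * z⁻¹ := by
            rw [pow_succ']; group
        _ = (z * c * z⁻¹) ^ (k ^ n) := by rw [ih, conj_pow]
        _ = _ := by rw [hk, ← pow_mul, pow_succ']
  refine orderOf_eq_prime ?_ fun h1 => ?_
  · have h := hiter b
    rw [← T.ord_z, pow_orderOf_eq_one, one_mul, inv_one, mul_one, T.ord_z] at h
    have h' : c ^ (1 : ℕ) = c ^ (k ^ b) := by rw [pow_one]; exact h
    have := (ZMod.natCast_eq_natCast_iff 1 (k ^ b) q).2 (hc ▸ pow_eq_pow_iff_modEq.1 h')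
    push_cast at this
    exact this.symm
  · have h2 : c ^ k = c ^ (1 : ℕ) := by
      rw [pow_eq_pow_iff_modEq, hc, ← ZMod.natCast_eq_natCast_iff]
      simpa using h1
    rw [← hk, pow_one] at h2
    have h3 : Commute z c := mul_inv_eq_iff_eq_mul.1 h2
    have h4 : r * c * r⁻¹ = c := mul_inv_eq_iff_eq_mul.2 (T.fix c (hQN hcZ.1) h3).eq
    have h5 := eq_one_of_inv_eq T.odd_N (hQN hcZ.1) ((hZinv c hcZ).symm.trans h4)
    rw [h5, orderOf_one] at hc
    exact (Fact.out : q.Prime).ne_one hc.symm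

/-- **Key step.** Inverted elements of an invariant `q`-group centralise an invariant `p`-group it
normalises. -/
theorem inverted_mem_centralizer (T : Twist N r z b) {p q : ℕ} [Fact p.Prime] [Fact q.Prime] (hpq : p ≠ q)
    {W : Subgroup G} (hWN : W ≤ N) (hW : IsPGroup p W)
    (hzW : z ∈ normalizer (W : Set G)) (hrW : r ∈ normalizer (W : Set G)) :
    ∀ (n : ℕ) (Q : Subgroup G), Nat.card Q ≤ n → Q ≤ N → IsPGroup q Q → z ∈ normalizer (Q : Set G) →
      r ∈ normalizer (Q : Set G) → Q ≤ normalizer (W : Set G) →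
      ∀ x ∈ invSet Q r, x ∈ centralizer (W : Set G) := by
  intro n
  induction n with
  | zero => exact fun Q hn => absurd hn (by have := Nat.card_pos (α := Q); omega)
  | succ n ih =>
    intro Q hn hQN hQ hzQ hrQ hQW
    have hsub : ∀ Q' : Subgroup G, Q' < Q → z ∈ normalizer (Q' : Set G) → r ∈ normalizer (Q' : Set G) →
        ∀ x ∈ invSet Q' r, x ∈ centralizer (W : Set G) := fun Q' hlt hz' hr' => by
      refine ih Q' ?_ (hlt.le.trans hQN) (hQ.to_le hlt.le) hz' hr' (hlt.le.trans hQW)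
      have h1 : Nat.card Q' < Nat.card Q := lt_of_le_of_ne (card_le_of_le hlt.le) fun e =>
        hlt.ne (eq_of_le_of_card_ge hlt.le e.ge)
      omega
    -- invariance of the subgroup generated by the inverted elements
    have hnorm : ∀ a : G, a ∈ normalizer (Q : Set G) → Commute a r →
        a ∈ normalizer ((closure (invSet Q r) : Subgroup G) : Set G) := fun a ha har =>
      CfsgLib.Coprime.mem_normalizer_of_forall_conj fun x hx => by
        have h : (closure (invSet Q r)).map (MulAut.conj a).toMonoidHom ≤ closure (invSet Q r) := by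
          rw [MonoidHom.map_closure, closure_le]
          rintro _ ⟨j, hj, rfl⟩
          refine subset_closure ⟨CfsgLib.Coprime.mem_normalizer_conj ha hj.1, ?_⟩
          show r * (a * j * a⁻¹) * r⁻¹ = (a * j * a⁻¹)⁻¹
          calc r * (a * j * a⁻¹) * r⁻¹ = (r * a) * j * (r * a)⁻¹ := by group
            _ = (a * r) * j * (a * r)⁻¹ := by rw [har.eq]
            _ = a * (r * j * r⁻¹) * a⁻¹ := by group
            _ = _ := by rw [hj.2]; group
        exact h ⟨x, hx, rfl⟩
    by_cases hgen : Q ≤ closure (invSet Q r)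
    swap
    · intro x hx
      have hle : closure (invSet Q r) ≤ Q := (closure_le Q).2 fun j hj => hj.1
      exact hsub _ (lt_of_le_of_ne hle fun h => hgen h.ge) (hnorm z hzQ T.comm.symm) (hnorm r hrQ (Commute.refl r))
        x ⟨subset_closure hx, hx.2⟩
    by_cases hab : ∀ x ∈ Q, ∀ y ∈ Q, Commute x y
    · have hinv : ∀ x ∈ Q, r * x * r⁻¹ = x⁻¹ := by
        intro x hx
        refine (closure_induction (k := invSet Q r) (p := fun y _ => y ∈ Q ∧ r * y * r⁻¹ = y⁻¹)
          (fun j hj => hj) ⟨Q.one_mem, by simp⟩ (fun u v _ _ hu hv => ⟨Q.mul_mem hu.1 hv.1, ?_⟩)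
          (fun u _ hu => ⟨Q.inv_mem hu.1, ?_⟩) (hgen hx)).2
        · calc r * (u * v) * r⁻¹ = (r * u * r⁻¹) * (r * v * r⁻¹) := by group
            _ = u⁻¹ * v⁻¹ := by rw [hu.2, hv.2]
            _ = _ := by rw [(hab u hu.1 v hv.1).eq, mul_inv_rev]
        · calc r * u⁻¹ * r⁻¹ = (r * u * r⁻¹)⁻¹ := by group
            _ = _ := by rw [hu.2]
      intro x hx
      exact le_centralizer_of_inverted T hpq hQN hWN hQ hW hzQ hrQ hzW hrW hQW hinv hx.1
    obtain ⟨k, hk⟩ := exists_eigenvalue T hQN hQ hzQ hrQ hgen hab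
    -- the Frattini quotient
    have hcommV : ∀ u v : Q ⧸ frattini Q, u * v = v * u := by
      intro u v
      induction u using QuotientGroup.induction_on with | _ u => ?_
      induction v using QuotientGroup.induction_on with | _ v => ?_
      exact QuotientGroup.eq.2 (CfsgLib.PGroup.commutator_le_frattini hQ (commutator_swap_mem u v))
    letI : CommGroup (Q ⧸ frattini Q) :=
      { (inferInstance : Group (Q ⧸ frattini Q)) with mul_comm := hcommV }
    let m := QuotientGroup.mk' (frattini Q)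
    have hexp : ∀ (v : Q ⧸ frattini Q) (i j : ℕ), (i : ZMod q) = (j : ZMod q) → v ^ i = v ^ j := by
      intro v i j h
      obtain ⟨y, rfl⟩ := QuotientGroup.mk'_surjective (frattini Q) v
      refine pow_eq_pow_iff_modEq.2 (Nat.ModEq.of_dvd ?_ ((ZMod.natCast_eq_natCast_iff i j q).1 h))
      refine orderOf_dvd_of_pow_eq_one ?_
      rw [← map_pow]
      exact (QuotientGroup.eq_one_iff _).2 (CfsgLib.PGroup.pow_mem_frattini hQ y)
    let φz : Q ≃* Q := Q.normalizerMonoidHom ⟨z, hzQ⟩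
    let φr : Q ≃* Q := Q.normalizerMonoidHom ⟨r, hrQ⟩
    have hφz : ∀ y : Q, (φz y : G) = z * y * z⁻¹ := fun y => rfl
    have hφr : ∀ y : Q, (φr y : G) = r * y * r⁻¹ := fun y => rfl
    let σ : (Q ⧸ frattini Q) →* (Q ⧸ frattini Q) := QuotientGroup.map _ _ φz.toMonoidHom
      ((frattini_characteristic (G := Q)).fixed φz).ge
    have hσ : ∀ y : Q, σ (m y) = m (φz y) := fun y => rfl
    have hrm : ∀ (g : G) (hg : g ∈ Q), m (φr ⟨g, hg⟩) = (m ⟨g, hg⟩)⁻¹ := by
      intro g hg
      obtain ⟨hg', h⟩ := closure_induction (k := invSet Q r)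
        (p := fun y _ => ∃ hy : y ∈ Q, m (φr ⟨y, hy⟩) = (m ⟨y, hy⟩)⁻¹)
        (fun j hj => ⟨hj.1, by
          rw [← map_inv]
          exact congrArg m (Subtype.ext (by rw [hφr]; exact hj.2))⟩)
        ⟨Q.one_mem, by
          show m (φr 1) = (m 1)⁻¹
          rw [map_one, map_one, inv_one]⟩
        (fun u v _ _ hu hv => by
          obtain ⟨hu', hu⟩ := hu
          obtain ⟨hv', hv⟩ := hv
          refine ⟨Q.mul_mem hu' hv', ?_⟩
          show m (φr (⟨u, hu'⟩ * ⟨v, hv'⟩)) = (m (⟨u, hu'⟩ * ⟨v, hv'⟩))⁻¹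
          rw [map_mul, map_mul, map_mul, hu, hv, mul_inv])
        (fun u _ hu => by
          obtain ⟨hu', hu⟩ := hu
          refine ⟨Q.inv_mem hu', ?_⟩
          show m (φr (⟨u, hu'⟩⁻¹)) = (m (⟨u, hu'⟩⁻¹))⁻¹
          rw [map_inv, map_inv, map_inv, hu]) (hgen hg)
      exact h
    set C := ((centralizer (W : Set G)).subgroupOf Q).map m with hC
    have heig : ∀ (v : Q ⧸ frattini Q) (e : ℕ), σ v = v ^ e → v ∈ C := by
      intro v e hv
      obtain ⟨g, rfl⟩ := QuotientGroup.mk'_surjective (frattini Q) v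
      change σ (m g) = m g ^ e at hv
      show m g ∈ C
      let P := (zpowers (m g)).comap m
      have hPz : ∀ y ∈ P, φz y ∈ P := fun y hy => by
        obtain ⟨i, hi⟩ := mem_zpowers_iff.1 hy
        show m (φz y) ∈ zpowers (m g)
        rw [← hσ, ← hi, map_zpow, hv]
        exact Subgroup.zpow_mem _ (Subgroup.pow_mem _ (mem_zpowers _) _) _
      have hPr : ∀ y ∈ P, φr y ∈ P := fun y hy => by
        show m (φr y) ∈ zpowers (m g)
        rw [show y = ⟨(y : G), y.2⟩ from rfl, hrm]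
        exact Subgroup.inv_mem _ hy
      have hne : P ≠ ⊤ := fun htop => hab (by
        have h1 : zpowers g = ⊤ := by
          refine frattini_nongenerating (eq_top_iff.2 fun y _ => ?_)
          obtain ⟨i, hi⟩ := mem_zpowers_iff.1 (show m y ∈ zpowers (m g) from
            show y ∈ P from htop ▸ mem_top y)
          have h2 : (g ^ i)⁻¹ * y ∈ frattini Q := QuotientGroup.eq.1 (by
            show m (g ^ i) = m y
            rw [map_zpow, hi])
          have := mul_mem (mem_sup_left (T := frattini Q) (Subgroup.zpow_mem _ (mem_zpowers g) i)) (mem_sup_right h2)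
          rwa [mul_inv_cancel_left] at this
        intro x hx y hy
        obtain ⟨i, hi⟩ := mem_zpowers_iff.1 (h1 ▸ mem_top (⟨x, hx⟩ : Q))
        obtain ⟨j, hj⟩ := mem_zpowers_iff.1 (h1 ▸ mem_top (⟨y, hy⟩ : Q))
        have h := congrArg Subtype.val (zpow_mul_comm g i j)
        rw [hi, hj] at h
        exact h)
      have hlt : P.map Q.subtype < Q := lt_of_le_of_ne (map_subtype_le _) fun h => hne
        (map_injective Q.subtype_injective (by rw [h, ← MonoidHom.range_eq_map, range_subtype]))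
      have hzP : z ∈ normalizer (P.map Q.subtype : Set G) :=
        CfsgLib.Coprime.mem_normalizer_of_forall_conj (by
          rintro _ ⟨y, hy, rfl⟩; exact ⟨φz y, hPz y hy, hφz y⟩)
      have hrP : r ∈ normalizer (P.map Q.subtype : Set G) :=
        CfsgLib.Coprime.mem_normalizer_of_forall_conj (by
          rintro _ ⟨y, hy, rfl⟩; exact ⟨φr y, hPr y hy, hφr y⟩)
      have hgP : g ∈ P := mem_zpowers _
      have hu : g⁻¹ * φr g ∈ P := P.mul_mem (P.inv_mem hgP) (hPr g hgP)
      have hu' := twisted_mem_invSet T hrQ g.2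
      have hcu := hsub _ hlt hzP hrP _ ⟨⟨g⁻¹ * φr g, hu, rfl⟩, hu'.2⟩
      have h2 : (m g)⁻¹ * (m g)⁻¹ ∈ C := by
        refine ⟨g⁻¹ * φr g, hcu, ?_⟩
        rw [map_mul, map_inv, show g = ⟨(g : G), g.2⟩ from rfl, hrm]
      have hq : Odd q := (Fact.out : q.Prime).odd_of_ne_two fun h2 => by
        obtain ⟨i, hi⟩ := IsPGroup.iff_card.1 hQ
        have hQ1 : Nat.card Q ≠ 1 := fun h1 => hab fun x hx y _ => by
          rw [Subgroup.card_eq_one.1 h1, mem_bot] at hx; subst hx; exact Commute.one_left y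
        have hi0 : i ≠ 0 := fun h => hQ1 (by rw [hi, h, pow_zero])
        have : 2 ∣ Nat.card N := (dvd_pow_self 2 hi0).trans (h2 ▸ hi ▸ card_dvd_of_le hQN)
        exact Nat.not_even_iff_odd.2 T.odd_N (even_iff_two_dvd.2 this)
      obtain ⟨l, hl⟩ := hq
      have h3 : m g = (((m g)⁻¹ * (m g)⁻¹)⁻¹) ^ (l + 1) := by
        rw [mul_inv, inv_inv, ← pow_two, ← pow_mul]
        nth_rewrite 1 [← pow_one (m g)]
        refine hexp _ _ _ ?_
        rw [show 2 * (l + 1) = q + 1 by omega]
        simp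
      rw [h3]
      exact C.pow_mem (C.inv_mem h2) _
    -- eigen decomposition
    have hall : ∀ x (hx : x ∈ invSet Q r), m ⟨x, hx.1⟩ ∈ C := by
      intro x hx
      let e : ℕ → Q ⧸ frattini Q := fun i => m ((φz ^ i : Q ≃* Q) ⟨x, hx.1⟩)
      have he0 : e 0 = m ⟨x, hx.1⟩ := by
        show m ((φz ^ 0 : Q ≃* Q) _) = _
        rw [pow_zero]; rfl
      have hes : ∀ i, σ (e i) = e (i + 1) := fun i => by
        show σ (m _) = m _
        rw [hσ, pow_succ']; rfl
      have heb : e b = e 0 := by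
        show m ((φz ^ b : Q ≃* Q) _) = m ((φz ^ 0 : Q ≃* Q) _)
        have hb1 : (⟨z, hzQ⟩ : normalizer (Q : Set G)) ^ b = 1 := Subtype.ext (by
          show z ^ b = 1
          rw [← T.ord_z, pow_orderOf_eq_one])
        rw [show φz ^ b = 1 by rw [← map_pow, hb1, map_one], pow_zero]
      set ω : ZMod q := (k : ZMod q)
      have hωb : ω ^ b = 1 := by rw [← hk, pow_orderOf_eq_one]
      let π : ℕ → Q ⧸ frattini Q := fun j => ∏ i ∈ Finset.range b, e i ^ (k ^ ((b - i) * j))
      have hπ : ∀ j, σ (π j) = π j ^ (k ^ j) := fun j => by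
        let F : ℕ → Q ⧸ frattini Q := fun i => e i ^ (k ^ ((b + 1 - i) * j))
        have h1 : σ (π j) = ∏ i ∈ Finset.range b, F (i + 1) := by
          simp only [π]
          rw [map_prod]
          refine Finset.prod_congr rfl fun i _ => ?_
          rw [map_pow, hes]
          simp only [F, Nat.add_sub_add_right]
        have h2 : ∏ i ∈ Finset.range b, F (i + 1) = ∏ i ∈ Finset.range b, F i := by
          have hF : F b = F 0 := by
            simp only [F, heb]
            refine hexp _ _ _ ?_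
            rw [Nat.add_sub_cancel_left, Nat.sub_zero, one_mul]
            push_cast
            rw [show (k : ZMod q) ^ ((b + 1) * j) = (ω ^ b) ^ j * ω ^ j by
              rw [← pow_mul, ← pow_add]; congr 1; ring, hωb, one_pow, one_mul]
          have h := Finset.prod_range_succ' F b
          rw [Finset.prod_range_succ, hF] at h
          exact (mul_right_cancel h).symm
        rw [h1, h2]
        simp only [π]
        rw [← Finset.prod_pow]
        refine Finset.prod_congr rfl fun i hi => ?_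
        have hib := Finset.mem_range.1 hi
        simp only [F]
        rw [← pow_mul, ← pow_add]
        congr 2
        rw [show b + 1 - i = (b - i) + 1 by omega, add_mul, one_mul]
      have hsum : ∏ j ∈ Finset.range b, π j = m ⟨x, hx.1⟩ ^ b := by
        simp only [π]
        rw [Finset.prod_comm, Finset.prod_eq_single_of_mem 0 (Finset.mem_range.2 T.prime_b.pos)]
        · rw [Finset.prod_pow_eq_pow_sum, he0]
          refine hexp _ _ _ ?_
          push_cast
          simp only [Nat.sub_zero, pow_mul, show (k : ZMod q) ^ b = 1 from hωb, one_pow, Finset.sum_const,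
            Finset.card_range, nsmul_eq_mul, mul_one]
        · intro i hi hi0
          rw [Finset.prod_pow_eq_pow_sum]
          rw [← pow_zero (e i)]
          refine hexp _ _ _ ?_
          push_cast
          simp only [pow_mul]
          have hib := Finset.mem_range.1 hi
          have hne : ω ^ (b - i) ≠ 1 :=
            pow_ne_one_of_lt_orderOf (by omega) (by rw [hk]; omega)
          have hg := geom_sum_mul (ω ^ (b - i)) b
          rw [← pow_mul, mul_comm (b - i) b, pow_mul, hωb, one_pow, sub_self] at hg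
          exact (mul_eq_zero.1 hg).resolve_right (sub_ne_zero.2 hne)
      have hb' : m ⟨x, hx.1⟩ ^ b ∈ C := hsum ▸ C.prod_mem fun j _ => heig _ _ (hπ j)
      have hne : (b : ZMod q) ≠ 0 := fun h => by
        rw [ZMod.natCast_eq_zero_iff] at h
        have hqb : q = b := (Nat.prime_dvd_prime_iff_eq Fact.out T.prime_b).1 h
        obtain ⟨i, hi⟩ := IsPGroup.iff_card.1 hQ
        have hi0 : i ≠ 0 := fun h0 => hab fun u hu v _ => by
          have h1 : Nat.card Q = 1 := by rw [hi, h0, pow_zero]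
          rw [Subgroup.card_eq_one.1 h1, mem_bot] at hu; subst hu; exact Commute.one_left v
        exact T.ncop ((dvd_pow_self b hi0).trans (hqb ▸ hi ▸ card_dvd_of_le hQN))
      have h4 : m ⟨x, hx.1⟩ = (m ⟨x, hx.1⟩ ^ b) ^ ((b : ZMod q)⁻¹).val := by
        rw [← pow_mul]
        nth_rewrite 1 [← pow_one (m ⟨x, hx.1⟩)]
        refine hexp _ _ _ ?_
        push_cast
        rw [ZMod.natCast_zmod_val, mul_inv_cancel₀ hne]
      rw [h4]
      exact C.pow_mem hb' _
    have htop : (centralizer (W : Set G)).subgroupOf Q = ⊤ := by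
      refine frattini_nongenerating (eq_top_iff.2 fun y _ => ?_)
      have hy : m y ∈ C := by
        obtain ⟨hy', h⟩ := closure_induction (k := invSet Q r) (p := fun u _ => ∃ hu : u ∈ Q, m ⟨u, hu⟩ ∈ C)
          (fun j hj => ⟨hj.1, hall j hj⟩) ⟨Q.one_mem, by
            show m 1 ∈ C
            rw [map_one]; exact C.one_mem⟩
          (fun u v _ _ hu hv => by
            obtain ⟨hu', hu⟩ := hu
            obtain ⟨hv', hv⟩ := hv
            refine ⟨Q.mul_mem hu' hv', ?_⟩
            show m (⟨u, hu'⟩ * ⟨v, hv'⟩) ∈ C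
            rw [map_mul]; exact C.mul_mem hu hv)
          (fun u _ hu => by
            obtain ⟨hu', hu⟩ := hu
            refine ⟨Q.inv_mem hu', ?_⟩
            show m (⟨u, hu'⟩⁻¹) ∈ C
            rw [map_inv]; exact C.inv_mem hu) (hgen y.2)
        exact h
      obtain ⟨w, hw, hwy⟩ := hy
      have h2 : w⁻¹ * y ∈ frattini Q := QuotientGroup.eq.1 hwy
      have := mul_mem (mem_sup_left (T := frattini Q) hw) (mem_sup_right h2)
      rwa [mul_inv_cancel_left] at this
    intro x hx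
    exact (Subgroup.subgroupOf_eq_top.1 htop) hx.1

end CfsgLib.BenderQ.Residual
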